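import Mathlib

/-!
# Tools for linear groups over the field with two elements
-/

set_option autoImplicit false
set_option linter.unusedSectionVars false
set_option linter.style.haveILetI false

namespace Cfsg.Agent.H45.Mersenne

open Module MulAction

instance finiteLinearEquivTwo {V : Type*} [AddCommGroup V] [Module (ZMod 2) V] [Finite V] :
    Finite (V ≃ₗ[ZMod 2] V) :=
  Finite.of_injective (fun g => (g : V → V)) DFunLike.coe_injective

/-- The orbit-stabiliser count for a subgroup. -/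
theorem orbit_card_mul {Γ X : Type*} [Group Γ] [MulAction Γ X] (G : Subgroup Γ) (x : X) :
    Set.ncard (orbit G x) * Nat.card (G ⊓ stabilizer Γ x : Subgroup Γ) = Nat.card G := by
  have h : stabilizer G x = (G ⊓ stabilizer Γ x).subgroupOf G := by
    ext g
    simp [Subgroup.mem_subgroupOf, Subgroup.smul_def]
  rw [← index_stabilizer, ← Nat.card_congr (Subgroup.subgroupOfEquivOfLe inf_le_left).toEquiv, h,
    Subgroup.index_mul_card]

/-- A subgroup of odd index in a group transitive on a set of `2`-power size is transitive. -/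
theorem transitive_of_odd_index {Γ X : Type*} [Group Γ] [Finite Γ] [MulAction Γ X] {G H : Subgroup Γ}
    (hHG : H ≤ G) {S : Set X} {m q : ℕ} (hS : S.ncard = 2 ^ m)
    (hmap : ∀ g ∈ G, ∀ x ∈ S, g • x ∈ S) (htr : ∀ x ∈ S, ∀ y ∈ S, ∃ g ∈ G, g • x = y)
    (hq : Odd q) (hcard : Nat.card G = q * Nat.card H) :
    ∀ x ∈ S, ∀ y ∈ S, ∃ h ∈ H, h • x = y := by
  intro x hx y hy
  have hfin : S.Finite := Set.finite_of_ncard_pos (by rw [hS]; positivity)
  have hG : orbit G x = S := by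
    ext z
    constructor
    · rintro ⟨g, rfl⟩
      exact hmap g.1 g.2 x hx
    · intro hz
      obtain ⟨g, hg, rfl⟩ := htr x hx z hz
      exact ⟨⟨g, hg⟩, rfl⟩
  have hsub : orbit H x ⊆ S := by
    rintro z ⟨h, rfl⟩
    exact hmap h.1 (hHG h.2) x hx
  have e1 := orbit_card_mul G x
  have e2 := orbit_card_mul H x
  rw [hG, hS] at e1
  obtain ⟨c, hc⟩ : Nat.card (H ⊓ stabilizer Γ x : Subgroup Γ) ∣
      Nat.card (G ⊓ stabilizer Γ x : Subgroup Γ) :=
    Subgroup.card_dvd_of_le (inf_le_inf_right _ hHG)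
  have hpos : 0 < Nat.card (H ⊓ stabilizer Γ x : Subgroup Γ) := Nat.card_pos
  have h3 : 2 ^ m * c = q * (orbit H x).ncard := by
    apply Nat.eq_of_mul_eq_mul_right hpos
    rw [mul_assoc, mul_comm c, ← hc, e1, hcard, mul_assoc, e2]
  have hdvd : 2 ^ m ∣ (orbit H x).ncard := by
    have : Nat.Coprime (2 ^ m) q := Nat.Coprime.pow_left _ (Nat.coprime_two_left.2 hq)
    exact this.dvd_of_dvd_mul_left ⟨c, h3.symm⟩
  have hne : 0 < (orbit H x).ncard :=
    (Set.ncard_pos (hfin.subset hsub)).2 ⟨x, mem_orbit_self x⟩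
  have heq : orbit H x = S := Set.eq_of_subset_of_ncard_le hsub
    (hS ▸ Nat.le_of_dvd hne hdvd) hfin
  rw [← heq] at hy
  obtain ⟨h, rfl⟩ := hy
  exact ⟨h.1, h.2, rfl⟩

theorem natCast_zmod_two_of_odd {m : ℕ} (h : Odd m) : (m : ZMod 2) = 1 := by
  obtain ⟨t, rfl⟩ := h
  simp [CharTwo.two_eq_zero]

/-- If a prime power is one less than a power of two then it is a prime. -/
theorem eq_one_of_pow_eq_two_pow_sub_one {s j k : ℕ} (hk : 2 ≤ k) (h : s ^ j = 2 ^ k - 1) :
    j = 1 := by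
  have h4 : 4 ∣ 2 ^ k := by
    obtain ⟨i, rfl⟩ := Nat.exists_eq_add_of_le hk
    exact ⟨2 ^ i, by rw [pow_add]; norm_num⟩
  have h2 : 4 ≤ 2 ^ k := Nat.le_of_dvd (by positivity) h4
  have hj : j ≠ 0 := by
    rintro rfl
    simp at h
    omega
  have hsodd : Odd s := by
    rcases Nat.even_or_odd s with he | ho
    · exfalso
      have : Even (s ^ j) := he.pow_of_ne_zero hj
      rw [h, even_iff_two_dvd] at this
      omega
    · exact ho
  rcases Nat.even_or_odd j with ⟨i, rfl⟩ | hodd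
  · exfalso
    have ho : Odd (s ^ i) := hsodd.pow
    obtain ⟨t, ht⟩ := ho
    rw [pow_add, ht] at h
    have : (2 * t + 1) * (2 * t + 1) = 4 * (t * t + t) + 1 := by ring
    omega
  · by_contra hne
    have hs : 2 ≤ s := by
      by_contra hs
      interval_cases s
      · simp [hj] at h; omega
      · simp at h; omega
    have hodd' : Odd (∑ i ∈ Finset.range j, (-(s : ℤ)) ^ i) := by
      rw [← Int.not_even_iff_odd, even_iff_two_dvd, show (2 : ℤ) = ((2 : ℕ) : ℤ) from rfl,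
        ← ZMod.intCast_zmod_eq_zero_iff_dvd]
      have hs1 : ((s : ℤ) : ZMod 2) = 1 := by
        rw [Int.cast_natCast]
        exact natCast_zmod_two_of_odd hsodd
      push_cast at hs1 ⊢
      simp only [hs1, ZModModule.neg_eq_self, one_pow, Finset.sum_const, Finset.card_range,
        nsmul_eq_mul, mul_one]
      obtain ⟨t, rfl⟩ := hodd
      simp [CharTwo.two_eq_zero]
    have hgeom : (∑ i ∈ Finset.range j, (-(s : ℤ)) ^ i) * ((s : ℤ) + 1) = 2 ^ k := by
      have h1 := geom_sum_mul (-(s : ℤ)) j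
      rw [hodd.neg_pow] at h1
      have h' : (s : ℤ) ^ j + 1 = 2 ^ k := by
        have : s ^ j + 1 = 2 ^ k := by omega
        exact_mod_cast this
      linarith
    have hunit : IsUnit (∑ i ∈ Finset.range j, (-(s : ℤ)) ^ i) := by
      have hc : IsCoprime (∑ i ∈ Finset.range j, (-(s : ℤ)) ^ i) ((2 : ℤ) ^ k) := by
        apply IsCoprime.pow_right
        obtain ⟨t, ht⟩ := hodd'
        exact ⟨1, -t, by rw [ht]; ring⟩
      exact hc.isUnit_of_dvd ⟨_, hgeom.symm⟩
    have hle : (2 : ℤ) ^ k ≤ (s : ℤ) + 1 := by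
      have hs0 : (0 : ℤ) ≤ s := by positivity
      rcases Int.isUnit_eq_one_or hunit with e | e <;> rw [e] at hgeom <;> linarith
    have hle' : 2 ^ k ≤ s + 1 := by exact_mod_cast hle
    have : s ^ 1 < s ^ j := Nat.pow_lt_pow_right hs (by omega)
    rw [pow_one] at this
    omega

variable {V : Type*} [AddCommGroup V] [Module (ZMod 2) V] [Finite V]

theorem zmod_two_cases (c : ZMod 2) : c = 0 ∨ c = 1 := by
  revert c; decide

theorem nsmul_of_odd {m : ℕ} (h : Odd m) (v : V) : m • v = v := by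
  rw [← Nat.cast_smul_eq_nsmul (ZMod 2), natCast_zmod_two_of_odd h, one_smul]

theorem nsmul_of_even {m : ℕ} (h : Even m) (v : V) : m • v = 0 := by
  obtain ⟨t, rfl⟩ := h
  rw [add_nsmul, ZModModule.add_self]

theorem add_eq_zero_iff_eq' (v w : V) : v + w = 0 ↔ v = w := by
  rw [← ZModModule.sub_eq_add, sub_eq_zero]

theorem natCard_eq_two_pow (S : Submodule (ZMod 2) V) : Nat.card S = 2 ^ finrank (ZMod 2) S := by
  rw [Module.natCard_eq_pow_finrank (K := ZMod 2)]
  simp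

/-- A functional vanishing on a subspace and nonzero at two given vectors outside it. -/
theorem exists_dual_vanish (S : Submodule (ZMod 2) V) {x y : V} (hx : x ∉ S) (hy : y ∉ S) :
    ∃ φ : Dual (ZMod 2) V, (∀ v ∈ S, φ v = 0) ∧ φ x = 1 ∧ φ y = 1 := by
  obtain ⟨f, hf, hfS⟩ := Submodule.exists_dual_map_eq_bot_of_notMem hx inferInstance
  have hfS' : ∀ v ∈ S, f v = 0 := fun v hv => by
    have : f v ∈ Submodule.map f S := ⟨v, hv, rfl⟩
    rw [hfS] at this
    exact this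
  have hfx : f x = 1 := (zmod_two_cases (f x)).resolve_left hf
  rcases zmod_two_cases (f y) with h | h
  swap
  · exact ⟨f, hfS', hfx, h⟩
  obtain ⟨g, hg, hgS⟩ := Submodule.exists_dual_map_eq_bot_of_notMem hy inferInstance
  have hgS' : ∀ v ∈ S, g v = 0 := fun v hv => by
    have : g v ∈ Submodule.map g S := ⟨v, hv, rfl⟩
    rw [hgS] at this
    exact this
  have hgy : g y = 1 := (zmod_two_cases (g y)).resolve_left hg
  rcases zmod_two_cases (g x) with h' | h'
  · exact ⟨f + g, fun v hv => by simp [hfS' v hv, hgS' v hv], by simp [hfx, h'], by simp [h, hgy]⟩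
  · exact ⟨g, hgS', h', hgy⟩

/-- The group of elements fixing every vector of a subspace. -/
def fixingSub (S : Submodule (ZMod 2) V) : Subgroup (V ≃ₗ[ZMod 2] V) where
  carrier := {g | ∀ v ∈ S, g v = v}
  one_mem' := fun v _ => rfl
  mul_mem' := fun {g h} hg hh v hv => by rw [LinearEquiv.mul_apply, hh v hv, hg v hv]
  inv_mem' := fun {g} hg v hv => by
    conv_lhs => rw [← hg v hv]
    rw [← LinearEquiv.mul_apply, inv_mul_cancel]
    rfl

theorem mem_fixingSub {S : Submodule (ZMod 2) V} {g : V ≃ₗ[ZMod 2] V} :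
    g ∈ fixingSub S ↔ ∀ v ∈ S, g v = v := Iff.rfl

/-- The vectors fixed by a set of linear maps. -/
def fixedBy' (T : Set (V ≃ₗ[ZMod 2] V)) : Submodule (ZMod 2) V where
  carrier := {v | ∀ g ∈ T, g v = v}
  add_mem' := fun {v w} hv hw g hg => by rw [map_add, hv g hg, hw g hg]
  zero_mem' := fun g _ => map_zero g
  smul_mem' := fun c v hv g hg => by rw [map_smul, hv g hg]

theorem mem_fixedBy' {T : Set (V ≃ₗ[ZMod 2] V)} {v : V} :
    v ∈ fixedBy' T ↔ ∀ g ∈ T, g v = v := Iff.rfl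

/-- Transvections generate the general linear group. -/
theorem eq_top_of_transvections (G : Subgroup (V ≃ₗ[ZMod 2] V))
    (h : ∀ (φ : Dual (ZMod 2) V) (v : V) (hφ : φ v = 0), LinearEquiv.transvection hφ ∈ G) :
    G = ⊤ := by
  rw [eq_top_iff]
  suffices H : ∀ N, ∀ g : V ≃ₗ[ZMod 2] V,
      finrank (ZMod 2) V - finrank (ZMod 2) (fixedBy' {g}) = N → g ∈ G from
    fun g _ => H _ g rfl
  intro N
  induction N using Nat.strong_induction_on with
  | _ N ih =>
    intro g hn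
    subst hn
    by_cases hall : fixedBy' {g} = ⊤
    · have : g = 1 := LinearEquiv.ext fun v =>
        (hall ▸ Submodule.mem_top : v ∈ fixedBy' {g}) g rfl
      rw [this]; exact one_mem G
    obtain ⟨u, hu⟩ : ∃ u, u ∉ fixedBy' {g} := by
      by_contra hc
      push Not at hc
      exact hall (Submodule.eq_top_iff'.2 hc)
    set S := fixedBy' {g} with hS
    have hfix : ∀ v ∈ S, g v = v := fun v hv => hv g rfl
    have hgu : g u ∉ S := fun hc => hu (by
      have : g (g u) = g u := hfix _ hc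
      have : g u = u := g.injective this
      intro k hk; rw [Set.mem_singleton_iff.1 hk, this])
    obtain ⟨φ, hφS, hφu, hφgu⟩ := exists_dual_vanish S hu hgu
    have hφ0 : φ (u + g u) = 0 := by rw [map_add, hφu, hφgu]; rfl
    set τ := LinearEquiv.transvection hφ0 with hτ
    have hτg : τ (g u) = u := by
      rw [hτ, LinearEquiv.transvection.apply, hφgu, one_smul, add_comm u, ← add_assoc,
        ZModModule.add_self, zero_add]
    have hle : S ≤ fixedBy' {τ * g} := fun v hv k hk => by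
      rw [Set.mem_singleton_iff.1 hk, LinearEquiv.mul_apply, hfix v hv, hτ,
        LinearEquiv.transvection.apply, hφS v hv, zero_smul, add_zero]
    have hu' : u ∈ fixedBy' {τ * g} := fun k hk => by
      rw [Set.mem_singleton_iff.1 hk, LinearEquiv.mul_apply, hτg]
    have hlt : S < fixedBy' {τ * g} := lt_of_le_of_ne hle fun e => hu (e ▸ hu')
    have h1 := Submodule.finrank_lt_finrank_of_lt hlt
    have h2 := Submodule.finrank_le (fixedBy' {τ * g})
    have := ih (finrank (ZMod 2) V - finrank (ZMod 2) (fixedBy' {τ * g})) (by omega) (τ * g) rfl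
    exact (Subgroup.mul_mem_cancel_left G (h φ _ hφ0)).1 this

/-- An element of a linear group maps a nonzero vector to any other. -/
theorem exists_map_eq {v w : V} (hv : v ≠ 0) (hw : w ≠ 0) :
    ∃ g : V ≃ₗ[ZMod 2] V, g v = w := by
  obtain ⟨φ, -, hφv, hφw⟩ := exists_dual_vanish (⊥ : Submodule (ZMod 2) V)
    (by simpa using hv) (by simpa using hw)
  have h0 : φ (v + w) = 0 := by rw [map_add, hφv, hφw]; rfl
  exact ⟨LinearEquiv.transvection h0, by
    rw [LinearEquiv.transvection.apply, hφv, one_smul, ← add_assoc, ZModModule.add_self,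
      zero_add]⟩

/-- The sum of the elements of a finite group of linear maps. -/
noncomputable def gsum (Z : Subgroup (V ≃ₗ[ZMod 2] V)) : V →ₗ[ZMod 2] V :=
  haveI := Fintype.ofFinite Z
  ∑ z : Z, ((z : V ≃ₗ[ZMod 2] V) : V →ₗ[ZMod 2] V)

theorem gsum_apply (Z : Subgroup (V ≃ₗ[ZMod 2] V)) [Fintype Z] (v : V) :
    gsum Z v = ∑ z : Z, (z : V ≃ₗ[ZMod 2] V) v := by
  simp only [gsum, LinearMap.sum_apply, LinearEquiv.coe_coe]
  convert rfl

theorem gsum_mem_fixedBy (Z : Subgroup (V ≃ₗ[ZMod 2] V)) (v : V) :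
    gsum Z v ∈ fixedBy' (Z : Set (V ≃ₗ[ZMod 2] V)) := by
  classical
  haveI := Fintype.ofFinite Z
  intro g hg
  rw [gsum_apply, map_sum]
  exact Fintype.sum_equiv (Equiv.mulLeft (⟨g, hg⟩ : Z)) _ _ fun z => rfl

theorem gsum_of_fixed {Z : Subgroup (V ≃ₗ[ZMod 2] V)} (hZ : Odd (Nat.card Z)) {v : V}
    (hv : v ∈ fixedBy' (Z : Set (V ≃ₗ[ZMod 2] V))) : gsum Z v = v := by
  classical
  haveI := Fintype.ofFinite Z
  rw [gsum_apply, Finset.sum_congr rfl fun z _ => hv z.1 z.2, Finset.sum_const, Finset.card_univ,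
    ← Nat.card_eq_fintype_card, nsmul_of_odd hZ]

theorem gsum_commute_of_normalize {Z : Subgroup (V ≃ₗ[ZMod 2] V)} {g : V ≃ₗ[ZMod 2] V}
    (hg : ∀ z, z ∈ Z ↔ g * z * g⁻¹ ∈ Z) (v : V) : gsum Z (g v) = g (gsum Z v) := by
  classical
  haveI := Fintype.ofFinite Z
  rw [gsum_apply, gsum_apply, map_sum]
  refine (Fintype.sum_equiv ⟨fun z => ⟨g * z * g⁻¹, (hg z).1 z.2⟩,
    fun z => ⟨g⁻¹ * z * g, (hg _).2 (by simp [mul_assoc])⟩, fun z => ?_, fun z => ?_⟩ _ _
    fun z => ?_).symm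
  · apply Subtype.ext; simp [mul_assoc]
  · apply Subtype.ext; simp [mul_assoc]
  · change g ((z : V ≃ₗ[ZMod 2] V) v) = (g * z * g⁻¹) (g v)
    rw [← LinearEquiv.mul_apply, ← LinearEquiv.mul_apply]
    simp [mul_assoc]

/-- The fixed-point-free part of a group of odd order. -/
noncomputable def movedPart (Z : Subgroup (V ≃ₗ[ZMod 2] V)) : Submodule (ZMod 2) V :=
  LinearMap.ker (gsum Z)

theorem mem_movedPart {Z : Subgroup (V ≃ₗ[ZMod 2] V)} {v : V} :
    v ∈ movedPart Z ↔ gsum Z v = 0 := LinearMap.mem_ker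

theorem eq_zero_of_movedPart {Z : Subgroup (V ≃ₗ[ZMod 2] V)} (hZ : Odd (Nat.card Z)) {v : V}
    (hv : v ∈ movedPart Z) (hfix : v ∈ fixedBy' (Z : Set (V ≃ₗ[ZMod 2] V))) : v = 0 := by
  rw [← gsum_of_fixed hZ hfix]; exact hv

theorem sub_gsum_mem_movedPart {Z : Subgroup (V ≃ₗ[ZMod 2] V)} (hZ : Odd (Nat.card Z)) (v : V) :
    v - gsum Z v ∈ movedPart Z := by
  rw [mem_movedPart, map_sub, gsum_of_fixed hZ (gsum_mem_fixedBy Z v), sub_self]

theorem isCompl_movedPart {Z : Subgroup (V ≃ₗ[ZMod 2] V)} (hZ : Odd (Nat.card Z)) :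
    IsCompl (fixedBy' (Z : Set (V ≃ₗ[ZMod 2] V))) (movedPart Z) := by
  refine IsCompl.of_eq ?_ ?_
  · rw [Submodule.eq_bot_iff]
    exact fun v hv => eq_zero_of_movedPart hZ hv.2 hv.1
  · rw [Submodule.eq_top_iff']
    intro v
    rw [← add_sub_cancel (gsum Z v) v]
    exact Submodule.add_mem_sup (gsum_mem_fixedBy Z v) (sub_gsum_mem_movedPart hZ v)

theorem finrank_fixed_add_moved {Z : Subgroup (V ≃ₗ[ZMod 2] V)} (hZ : Odd (Nat.card Z)) :
    finrank (ZMod 2) (fixedBy' (Z : Set (V ≃ₗ[ZMod 2] V))) + finrank (ZMod 2) (movedPart Z) =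
      finrank (ZMod 2) V :=
  Submodule.finrank_add_eq_of_isCompl (isCompl_movedPart hZ)

theorem movedPart_ne_bot {Z : Subgroup (V ≃ₗ[ZMod 2] V)} (hZ : Odd (Nat.card Z)) (hne : Z ≠ ⊥) :
    movedPart Z ≠ ⊥ := by
  intro h
  apply hne
  rw [Subgroup.eq_bot_iff_forall]
  intro g hg
  refine LinearEquiv.ext fun v => ?_
  have h1 := sub_gsum_mem_movedPart hZ v
  rw [h, Submodule.mem_bot, sub_eq_zero] at h1
  have h2 := gsum_mem_fixedBy Z v g hg
  rw [← h1] at h2
  exact h2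

theorem apply_mem_movedPart {Z : Subgroup (V ≃ₗ[ZMod 2] V)} {g : V ≃ₗ[ZMod 2] V}
    (hg : ∀ z, z ∈ Z ↔ g * z * g⁻¹ ∈ Z) {v : V} (hv : v ∈ movedPart Z) :
    g v ∈ movedPart Z := by
  rw [mem_movedPart] at *
  rw [gsum_commute_of_normalize hg, hv, map_zero]

theorem apply_mem_fixedBy {Z : Subgroup (V ≃ₗ[ZMod 2] V)} {g : V ≃ₗ[ZMod 2] V}
    (hg : ∀ z, z ∈ Z ↔ g * z * g⁻¹ ∈ Z) {v : V}
    (hv : v ∈ fixedBy' (Z : Set (V ≃ₗ[ZMod 2] V))) :
    g v ∈ fixedBy' (Z : Set (V ≃ₗ[ZMod 2] V)) := by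
  intro z hz
  have h1 : g⁻¹ * z * g ∈ Z := (hg _).2 (by simpa [mul_assoc] using hz)
  have h2 := hv _ h1
  rw [LinearEquiv.mul_apply, LinearEquiv.mul_apply] at h2
  apply g⁻¹.injective
  rw [h2, ← LinearEquiv.mul_apply, inv_mul_cancel]
  rfl

theorem normalize_of_mem {Z : Subgroup (V ≃ₗ[ZMod 2] V)} {g : V ≃ₗ[ZMod 2] V} (hg : g ∈ Z) :
    ∀ z, z ∈ Z ↔ g * z * g⁻¹ ∈ Z := fun z => by
  rw [Subgroup.mul_mem_cancel_right Z (inv_mem hg), Subgroup.mul_mem_cancel_left Z hg]

theorem normalize_of_commute {Z : Subgroup (V ≃ₗ[ZMod 2] V)} {g : V ≃ₗ[ZMod 2] V}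
    (hg : ∀ z ∈ Z, g * z = z * g) : ∀ z, z ∈ Z ↔ g * z * g⁻¹ ∈ Z := fun z => by
  constructor
  · intro hz
    rw [hg z hz, mul_inv_cancel_right]
    exact hz
  · intro hz
    have h1 := hg _ hz
    rw [inv_mul_cancel_right] at h1
    have h2 : g * z * g⁻¹ = z := mul_left_cancel h1
    rwa [h2] at hz

/-- A group of prime power order with all orbits on the nonzero vectors of a subspace of size
divisible by `q` makes `q` divide the number of these vectors. -/
theorem dvd_two_pow_sub_one {R : Subgroup (V ≃ₗ[ZMod 2] V)} {S : Submodule (ZMod 2) V}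
    (hS : ∀ g ∈ R, ∀ v ∈ S, g v ∈ S) {q : ℕ}
    (hq : ∀ v ∈ S, v ≠ 0 → q ∣ (orbit R v).ncard) :
    q ∣ 2 ^ finrank (ZMod 2) S - 1 := by
  classical
  have hT : Set.ncard {v : V | v ∈ S ∧ v ≠ 0} = 2 ^ finrank (ZMod 2) S - 1 := by
    rw [← natCard_eq_two_pow]
    have : {v : V | v ∈ S ∧ v ≠ 0} = (S : Set V) \ {0} := by ext; simp
    rw [this, Set.ncard_sdiff_singleton_of_mem S.zero_mem]
    rfl
  rw [← hT]
  haveI := Fintype.ofFinite V
  set T : Finset V := Finset.univ.filter fun v => v ∈ S ∧ v ≠ 0 with hTdef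
  have hTc : Set.ncard {v : V | v ∈ S ∧ v ≠ 0} = T.card := by
    rw [← Set.ncard_coe_finset]
    congr 1
    ext; simp [hTdef]
  rw [hTc, Finset.card_eq_sum_card_image (fun v => orbit R v) T]
  refine Finset.dvd_sum fun O hO => ?_
  obtain ⟨v, hv, rfl⟩ := Finset.mem_image.1 hO
  simp only [hTdef, Finset.mem_filter, Finset.mem_univ, true_and] at hv
  refine (hq v hv.1 hv.2).trans (dvd_of_eq ?_)
  rw [← Set.ncard_coe_finset]
  congr 1
  symm
  ext w
  simp only [Finset.coe_filter, Set.mem_setOf_eq, hTdef, Finset.mem_filter, Finset.mem_univ,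
    true_and]
  constructor
  · rintro ⟨-, hw⟩
    rw [← hw]
    exact mem_orbit_self w
  · intro hw
    refine ⟨?_, orbit_eq_iff.2 hw⟩
    obtain ⟨g, rfl⟩ := hw
    exact ⟨hS g.1 g.2 v hv.1, fun h => hv.2 ((g : V ≃ₗ[ZMod 2] V).map_eq_zero_iff.1 h)⟩

/-- The orbit of a vector not fixed by a group of prime power order has size divisible by the
prime. -/
theorem dvd_orbit {R : Subgroup (V ≃ₗ[ZMod 2] V)} {r : ℕ} [Fact r.Prime] (hR : IsPGroup r R)
    {v : V} (hv : v ∉ fixedBy' (R : Set (V ≃ₗ[ZMod 2] V))) : r ∣ (orbit R v).ncard := by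
  obtain ⟨i, hi⟩ := hR.card_orbit v
  rw [← Nat.card_coe_set_eq, hi]
  rcases Nat.eq_zero_or_pos i with rfl | hi0
  · exfalso
    apply hv
    intro g hg
    have hcard : Nat.card (orbit R v) = 1 := by rw [hi, pow_zero]
    have := (Nat.card_eq_one_iff_unique.1 hcard).1
    exact congrArg Subtype.val (Subsingleton.elim
      (⟨g v, ⟨⟨g, hg⟩, rfl⟩⟩ : orbit R v) ⟨v, mem_orbit_self v⟩)
  · exact dvd_pow_self r hi0.ne'

/-- A fixed-point-free group of prime power order on a subspace. -/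
theorem dvd_of_pGroup {R : Subgroup (V ≃ₗ[ZMod 2] V)} {r : ℕ} [Fact r.Prime] (hR : IsPGroup r R)
    {S : Submodule (ZMod 2) V} (hS : ∀ g ∈ R, ∀ v ∈ S, g v ∈ S)
    (hfix : ∀ v ∈ S, v ∈ fixedBy' (R : Set (V ≃ₗ[ZMod 2] V)) → v = 0) :
    r ∣ 2 ^ finrank (ZMod 2) S - 1 :=
  dvd_two_pow_sub_one hS fun v hv hv0 => dvd_orbit hR fun h => hv0 (hfix v hv h)

theorem orderOf_dvd_of_dvd {r m : ℕ} (h : r ∣ 2 ^ m - 1) : orderOf (2 : ZMod r) ∣ m := by
  rw [orderOf_dvd_iff_pow_eq_one]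
  rw [← ZMod.natCast_eq_zero_iff, Nat.cast_sub Nat.one_le_two_pow, sub_eq_zero] at h
  simpa using h

/-- A two-group fixes a nonzero vector of every nonzero invariant subspace. -/
theorem exists_fixed_of_two_group {T : Subgroup (V ≃ₗ[ZMod 2] V)} (hT : IsPGroup 2 T)
    {S : Submodule (ZMod 2) V} (hS : ∀ g ∈ T, ∀ v ∈ S, g v ∈ S) (hne : S ≠ ⊥) :
    ∃ v ∈ S, v ≠ 0 ∧ v ∈ fixedBy' (T : Set (V ≃ₗ[ZMod 2] V)) := by
  by_contra hc
  push Not at hc
  have h := dvd_of_pGroup (r := 2) hT hS fun v hv hfix => by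
    by_contra hv0
    exact hc v hv hv0 hfix
  have h0 : finrank (ZMod 2) S ≠ 0 := fun h0 => hne (Submodule.finrank_eq_zero.1 h0)
  have h1 : 2 ∣ 2 ^ finrank (ZMod 2) S := dvd_pow_self 2 h0
  have := Nat.one_le_two_pow (n := finrank (ZMod 2) S)
  omega

/-- An involution trivial on one summand of an invariant decomposition fixes a large space. -/
theorem two_mul_codim_fixed_le {z : V ≃ₗ[ZMod 2] V} (hz : z * z = 1)
    {V1 V2 : Submodule (ZMod 2) V} (hc : IsCompl V1 V2) (h1 : ∀ v ∈ V1, z v = v)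
    (h2 : ∀ v ∈ V2, z v ∈ V2) :
    2 * (finrank (ZMod 2) V - finrank (ZMod 2) (fixedBy' {z})) + finrank (ZMod 2) V1 ≤
      finrank (ZMod 2) V := by
  set N : V →ₗ[ZMod 2] V := (z : V →ₗ[ZMod 2] V) - LinearMap.id with hN
  have hNv : ∀ v, N v = z v - v := fun v => rfl
  have hker : LinearMap.ker N = fixedBy' {z} := by
    ext v
    rw [LinearMap.mem_ker, hNv, sub_eq_zero, mem_fixedBy']
    simp
  have hrange2 : LinearMap.range N ≤ V2 := by
    rintro w ⟨v, rfl⟩
    obtain ⟨a, ha, b, hb, rfl⟩ := Submodule.mem_sup.1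
      (hc.sup_eq_top ▸ Submodule.mem_top : v ∈ V1 ⊔ V2)
    rw [map_add, hNv, hNv, h1 a ha, sub_self, zero_add]
    exact sub_mem (h2 b hb) hb
  have hrk : LinearMap.range N ≤ LinearMap.ker N := by
    rintro w ⟨v, rfl⟩
    rw [LinearMap.mem_ker, hNv, hNv, map_sub]
    have hzz : z (z v) = v := by rw [← LinearEquiv.mul_apply, hz]; rfl
    rw [hzz]
    simp [ZModModule.sub_eq_add, add_comm (z v) v, ZModModule.add_self]
  have hV1k : V1 ≤ LinearMap.ker N := fun v hv => by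
    rw [LinearMap.mem_ker, hNv, h1 v hv, sub_self]
  have hdis : V1 ⊓ LinearMap.range N = ⊥ :=
    le_bot_iff.1 (le_trans (inf_le_inf_left _ hrange2) hc.inf_eq_bot.le)
  have e1 := Submodule.finrank_sup_add_finrank_inf_eq V1 (LinearMap.range N)
  rw [hdis, finrank_bot] at e1
  have e2 := Submodule.finrank_mono (sup_le hV1k hrk)
  have e3 := LinearMap.finrank_range_add_finrank_ker N
  rw [hker] at e2 e3
  omega

/-- Extend a subgroup by one commuting element: a coset description. -/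
theorem card_sup_zpowers_le {Γ : Type*} [Group Γ] [Finite Γ] {Y : Subgroup Γ} {x : Γ}
    (hc : ∀ y ∈ Y, Commute y x) :
    Nat.card (Y ⊔ Subgroup.zpowers x : Subgroup Γ) ≤ Nat.card Y * orderOf x := by
  let P : Subgroup Γ :=
    { carrier := {g | ∃ y ∈ Y, ∃ i : ℤ, g = y * x ^ i}
      one_mem' := ⟨1, one_mem _, 0, by simp⟩
      mul_mem' := by
        rintro _ _ ⟨y, hy, i, rfl⟩ ⟨y', hy', j, rfl⟩
        refine ⟨y * y', mul_mem hy hy', i + j, ?_⟩
        rw [zpow_add, mul_assoc y, ← mul_assoc (x ^ i), ← ((hc y' hy').zpow_right i).eq]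
        simp only [mul_assoc]
      inv_mem' := by
        rintro _ ⟨y, hy, i, rfl⟩
        refine ⟨y⁻¹, inv_mem hy, -i, ?_⟩
        rw [mul_inv_rev, ← zpow_neg]
        exact (((hc y hy).inv_left).zpow_right (-i)).eq.symm }
  have hle : Y ⊔ Subgroup.zpowers x ≤ P := sup_le (fun y hy => ⟨y, hy, 0, by simp⟩)
    (by
      rw [Subgroup.zpowers_le]
      exact ⟨1, one_mem _, 1, by simp⟩)
  refine (Subgroup.card_le_of_le hle).trans ?_
  rw [← Nat.card_zpowers x, ← Nat.card_prod]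
  refine Nat.card_le_card_of_surjective
    (fun q : Y × Subgroup.zpowers x => (⟨(q.1 : Γ) * q.2, ?_⟩ : P)) ?_
  · obtain ⟨i, hi⟩ := q.2.2
    exact ⟨q.1, q.1.2, i, by rw [← hi]⟩
  · rintro ⟨g, y, hy, i, rfl⟩
    exact ⟨⟨⟨y, hy⟩, ⟨x ^ i, i, rfl⟩⟩, rfl⟩

theorem pow_mod_of_pow_eq_one {Γ : Type*} [Monoid Γ] {x : Γ} {r : ℕ} (h : x ^ r = 1) (a : ℕ) :
    x ^ (a % r) = x ^ a := by
  conv_rhs => rw [← Nat.mod_add_div a r]
  rw [pow_add, pow_mul, h, one_pow, mul_one]

/-- Averages over the lines of a plane of commuting linear maps. -/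
theorem sum_lines_eq {r : ℕ} [Fact r.Prime] (hr : Odd r) {x y : V ≃ₗ[ZMod 2] V}
    (hxy : Commute x y) (hy : y ^ r = 1) (v : V) :
    v = (∑ i : ZMod r, ∑ j : ZMod r, ((x * y ^ i.val) ^ j.val) v) +
      (∑ l : ZMod r, (y ^ l.val) v) + ∑ j : ZMod r, ∑ l : ZMod r, (x ^ j.val * y ^ l.val) v := by
  classical
  have hpow : ∀ (i j : ZMod r), (x * y ^ i.val) ^ j.val = x ^ j.val * y ^ (i * j).val := by
    intro i j
    rw [(hxy.pow_right _).mul_pow, ← pow_mul, ← pow_mod_of_pow_eq_one hy (i.val * j.val), ZMod.val_mul]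
  simp only [hpow]
  rw [Finset.sum_comm]
  rw [← Finset.add_sum_erase _ _ (Finset.mem_univ (0 : ZMod r)),
    ← Finset.add_sum_erase (Finset.univ : Finset (ZMod r))
      (fun j => ∑ l : ZMod r, (x ^ j.val * y ^ l.val) v) (Finset.mem_univ (0 : ZMod r))]
  have hre : ∀ j ∈ (Finset.univ : Finset (ZMod r)).erase 0,
      (∑ i : ZMod r, (x ^ j.val * y ^ (i * j).val) v) =
        ∑ l : ZMod r, (x ^ j.val * y ^ l.val) v := fun j hj =>
    Fintype.sum_equiv (Equiv.mulRight₀ j (Finset.ne_of_mem_erase hj)) _ _ fun i => rfl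
  rw [Finset.sum_congr rfl hre]
  simp only [mul_zero, ZMod.val_zero, pow_zero, one_mul, Finset.sum_const, Finset.card_univ,
    ZMod.card]
  simp only [LinearEquiv.coe_one, id_eq]
  rw [nsmul_of_odd hr]
  generalize (∑ j ∈ (Finset.univ : Finset (ZMod r)).erase 0,
    ∑ l : ZMod r, (x ^ j.val * y ^ l.val) v) = A
  generalize (∑ l : ZMod r, (y ^ l.val) v) = B
  rw [add_assoc (v + A), add_assoc v, ← add_assoc A, add_comm A B, add_assoc, ← add_assoc B,
    ZModModule.add_self, add_zero]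

theorem sum_powers_fixed {r : ℕ} [Fact r.Prime] {z : V ≃ₗ[ZMod 2] V} (hz : z ^ r = 1) (v : V) :
    z (∑ j : ZMod r, (z ^ j.val) v) = ∑ j : ZMod r, (z ^ j.val) v := by
  rw [map_sum]
  refine Fintype.sum_equiv (Equiv.addLeft (1 : ZMod r)) _ _ fun j => ?_
  rw [← LinearEquiv.mul_apply, ← pow_succ', Equiv.coe_addLeft]
  congr 1
  show z ^ (j.val + 1) = z ^ ((1 : ZMod r) + j).val
  rw [← pow_mod_of_pow_eq_one hz (j.val + 1), ZMod.val_add, ZMod.val_one, add_comm]

/-- For an elementary abelian group of odd exponent, the vectors fixed by subgroups of index at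
most the prime span the space. -/
theorem mem_span_fixed_small {r : ℕ} [Fact r.Prime] (hr : Odd r)
    {E : Subgroup (V ≃ₗ[ZMod 2] V)} (hc : ∀ x ∈ E, ∀ y ∈ E, Commute x y)
    (hexp : ∀ x ∈ E, x ^ r = 1) (v : V) :
    v ∈ Submodule.span (ZMod 2) {w : V | ∃ Y ≤ E, Nat.card E ≤ r * Nat.card Y ∧
      w ∈ fixedBy' (Y : Set (V ≃ₗ[ZMod 2] V))} := by
  suffices H : ∀ N, ∀ Y ≤ E, Nat.card E - Nat.card Y = N → ∀ w : V,
      w ∈ fixedBy' (Y : Set (V ≃ₗ[ZMod 2] V)) → w ∈ Submodule.span (ZMod 2) {w : V | ∃ Y ≤ E,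
        Nat.card E ≤ r * Nat.card Y ∧ w ∈ fixedBy' (Y : Set (V ≃ₗ[ZMod 2] V))} from
    H _ ⊥ bot_le rfl v (fun g hg => by rw [Subgroup.mem_bot.1 hg]; rfl)
  intro N
  induction N using Nat.strong_induction_on with
  | _ N ih =>
    intro Y hY hN w hw
    subst hN
    by_cases hsmall : Nat.card E ≤ r * Nat.card Y
    · exact Submodule.subset_span ⟨Y, hY, hsmall, hw⟩
    push Not at hsmall
    have hr1 : 1 ≤ r := (Fact.out : r.Prime).pos
    obtain ⟨x, hx, hxY⟩ : ∃ x ∈ E, x ∉ Y := by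
      by_contra hcon
      push Not at hcon
      have := Subgroup.card_le_of_le (show E ≤ Y from hcon)
      nlinarith
    obtain ⟨y, hy, hyY⟩ : ∃ y ∈ E, y ∉ Y ⊔ Subgroup.zpowers x := by
      by_contra hcon
      push Not at hcon
      have h1 := (Subgroup.card_le_of_le (show E ≤ Y ⊔ Subgroup.zpowers x from hcon)).trans
        (card_sup_zpowers_le fun z hz => hc z (hY hz) x hx)
      have h2 : orderOf x ≤ r := orderOf_le_of_pow_eq_one hr1 (hexp x hx)
      nlinarith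
    -- vectors fixed by a larger subgroup
    have hstep : ∀ z ∈ E, z ∉ Y → ∀ u : V, (∀ g ∈ Y, g u = u) → z u = u →
        u ∈ Submodule.span (ZMod 2) {w : V | ∃ Y ≤ E, Nat.card E ≤ r * Nat.card Y ∧
          w ∈ fixedBy' (Y : Set (V ≃ₗ[ZMod 2] V))} := by
      intro z hz hzY u hu hzu
      have hle : Y ⊔ Subgroup.zpowers z ≤ E := sup_le hY (Subgroup.zpowers_le.2 hz)
      have hlt : Nat.card Y < Nat.card (Y ⊔ Subgroup.zpowers z : Subgroup _) := by
        refine lt_of_le_of_ne (Subgroup.card_le_of_le le_sup_left) fun e => hzY ?_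
        have e' := Subgroup.eq_of_le_of_card_ge (le_sup_left : Y ≤ Y ⊔ Subgroup.zpowers z) e.ge
        rw [e']
        exact Subgroup.mem_sup_right (Subgroup.mem_zpowers z)
      have hcE := Subgroup.card_le_of_le hle
      refine ih _ (by omega) _ hle rfl u ?_
      have h' : Y ⊔ Subgroup.zpowers z ≤ fixingSub (Submodule.span (ZMod 2) {u}) := by
        have hfix : ∀ g : V ≃ₗ[ZMod 2] V, g u = u → g ∈ fixingSub (Submodule.span (ZMod 2) {u}) := by
          intro g hg t ht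
          obtain ⟨c, rfl⟩ := Submodule.mem_span_singleton.1 ht
          rw [map_smul, hg]
        exact sup_le (fun g hg => hfix g (hu g hg)) (Subgroup.zpowers_le.2 (hfix z hzu))
      exact fun g hg => h' hg u (Submodule.mem_span_singleton_self u)
    -- sums over commuting maps are still fixed
    have hfixsum : ∀ (z : V ≃ₗ[ZMod 2] V), z ∈ E → ∀ u : V, (∀ g ∈ Y, g u = u) →
        ∀ g ∈ Y, g (∑ j : ZMod r, (z ^ j.val) u) = ∑ j : ZMod r, (z ^ j.val) u := by
      intro z hz u hu g hg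
      rw [map_sum]
      refine Finset.sum_congr rfl fun j _ => ?_
      rw [← LinearEquiv.mul_apply, (hc g (hY hg) _ (pow_mem hz _)).eq, LinearEquiv.mul_apply,
        hu g hg]
    rw [sum_lines_eq hr (hc x hx y hy) (hexp y hy) w]
    refine add_mem (add_mem (Submodule.sum_mem _ fun i _ => ?_) ?_) ?_
    · have hzE : x * y ^ i.val ∈ E := mul_mem hx (pow_mem hy _)
      refine hstep _ hzE ?_ _ (hfixsum _ hzE w hw) (sum_powers_fixed (hexp _ hzE) w)
      intro hmem
      rcases eq_or_ne i 0 with rfl | hi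
      · simp only [ZMod.val_zero, pow_zero, mul_one] at hmem
        exact hxY hmem
      · apply hyY
        have h1 : y ^ i.val ∈ Y ⊔ Subgroup.zpowers x := by
          rw [← inv_mul_cancel_left x (y ^ i.val)]
          exact mul_mem (inv_mem (Subgroup.mem_sup_right (Subgroup.mem_zpowers x)))
            (Subgroup.mem_sup_left hmem)
        have h2 : y = (y ^ i.val) ^ (i⁻¹).val := by
          rw [← pow_mul, ← pow_mod_of_pow_eq_one (hexp y hy) (i.val * (i⁻¹).val), ← ZMod.val_mul,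
            mul_inv_cancel₀ hi, ZMod.val_one, pow_one]
        rw [h2]
        exact pow_mem h1 _
    · exact hstep y hy (fun h => hyY (Subgroup.mem_sup_left h)) _ (hfixsum y hy w hw)
        (sum_powers_fixed (hexp y hy) w)
    · have he : (∑ j : ZMod r, ∑ l : ZMod r, (x ^ j.val * y ^ l.val) w) =
          ∑ j : ZMod r, (x ^ j.val) (∑ l : ZMod r, (y ^ l.val) w) := by
        simp [map_sum, LinearEquiv.mul_apply]
      rw [he]
      exact hstep x hx hxY _ (hfixsum x hx _ (hfixsum y hy w hw))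
        (sum_powers_fixed (hexp x hx) _)

/-- A two-transitive linear group in dimension at least three has no nontrivial normal abelian
subgroup. -/
theorem no_normal_abelian (Γ E : Subgroup (V ≃ₗ[ZMod 2] V)) (hk : 3 ≤ finrank (ZMod 2) V)
    (h2 : ∀ a b a' b' : V, a ≠ 0 → b ≠ 0 → a ≠ b → a' ≠ 0 → b' ≠ 0 → a' ≠ b' →
      ∃ g ∈ Γ, g a = a' ∧ g b = b')
    (hEΓ : E ≤ Γ) (hnorm : ∀ g ∈ Γ, ∀ e ∈ E, g * e * g⁻¹ ∈ E)
    (hcomm : ∀ e ∈ E, ∀ f ∈ E, Commute e f) : E = ⊥ := by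
  classical
  by_contra hne
  set k := finrank (ZMod 2) V with hkdef
  have hcardV : Nat.card V = 2 ^ k := by
    rw [Module.natCard_eq_pow_finrank (K := ZMod 2)]; simp [hkdef]
  have h8 : 8 ≤ 2 ^ k := by simpa using Nat.pow_le_pow_right two_pos hk
  have third : ∀ a : V, a ≠ 0 → ∃ b, b ≠ 0 ∧ b ≠ a := by
    intro a ha
    by_contra hcon
    push Not at hcon
    have hsub : (Set.univ : Set V) ⊆ {0, a} := fun b _ => by
      by_cases hb : b = 0
      · exact Or.inl hb
      · exact Or.inr (hcon b hb)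
    have := (Set.ncard_le_ncard hsub).trans (Set.ncard_insert_le _ _)
    rw [Set.ncard_univ, Set.ncard_singleton, hcardV] at this
    omega
  obtain ⟨⟨e0, he0⟩, hx⟩ := Subgroup.ne_bot_iff_exists_ne_one.1 hne
  have he0ne : e0 ≠ 1 := fun h => hx (Subtype.ext h)
  obtain ⟨a, ha⟩ : ∃ a : V, e0 a ≠ a := by
    by_contra hcon
    push Not at hcon
    exact he0ne (LinearEquiv.ext hcon)
  have ha0 : a ≠ 0 := by rintro rfl; exact ha (map_zero e0)
  have hea0 : e0 a ≠ 0 := fun h => ha0 (e0.map_eq_zero_iff.1 h)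
  -- transitivity of `E`
  have htr : ∀ v : V, v ≠ 0 → ∃ e ∈ E, e a = v := by
    intro v hv
    rcases eq_or_ne v a with rfl | hva
    · exact ⟨1, one_mem _, rfl⟩
    obtain ⟨g, hg, hga, hgb⟩ := h2 a (e0 a) a v ha0 hea0 (Ne.symm ha) ha0 hv hva.symm
    refine ⟨g * e0 * g⁻¹, hnorm g hg e0 he0, ?_⟩
    rw [LinearEquiv.mul_apply, LinearEquiv.mul_apply]
    have : g⁻¹ a = a := by
      apply g.injective
      rw [← LinearEquiv.mul_apply, mul_inv_cancel, hga]; rfl
    rw [this, hgb]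
  have hreg : ∀ e ∈ E, e a = a → e = 1 := by
    intro e he hea
    refine LinearEquiv.ext fun v => ?_
    rcases eq_or_ne v 0 with rfl | hv
    · simp
    obtain ⟨f, hf, rfl⟩ := htr v hv
    rw [← LinearEquiv.mul_apply, (hcomm e he f hf).eq, LinearEquiv.mul_apply, hea]
    rfl
  have hinj : ∀ e ∈ E, ∀ f ∈ E, e a = f a → e = f := by
    intro e he f hf h
    have : f⁻¹ * e = 1 := hreg _ (mul_mem (inv_mem hf) he) (by
      rw [LinearEquiv.mul_apply, h, ← LinearEquiv.mul_apply, inv_mul_cancel]; rfl)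
    rw [inv_mul_eq_one] at this
    exact this.symm
  have hcardE : Nat.card E = 2 ^ k - 1 := by
    have hb : Function.Bijective (fun e : E => (⟨(e : V ≃ₗ[ZMod 2] V) a,
        fun h => ha0 ((e : V ≃ₗ[ZMod 2] V).map_eq_zero_iff.1 h)⟩ : {v : V // v ≠ 0})) := by
      refine ⟨fun e f h => Subtype.ext (hinj _ e.2 _ f.2 (congrArg Subtype.val h)), fun v => ?_⟩
      obtain ⟨e, he, h⟩ := htr v.1 v.2
      exact ⟨⟨e, he⟩, Subtype.ext h⟩
    rw [Nat.card_eq_of_bijective _ hb, ← hcardV]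
    have h1 := Set.ncard_sdiff_singleton_of_mem (Set.mem_univ (0 : V))
    rw [Set.ncard_univ] at h1
    rw [← h1, ← Nat.card_coe_set_eq]
    refine Nat.card_congr (Equiv.subtypeEquivRight fun v => ?_)
    simp
  -- conjugation by the point stabiliser
  have hconj : ∀ g ∈ Γ, g a = a → ∀ e ∈ E, (g * e * g⁻¹) a = g (e a) := by
    intro g hg hga e he
    rw [LinearEquiv.mul_apply, LinearEquiv.mul_apply]
    congr 2
    apply g.injective
    rw [← LinearEquiv.mul_apply, mul_inv_cancel, hga]; rfl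
  have hordeq : ∀ e ∈ E, e ≠ 1 → ∀ f ∈ E, f ≠ 1 → orderOf e = orderOf f := by
    intro e he hne1 f hf hne2
    obtain ⟨g, hg, hga, hgb⟩ := h2 a (e a) a (f a) ha0
      (fun h => ha0 (e.map_eq_zero_iff.1 h)) (fun h => hne1 (hreg e he h.symm)) ha0
      (fun h => ha0 (f.map_eq_zero_iff.1 h)) (fun h => hne2 (hreg f hf h.symm))
    have : g * e * g⁻¹ = f := hinj _ (hnorm g hg e he) _ hf (by rw [hconj g hg hga e he, hgb])
    rw [← this]
    exact (orderOf_injective (MulAut.conj g).toMonoidHom (MulAut.conj g).injective e).symm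
  -- `E` has prime order
  have hs : (Nat.card E).minFac.Prime := Nat.minFac_prime (by omega)
  set s := (Nat.card E).minFac with hsdef
  haveI : Fact s.Prime := ⟨hs⟩
  obtain ⟨e1, he1⟩ := exists_prime_orderOf_dvd_card' (G := E) s (Nat.minFac_dvd _)
  have he1' : orderOf (e1 : V ≃ₗ[ZMod 2] V) = s := by rw [Subgroup.orderOf_coe, he1]
  have he1ne : (e1 : V ≃ₗ[ZMod 2] V) ≠ 1 := fun h => by
    rw [h, orderOf_one] at he1'; exact hs.one_lt.ne he1'
  have hP : IsPGroup s E := fun f => by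
    refine ⟨1, ?_⟩
    by_cases hf : (f : V ≃ₗ[ZMod 2] V) = 1
    · have : f = 1 := Subtype.ext hf
      rw [this, one_pow]
    · rw [pow_one, ← he1', hordeq _ e1.2 he1ne _ f.2 hf, Subgroup.orderOf_coe, pow_orderOf_eq_one]
  obtain ⟨j, hj⟩ := IsPGroup.iff_card.1 hP
  have hj1 : j = 1 := eq_one_of_pow_eq_two_pow_sub_one (by omega) (hj.symm.trans hcardE)
  rw [hj1, pow_one] at hj
  have hgen : ∀ f ∈ E, ∃ i : ℕ, f = (e1 : V ≃ₗ[ZMod 2] V) ^ i := by
    intro f hf
    have htop : Subgroup.zpowers (e1 : V ≃ₗ[ZMod 2] V) = E :=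
      Subgroup.eq_of_le_of_card_ge (Subgroup.zpowers_le.2 e1.2) (by
        rw [Nat.card_zpowers, he1', hj])
    rw [← htop] at hf
    obtain ⟨i, hi⟩ := (mem_powers_iff_mem_zpowers.2 hf)
    exact ⟨i, hi.symm⟩
  -- the point stabiliser is commutative
  have hcomm' : ∀ g ∈ Γ, g a = a → ∀ h ∈ Γ, h a = a → Commute g h := by
    intro g hg hga h hh hha
    obtain ⟨i, hi⟩ := hgen _ (hnorm g hg _ e1.2)
    obtain ⟨l, hl⟩ := hgen _ (hnorm h hh _ e1.2)
    refine LinearEquiv.ext fun v => ?_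
    rcases eq_or_ne v 0 with rfl | hv
    · simp
    obtain ⟨f, hf, rfl⟩ := htr v hv
    obtain ⟨t, rfl⟩ := hgen f hf
    have hgh : g * h * (e1 : V ≃ₗ[ZMod 2] V) ^ t * (g * h)⁻¹ =
        h * g * (e1 : V ≃ₗ[ZMod 2] V) ^ t * (h * g)⁻¹ := by
      rw [← conj_pow, ← conj_pow]
      congr 1
      calc g * h * (e1 : V ≃ₗ[ZMod 2] V) * (g * h)⁻¹
          = g * (h * e1 * h⁻¹) * g⁻¹ := by simp [mul_assoc]
        _ = (g * e1 * g⁻¹) ^ l := by rw [hl, conj_pow]
        _ = (h * e1 * h⁻¹) ^ i := by rw [hi, hl, ← pow_mul, ← pow_mul, mul_comm]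
        _ = h * (g * e1 * g⁻¹) * h⁻¹ := by rw [hi, conj_pow]
        _ = h * g * e1 * (h * g)⁻¹ := by simp [mul_assoc]
    have := congrArg (fun q : V ≃ₗ[ZMod 2] V => q a) hgh
    rw [hconj _ (mul_mem hg hh) (by rw [LinearEquiv.mul_apply, hha, hga]) _ (pow_mem e1.2 t),
      hconj _ (mul_mem hh hg) (by rw [LinearEquiv.mul_apply, hga, hha]) _ (pow_mem e1.2 t)] at this
    exact this
  -- an impossible translation
  obtain ⟨b, hb, hba⟩ := third a ha0
  have hba0 : b + a ≠ 0 := fun h => hba ((add_eq_zero_iff_eq' b a).1 h)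
  have hba' : b + a ≠ a := fun h => hb (by simpa using h)
  obtain ⟨h0, hh0, hh0a, hh0b⟩ := h2 a b a (b + a) ha0 hb hba.symm ha0 hba0 hba'.symm
  have hshift : ∀ c : V, c ≠ 0 → c ≠ a → h0 c = c + a := by
    intro c hc hca
    obtain ⟨g, hg, hga, hgb⟩ := h2 a b a c ha0 hb hba.symm ha0 hc hca.symm
    rw [← hgb, ← LinearEquiv.mul_apply, (hcomm' h0 hh0 hh0a g hg hga).eq, LinearEquiv.mul_apply,
      hh0b, map_add, hga, hgb]
  obtain ⟨c, hc0, hca, hcb, hcba⟩ : ∃ c : V, c ≠ 0 ∧ c ≠ a ∧ c ≠ b ∧ c ≠ b + a := by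
    by_contra hcon
    push Not at hcon
    have hsub : (Set.univ : Set V) ⊆ {0, a, b, b + a} := fun c _ => by
      simp only [Set.mem_insert_iff, Set.mem_singleton_iff]
      by_contra hn
      push Not at hn
      exact hn.2.2.2 (hcon c hn.1 hn.2.1 hn.2.2.1)
    have := Set.ncard_le_ncard hsub
    have h4 : ({0, a, b, b + a} : Set V).ncard ≤ 4 := by
      refine (Set.ncard_insert_le _ _).trans ?_
      refine Nat.succ_le_succ ((Set.ncard_insert_le _ _).trans ?_)
      refine Nat.succ_le_succ ((Set.ncard_insert_le _ _).trans ?_)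
      rw [Set.ncard_singleton]
    rw [Set.ncard_univ, hcardV] at this
    omega
  have hs1 : b + c ≠ 0 := fun h => hcb ((add_eq_zero_iff_eq' b c).1 h).symm
  have hs2 : b + c ≠ a := fun h => hcba (by
    rw [← h, ← add_assoc, ZModModule.add_self, zero_add])
  have e1' := hshift (b + c) hs1 hs2
  rw [map_add, hshift c hc0 hca, hh0b] at e1'
  apply ha0
  have : b + a + (c + a) = b + c := by
    rw [add_add_add_comm, ZModModule.add_self, add_zero]
  rw [this] at e1'
  simpa using e1'.symm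

end Cfsg.Agent.H45.Mersenne
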