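import Cfsg.Agent.H45.Mersenne.Witt
import Cfsg.Agent.H74.Zsigmondy

/-!
# The codimension different from six
-/

set_option autoImplicit false
set_option linter.unusedSectionVars false
set_option linter.style.haveILetI false

namespace Cfsg.Agent.H45.Mersenne

open Module MulAction

attribute [local instance] dualAction

variable {V : Type*} [AddCommGroup V] [Module (ZMod 2) V] [Finite V]
  {A : Subgroup (V ≃ₗ[ZMod 2] V)} {n w d r : ℕ} {a b : V} {R : Subgroup (V ≃ₗ[ZMod 2] V)}

/-- The central elements of order dividing `r`. -/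
def omegaCentre (R : Subgroup (V ≃ₗ[ZMod 2] V)) (r : ℕ) : Subgroup (V ≃ₗ[ZMod 2] V) where
  carrier := {z | z ∈ R ∧ z ^ r = 1 ∧ ∀ y ∈ R, z * y = y * z}
  one_mem' := ⟨one_mem R, one_pow r, fun y _ => by simp⟩
  mul_mem' := by
    rintro x y ⟨hx, hxr, hxc⟩ ⟨hy, hyr, hyc⟩
    refine ⟨mul_mem hx hy, ?_, fun u hu => ?_⟩
    · rw [(show Commute x y from hxc y hy).mul_pow, hxr, hyr, one_mul]
    · rw [mul_assoc, hyc u hu, ← mul_assoc, hxc u hu, mul_assoc]
  inv_mem' := by
    rintro x ⟨hx, hxr, hxc⟩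
    exact ⟨inv_mem hx, by rw [inv_pow, hxr, inv_one],
      fun u hu => (show Commute x u from hxc u hu).inv_left⟩

theorem omegaCentre_le (R : Subgroup (V ≃ₗ[ZMod 2] V)) (r : ℕ) : omegaCentre R r ≤ R :=
  fun _ h => h.1

theorem omegaCentre_comm {x y : V ≃ₗ[ZMod 2] V} (hx : x ∈ omegaCentre R r)
    (hy : y ∈ omegaCentre R r) : Commute x y := hx.2.2 y hy.1

theorem omegaCentre_ne_bot [Fact r.Prime] (hR : IsPGroup r R) (hne : R ≠ ⊥) :
    omegaCentre R r ≠ ⊥ := by
  haveI : Nontrivial R := (Subgroup.nontrivial_iff_ne_bot R).2 hne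
  haveI : Nontrivial (Subgroup.center R) := hR.center_nontrivial
  obtain ⟨i, hi0, hi⟩ : ∃ i, 0 < i ∧ Nat.card (Subgroup.center R) = r ^ i := by
    obtain ⟨i, hi⟩ := IsPGroup.iff_card.1 (hR.to_subgroup (Subgroup.center R))
    refine ⟨i, Nat.pos_of_ne_zero fun e => ?_, hi⟩
    rw [e, pow_zero] at hi
    have := Finite.one_lt_card (α := Subgroup.center R)
    omega
  obtain ⟨z, hz⟩ := exists_prime_orderOf_dvd_card' (G := Subgroup.center R) r
    (hi ▸ dvd_pow_self r hi0.ne')
  intro hbot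
  have hz' : orderOf ((z : R) : V ≃ₗ[ZMod 2] V) = r := by
    rw [Subgroup.orderOf_coe, Subgroup.orderOf_coe, hz]
  have hmem : ((z : R) : V ≃ₗ[ZMod 2] V) ∈ omegaCentre R r := by
    refine ⟨(z : R).2, by rw [← hz']; exact pow_orderOf_eq_one _, fun y hy => ?_⟩
    exact congrArg Subtype.val ((Subgroup.mem_center_iff.1 z.2 ⟨y, hy⟩).symm)
  rw [hbot, Subgroup.mem_bot] at hmem
  rw [hmem, orderOf_one] at hz'
  exact (Fact.out : r.Prime).one_lt.ne hz'

theorem omegaCentre_normalize {g : V ≃ₗ[ZMod 2] V} (hg : ∀ z, z ∈ R ↔ g * z * g⁻¹ ∈ R) :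
    ∀ z, z ∈ omegaCentre R r ↔ g * z * g⁻¹ ∈ omegaCentre R r := by
  intro z
  have key : ∀ (g : V ≃ₗ[ZMod 2] V), (∀ z, z ∈ R ↔ g * z * g⁻¹ ∈ R) → ∀ z ∈ omegaCentre R r,
      g * z * g⁻¹ ∈ omegaCentre R r := by
    rintro g hg z ⟨hz, hzr, hzc⟩
    refine ⟨(hg z).1 hz, by rw [conj_pow, hzr, mul_one, mul_inv_cancel], fun y hy => ?_⟩
    have hy' : g⁻¹ * y * g ∈ R := (hg _).2 (by simpa [mul_assoc] using hy)
    have h1 := congrArg (fun q => g * q * g⁻¹) (hzc _ hy')
    simpa [mul_assoc] using h1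
  refine ⟨key g hg z, fun h => ?_⟩
  have := key g⁻¹ (fun y => by
    rw [hg (g⁻¹ * y * g⁻¹⁻¹)]
    simp [mul_assoc]) _ h
  simpa [mul_assoc] using this

/-- The space fixed by an element of the commuting group is invariant. -/
theorem apply_mem_fixedBy_of_commute {Y : Subgroup (V ≃ₗ[ZMod 2] V)} {g : V ≃ₗ[ZMod 2] V}
    (hg : ∀ y ∈ Y, g * y = y * g) {v : V} (hv : v ∈ fixedBy' (Y : Set (V ≃ₗ[ZMod 2] V))) :
    g v ∈ fixedBy' (Y : Set (V ≃ₗ[ZMod 2] V)) :=
  apply_mem_fixedBy (normalize_of_commute hg) hv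

theorem commutator_elem_eq_squares {G : Type*} [Group G] (g h : G) :
    g * h * g⁻¹ * h⁻¹ = (g * h) * (g * h) * ((h⁻¹ * g⁻¹ * h) * (h⁻¹ * g⁻¹ * h)) * (h⁻¹ * h⁻¹) := by
  group

theorem WittData.transvection_or_three_le [Fact r.Prime] (hr2 : r ≠ 2)
    (hord : orderOf (2 : ZMod r) = d) (D : WittData A n w d r 1 a b R) :
    3 ≤ finrank (ZMod 2) (fixedBy' (R : Set (V ≃ₗ[ZMod 2] V))) ∨
      ∃ (φ : Dual (ZMod 2) V) (v : V) (hφ : φ v = 0), φ ≠ 0 ∧ v ≠ 0 ∧
        LinearEquiv.transvection hφ ∈ A := by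
  classical
  set U := fixedBy' (R : Set (V ≃ₗ[ZMod 2] V)) with hU
  obtain ⟨hU2, hUw⟩ := D.finrank_fixed one_pos
  rw [← hU] at hU2 hUw
  by_cases hk : 3 ≤ finrank (ZMod 2) U
  · exact Or.inl hk
  right
  have h := D.geom.setup
  have hk2 : finrank (ZMod 2) U = 2 := by omega
  have hRodd := odd_card_of_pGroup hr2 D.pgroup
  have hd2 := D.geom.d2
  have hsum := D.geom.sum
  have h3 := D.geom.three
  -- `d = n - 2`
  have hdu : d = n - 2 := by
    have hdvd : d ∣ finrank (ZMod 2) (movedPart R) := hord ▸ orderOf_dvd_of_dvd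
      (dvd_of_pGroup D.pgroup (fun g hg v hv => apply_mem_movedPart (normalize_of_mem hg) hv)
        fun v hv hf => eq_zero_of_movedPart hRodd hv hf)
    have e := finrank_fixed_add_moved hRodd
    rw [h.hn, ← hU, hk2] at e
    obtain ⟨c, hc⟩ := hdvd
    have hodd : Odd n := h.nprime.odd_of_ne_two (by have := h.five; omega)
    obtain ⟨t, ht⟩ := hodd
    have hc3 : c < 3 := by
      by_contra hcon
      have := Nat.mul_le_mul_left d (show 3 ≤ c by omega)
      omega
    interval_cases c <;> omega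
  set Z := omegaCentre R r with hZdef
  have hZR : Z ≤ R := omegaCentre_le R r
  have hZp : IsPGroup r Z := D.pgroup.to_le hZR
  have hZodd := odd_card_of_pGroup hr2 hZp
  have hZne : Z ≠ ⊥ := omegaCentre_ne_bot D.pgroup (D.ne_bot one_pos)
  set M := movedPart Z with hM
  have hMd : ∀ S : Submodule (ZMod 2) V, S ≤ M → (∀ g ∈ Z, ∀ v ∈ S, g v ∈ S) →
      d ∣ finrank (ZMod 2) S := fun S hS hinv => hord ▸ orderOf_dvd_of_dvd
    (dvd_of_pGroup hZp hinv fun v hv hf => eq_zero_of_movedPart hZodd (hS hv) hf)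
  have hUfix : U ≤ fixedBy' (Z : Set (V ≃ₗ[ZMod 2] V)) := fixedBy'_le_of_le hZR
  have hsumZ := finrank_fixed_add_moved hZodd
  rw [h.hn] at hsumZ
  have hMne : finrank (ZMod 2) M ≠ 0 := fun e =>
    movedPart_ne_bot hZodd hZne (Submodule.finrank_eq_zero.1 e)
  have hMdim : finrank (ZMod 2) M = d := by
    obtain ⟨c, hc⟩ := hMd M le_rfl fun g hg v hv => apply_mem_movedPart (normalize_of_mem hg) hv
    have := Submodule.finrank_mono hUfix
    rw [← hM] at hsumZ
    have hc2 : c < 2 := by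
      by_contra hcon
      have := Nat.mul_le_mul_left d (show 2 ≤ c by omega)
      omega
    interval_cases c <;> omega
  have hFZ : fixedBy' (Z : Set (V ≃ₗ[ZMod 2] V)) = U := by
    refine (Submodule.eq_of_le_of_finrank_le hUfix ?_).symm
    rw [← hM] at hsumZ
    omega
  -- a fixed-point-free element of order `r`
  obtain ⟨⟨x, hx⟩, hx1⟩ := Subgroup.ne_bot_iff_exists_ne_one.1 hZne
  have hx1' : x ≠ 1 := fun e => hx1 (Subtype.ext e)
  have hxfix : ∀ v ∈ M, x v = v → v = 0 := by
    set S := M ⊓ fixedBy' {x} with hS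
    intro v hv hvx
    have hvS : v ∈ S := ⟨hv, fun g hg => by rw [Set.mem_singleton_iff.1 hg]; exact hvx⟩
    by_contra hv0
    obtain ⟨c, hc⟩ := hMd S inf_le_left (fun g hg u hu => by
      refine ⟨apply_mem_movedPart (normalize_of_mem hg) hu.1, fun k hk => ?_⟩
      rw [Set.mem_singleton_iff.1 hk, ← LinearEquiv.mul_apply, (omegaCentre_comm hx hg).eq,
        LinearEquiv.mul_apply, hu.2 x rfl])
    have hS0 : finrank (ZMod 2) S ≠ 0 := fun e => hv0 (by
      rw [Submodule.finrank_eq_zero.1 e] at hvS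
      exact (Submodule.mem_bot _).1 hvS)
    have hle := Submodule.finrank_mono (inf_le_left : S ≤ M)
    have hdS : d ≤ finrank (ZMod 2) S := Nat.le_of_dvd (by omega) ⟨c, hc⟩
    have hSM : S = M := Submodule.eq_of_le_of_finrank_le inf_le_left (by omega)
    apply hx1'
    refine LinearEquiv.ext fun u => ?_
    obtain ⟨p, hp, q, hq, rfl⟩ := Submodule.mem_sup.1
      ((isCompl_movedPart hZodd).sup_eq_top ▸ Submodule.mem_top :
        u ∈ fixedBy' (Z : Set (V ≃ₗ[ZMod 2] V)) ⊔ movedPart Z)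
    rw [← hM, ← hSM] at hq
    rw [map_add, hp x hx, hq.2 x rfl]
    rfl
  set f : M →ₗ[ZMod 2] M :=
    ((x : V →ₗ[ZMod 2] V).restrict fun v hv => apply_mem_movedPart (normalize_of_mem hx) hv) with hf
  have hfv : ∀ v : M, ((f v : M) : V) = x (v : V) := fun v => rfl
  have hirr : ∀ S : Submodule (ZMod 2) M, (∀ v ∈ S, f v ∈ S) → S = ⊥ ∨ S = ⊤ := by
    intro S hS
    set S' := S.map M.subtype with hS'
    have hpg : IsPGroup r (Subgroup.zpowers x) := hZp.to_le (Subgroup.zpowers_le.2 hx)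
    have hinv : ∀ g ∈ Subgroup.zpowers x, ∀ v ∈ S', g v ∈ S' := by
      intro g hg
      obtain ⟨i, rfl⟩ := mem_powers_iff_mem_zpowers.2 hg
      dsimp only
      induction i with
      | zero => intro v hv; simpa using hv
      | succ i ih =>
        intro v hv
        obtain ⟨u, hu, hu'⟩ := ih (pow_mem (Subgroup.mem_zpowers x) i) v hv
        refine ⟨f u, hS u hu, ?_⟩
        rw [pow_succ', LinearEquiv.mul_apply, ← hu']
        rfl
    have hdvd : d ∣ finrank (ZMod 2) S' := hord ▸ orderOf_dvd_of_dvd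
      (dvd_of_pGroup hpg hinv fun v hv hfix => by
        obtain ⟨u, hu, rfl⟩ := hv
        exact hxfix _ u.2 (hfix x (Subgroup.mem_zpowers x)))
    rw [hS', Submodule.finrank_map_subtype_eq] at hdvd
    have hle := Submodule.finrank_le S
    rw [hMdim] at hle
    rcases Nat.eq_zero_or_pos (finrank (ZMod 2) S) with e | e
    · exact Or.inl (Submodule.finrank_eq_zero.1 e)
    · right
      apply Submodule.eq_top_of_finrank_eq
      rw [hMdim]
      exact le_antisymm hle (Nat.le_of_dvd e hdvd)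
  -- a two-element swapping `a` and `b`
  obtain ⟨t0, ht0, hta, htb⟩ := D.two a b b a D.left_mem D.right_mem D.right_mem D.left_mem
    D.ha D.hb D.hab D.hb D.ha D.hab.symm
  obtain ⟨i, o, ho, hio⟩ := Nat.exists_eq_two_pow_mul_odd (orderOf_pos t0).ne'
  set t := t0 ^ o with ht
  have htN : t ∈ normIn A R := pow_mem ht0 o
  have hpow2 : t ^ 2 ^ i = 1 := by rw [ht, ← pow_mul, mul_comm, ← hio, pow_orderOf_eq_one]
  have hswap : ∀ l : ℕ, (t0 ^ (2 * l)) a = a ∧ (t0 ^ (2 * l)) b = b := by
    intro l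
    induction l with
    | zero => exact ⟨rfl, rfl⟩
    | succ l ih =>
      constructor
      · rw [Nat.mul_succ, pow_add, LinearEquiv.mul_apply, pow_two, LinearEquiv.mul_apply, hta, htb,
          ih.1]
      · rw [Nat.mul_succ, pow_add, LinearEquiv.mul_apply, pow_two, LinearEquiv.mul_apply, htb, hta,
          ih.2]
  have htab : t a = b ∧ t b = a := by
    obtain ⟨l, rfl⟩ := ho
    constructor
    · rw [ht, pow_succ', LinearEquiv.mul_apply, (hswap l).1, hta]
    · rw [ht, pow_succ', LinearEquiv.mul_apply, (hswap l).2, htb]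
  have hZn := omegaCentre_normalize (r := r) (normIn_iff htN)
  have htM : ∀ v ∈ M, t v ∈ M := fun v hv => apply_mem_movedPart hZn hv
  have hT : IsPGroup 2 (Subgroup.zpowers t) := by
    haveI : Fact (Nat.Prime 2) := ⟨Nat.prime_two⟩
    refine IsPGroup.of_card (n := ((orderOf t).factorization 2)) ?_
    rw [Nat.card_zpowers]
    obtain ⟨l, -, hl⟩ := (Nat.dvd_prime_pow Nat.prime_two).1 (orderOf_dvd_of_pow_eq_one hpow2)
    rw [hl, Nat.prime_two.factorization_pow, Finsupp.single_eq_same]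
  obtain ⟨m0, hm0, hm00, hm0t⟩ := exists_fixed_of_two_group hT (S := M) (fun g hg v hv => by
      obtain ⟨l, rfl⟩ := mem_powers_iff_mem_zpowers.2 hg
      exact apply_mem_movedPart (omegaCentre_normalize (normIn_iff (pow_mem htN l))) hv)
    (fun e => hMne (by rw [e, finrank_bot]))
  obtain ⟨K, iF, iK, iA, e, θ, he1, heθ, hgen⟩ := exists_field_of_irreducible f hirr
    (m0 := ⟨m0, hm0⟩) (fun h => hm00 (congrArg Subtype.val h))
  haveI : CharP K 2 := charP_of_injective_algebraMap (algebraMap (ZMod 2) K).injective 2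
  haveI := Fintype.ofFinite K
  have hKd : finrank (ZMod 2) K = d := by rw [e.finrank_eq, hMdim]
  have hθ : ∀ (l : ℕ) z, ((e (θ ^ l * z) : M) : V) = (x ^ l) ((e z : M) : V) := by
    intro l
    induction l with
    | zero => intro z; simp
    | succ l ih => intro z; rw [pow_succ', mul_assoc, heθ, hfv, ih, pow_succ', LinearEquiv.mul_apply]
  have hxr : x ^ r = 1 := hx.2.1
  have hθr : θ ^ r = 1 := by
    apply e.injective
    apply Subtype.ext
    rw [← mul_one (θ ^ r), hθ, hxr]
    rfl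
  have hθ1 : θ ≠ 1 := by
    intro e1
    apply hm00
    apply hxfix m0 hm0
    have := hθ 1 1
    rw [e1, one_pow, one_mul, pow_one, he1] at this
    exact this.symm
  have hθord : orderOf θ = r := orderOf_eq_prime hθr hθ1
  -- conjugation by `t`
  have hyM : (t * x * t⁻¹) ∈ Z := (hZn x).1 hx
  obtain ⟨j, hj⟩ : ∃ j : ℕ, ∀ v ∈ M, (t * x * t⁻¹) v = (x ^ j) v := by
    set y := t * x * t⁻¹ with hy
    set ζ := e.symm ⟨y m0, apply_mem_movedPart (normalize_of_mem hyM) hm0⟩ with hζ
    have hyc : Commute y x := omegaCentre_comm hyM hx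
    have hycomm : ∀ z, ((e (ζ * z) : M) : V) = y ((e z : M) : V) := by
      intro z
      obtain ⟨q, rfl⟩ := hgen z
      induction q using Polynomial.induction_on' with
      | add p q hp hq => simp only [map_add, mul_add, Submodule.coe_add, hp, hq]
      | monomial l c =>
        rw [← Polynomial.smul_X_eq_monomial, map_smul, mul_smul_comm, map_smul, map_smul,
          Submodule.coe_smul, Submodule.coe_smul, map_smul, Polynomial.aeval_X_pow]
        congr 1
        rw [mul_comm ζ, hθ, ← mul_one (θ ^ l), hθ, he1, hζ, LinearEquiv.apply_symm_apply]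
        show (x ^ l) (y m0) = y ((x ^ l) m0)
        rw [← LinearEquiv.mul_apply, ← (hyc.pow_right l).eq, LinearEquiv.mul_apply]
    have hζr : ζ ^ r = 1 := by
      have hp : ∀ l z, ((e (ζ ^ l * z) : M) : V) = (y ^ l) ((e z : M) : V) := by
        intro l
        induction l with
        | zero => intro z; simp
        | succ l ih =>
          intro z
          rw [pow_succ', mul_assoc, hycomm, ih, pow_succ']
          rfl
      apply e.injective
      apply Subtype.ext
      rw [← mul_one (ζ ^ r), hp, hyM.2.1]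
      rfl
    haveI : NeZero r := ⟨(Fact.out : r.Prime).ne_zero⟩
    obtain ⟨l, -, hl⟩ := (hθord ▸ IsPrimitiveRoot.orderOf θ :
      IsPrimitiveRoot θ r).eq_pow_of_pow_eq_one hζr
    refine ⟨l, fun v hv => ?_⟩
    have h1 := hycomm (e.symm ⟨v, hv⟩)
    rw [← hl, hθ, LinearEquiv.apply_symm_apply] at h1
    exact h1.symm
  set τ : K ≃ₗ[ZMod 2] K := LinearEquiv.ofBijective
    (e.symm.toLinearMap ∘ₗ ((t : V →ₗ[ZMod 2] V).restrict htM) ∘ₗ e.toLinearMap) (by
      have hinj : Function.Injective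
          (e.symm.toLinearMap ∘ₗ ((t : V →ₗ[ZMod 2] V).restrict htM) ∘ₗ e.toLinearMap) := by
        intro z z' hzz
        have := congrArg (fun u => ((e u : M) : V)) hzz
        simp at this
        exact this
      exact ⟨hinj, Finite.injective_iff_surjective.1 hinj⟩) with hτdef
  have hτ : ∀ z, ((e (τ z) : M) : V) = t ((e z : M) : V) := by
    intro z
    show ((e (e.symm (((t : V →ₗ[ZMod 2] V).restrict htM) (e z))) : M) : V) = _
    rw [LinearEquiv.apply_symm_apply]
    rfl
  have hτ1 : τ 1 = 1 := by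
    apply e.injective
    apply Subtype.ext
    rw [hτ, he1]
    exact hm0t t (Subgroup.mem_zpowers t)
  have hτθ : ∀ l z, τ (θ ^ l * z) = θ ^ (j * l) * τ z := by
    intro l z
    apply e.injective
    apply Subtype.ext
    rw [hτ, hθ, hθ, hτ]
    induction l with
    | zero => simp
    | succ l ih =>
      rw [pow_succ', LinearEquiv.mul_apply, Nat.mul_succ, add_comm (j * l), pow_add,
        LinearEquiv.mul_apply, ← ih]
      have hu : (x ^ l) ((e z : M) : V) ∈ M := by rw [← hθ]; exact (e _).2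
      rw [← hj _ (htM _ hu), LinearEquiv.mul_apply, LinearEquiv.mul_apply, ← LinearEquiv.mul_apply t⁻¹ t,
        inv_mul_cancel]
      rfl
  have hτmul : ∀ y z, τ (y * z) = τ y * τ z := by
    intro y z
    obtain ⟨q, rfl⟩ := hgen y
    induction q using Polynomial.induction_on' with
    | add p q hp hq => simp only [map_add, add_mul, hp, hq]
    | monomial l c =>
      rw [← Polynomial.smul_X_eq_monomial, map_smul, smul_mul_assoc, map_smul, map_smul,
        smul_mul_assoc, Polynomial.aeval_X_pow]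
      congr 1
      conv_rhs => rw [← mul_one (θ ^ l), hτθ, hτ1, mul_one]
      exact hτθ l z
  set σ : K ≃ₐ[ZMod 2] K := AlgEquiv.ofLinearEquiv τ hτ1 hτmul with hσ
  have hσpow : ∀ (l : ℕ) z, ((e ((σ ^ l) z) : M) : V) = (t ^ l) ((e z : M) : V) := by
    intro l
    induction l with
    | zero => intro z; rfl
    | succ l ih =>
      intro z
      rw [pow_succ', pow_succ', LinearEquiv.mul_apply, ← ih, ← hτ]
      rfl
  have hσi : σ ^ 2 ^ i = 1 := by
    refine AlgEquiv.ext fun z => ?_
    apply e.injective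
    apply Subtype.ext
    rw [hσpow, hpow2]
    rfl
  have hσd : σ ^ d = 1 := by
    rw [← hKd, ← IsGalois.card_aut_eq_finrank (ZMod 2) K]
    exact pow_card_eq_one'
  have hσ1 : σ = 1 := by
    have hdodd : Odd d := by
      have hodd : Odd n := h.nprime.odd_of_ne_two (by have := h.five; omega)
      obtain ⟨l, hl⟩ := hodd
      exact ⟨l - 1, by have := h.five; omega⟩
    have h1 := pow_gcd_eq_one.2 ⟨hσi, hσd⟩
    rwa [show Nat.gcd (2 ^ i) d = 1 from Nat.Coprime.pow_left i (Nat.coprime_two_left.2 hdodd),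
      pow_one] at h1
  have htfix : ∀ v ∈ M, t v = v := by
    intro v hv
    have h1 := hτ (e.symm ⟨v, hv⟩)
    rw [show τ (e.symm ⟨v, hv⟩) = σ (e.symm ⟨v, hv⟩) from rfl, hσ1] at h1
    simp at h1
    exact h1.symm
  -- so `t` is a transvection
  have hab0 : a + b ≠ 0 := fun e => D.hab ((add_eq_zero_iff_eq' a b).1 e)
  have hspan : U = Submodule.span (ZMod 2) {a, b} := by
    refine (Submodule.eq_of_le_of_finrank_le (Submodule.span_le.2 ?_) ?_).symm
    · rintro v (rfl | rfl)
      · exact D.left_mem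
      · exact D.right_mem
    · rw [hk2]
      have hsub : ({0, a, b} : Set V) ⊆ (Submodule.span (ZMod 2) {a, b} : Set V) := by
        rintro v (rfl | rfl | rfl)
        · exact zero_mem _
        · exact Submodule.subset_span (by simp)
        · exact Submodule.subset_span (by simp)
      have h1 := Set.ncard_le_ncard hsub
      rw [Set.ncard_insert_of_notMem (by simp [Ne.symm D.ha, Ne.symm D.hb]) (Set.toFinite _),
        Set.ncard_pair D.hab, ← Nat.card_coe_set_eq (Submodule.span (ZMod 2) {a, b} : Set V),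
        SetLike.coe_sort_coe, natCard_eq_two_pow] at h1
      by_contra hc
      generalize finrank (ZMod 2) (Submodule.span (ZMod 2) {a, b}) = m at *
      interval_cases m <;> omega
  have hnot : a ∉ M ⊔ Submodule.span (ZMod 2) {a + b} := by
    intro hmem
    obtain ⟨m, hm, v, hv, hsum'⟩ := Submodule.mem_sup.1 hmem
    obtain ⟨c, rfl⟩ := Submodule.mem_span_singleton.1 hv
    have hmU : m ∈ U := by
      have : m = a - c • (a + b) := eq_sub_of_add_eq hsum'
      rw [this]
      exact sub_mem D.left_mem (Submodule.smul_mem _ _ (add_mem D.left_mem D.right_mem))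
    have hm0' : m = 0 := eq_zero_of_movedPart hZodd hm (hUfix hmU)
    rw [hm0', zero_add] at hsum'
    rcases zmod_two_cases c with rfl | rfl
    · exact D.ha (by simpa using hsum'.symm)
    · exact D.hb (by simpa using hsum')
  obtain ⟨φ, hφS, hφa, -⟩ := exists_dual_vanish _ hnot hnot
  have hφab : φ (a + b) = 0 :=
    hφS _ (Submodule.mem_sup_right (Submodule.mem_span_singleton_self _))
  refine ⟨φ, a + b, hφab, fun e => by rw [e] at hφa; exact zero_ne_one hφa, hab0, ?_⟩
  have hφb : φ b = 1 := by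
    rw [map_add, hφa] at hφab
    rcases zmod_two_cases (φ b) with e | e
    · rw [e] at hφab; simp at hφab
    · exact e
  have : t = LinearEquiv.transvection hφab := by
    refine LinearEquiv.ext fun u => ?_
    obtain ⟨p, hp, q, hq, rfl⟩ := Submodule.mem_sup.1
      ((isCompl_movedPart hZodd).sup_eq_top ▸ Submodule.mem_top :
        u ∈ fixedBy' (Z : Set (V ≃ₗ[ZMod 2] V)) ⊔ movedPart Z)
    rw [hFZ, hspan, Submodule.mem_span_pair] at hp
    obtain ⟨c1, c2, rfl⟩ := hp
    have hq0 : φ q = 0 := hφS q (Submodule.mem_sup_left hq)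
    rw [LinearEquiv.transvection.apply]
    simp only [map_add, map_smul, htfix q hq, htab.1, htab.2, hq0, hφa, hφb, smul_eq_mul, mul_one,
      add_zero, add_smul, smul_add]
    calc c1 • b + c2 • a + q
        = c1 • b + c2 • a + q + (c1 • a + c1 • a) + (c2 • b + c2 • b) := by
          simp [ZModModule.add_self]
      _ = _ := by abel
  exact this ▸ htN.1

end Cfsg.Agent.H45.Mersenne
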