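import Cfsg.Agent.H45.Mersenne.General

/-!
# The codimension different from six: large fixed space
-/

set_option autoImplicit false
set_option linter.unusedSectionVars false
set_option linter.style.haveILetI false

namespace Cfsg.Agent.H45.Mersenne

open Module MulAction
open scoped commutatorElement

attribute [local instance] dualAction

variable {V : Type*} [AddCommGroup V] [Module (ZMod 2) V] [Finite V]
  {A : Subgroup (V ≃ₗ[ZMod 2] V)} {n w d r : ℕ} {a b : V} {R : Subgroup (V ≃ₗ[ZMod 2] V)}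

theorem exists_prime_ne_three {k : ℕ} (hk : 3 ≤ k) :
    ∃ s : ℕ, s.Prime ∧ s ∣ 2 ^ k - 1 ∧ s ≠ 3 := by
  by_contra hcon
  push Not at hcon
  have h8 : 8 ≤ 2 ^ k := by simpa using Nat.pow_le_pow_right two_pos hk
  have h3 := Nat.eq_prime_pow_of_unique_prime_dvd (p := 3) (n := 2 ^ k - 1) (by omega)
    (fun {q} hq hqd => hcon q hq hqd)
  have h1 := eq_one_of_pow_eq_two_pow_sub_one (by omega) h3.symm
  rw [h1, pow_one] at h3
  omega

theorem orderOf_two_ge {s k : ℕ} [Fact s.Prime] (hk : 0 < k) (h : s ∣ 2 ^ k - 1) (h3 : s ≠ 3) :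
    3 ≤ orderOf (2 : ZMod s) := by
  have hd := orderOf_dvd_of_dvd h
  have hpos : 0 < orderOf (2 : ZMod s) := by
    rcases Nat.eq_zero_or_pos (orderOf (2 : ZMod s)) with e | e
    · rw [e, zero_dvd_iff] at hd; omega
    · exact e
  have key : ∀ i, orderOf (2 : ZMod s) = i → s ∣ 2 ^ i - 1 := by
    intro i hi
    rw [← ZMod.natCast_eq_zero_iff, Nat.cast_sub Nat.one_le_two_pow]
    simp [← hi, pow_orderOf_eq_one]
  by_contra hcon
  interval_cases he : orderOf (2 : ZMod s)
  · have := key 1 rfl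
    rw [show 2 ^ 1 - 1 = 1 from rfl, Nat.dvd_one] at this
    exact (Fact.out : s.Prime).one_lt.ne' this
  · have := key 2 rfl
    exact h3 ((Nat.prime_dvd_prime_iff_eq Fact.out Nat.prime_three).1 this)

theorem WittData.large_false [Fact r.Prime] (hr2 : r ≠ 2) (hord : orderOf (2 : ZMod r) = d)
    (D : WittData A n w d r 1 a b R)
    (hk : 3 ≤ finrank (ZMod 2) (fixedBy' (R : Set (V ≃ₗ[ZMod 2] V)))) : False := by
  classical
  set U := fixedBy' (R : Set (V ≃ₗ[ZMod 2] V)) with hU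
  have h := D.geom.setup
  have hd2 := D.geom.d2
  have hsum := D.geom.sum
  have h3 := D.geom.three
  obtain ⟨-, hUw⟩ := D.finrank_fixed one_pos
  rw [← hU] at hUw
  set N := normIn A R with hN
  set Z := omegaCentre R r with hZdef
  have hZR : Z ≤ R := omegaCentre_le R r
  have hZp : IsPGroup r Z := D.pgroup.to_le hZR
  have hZodd := odd_card_of_pGroup hr2 hZp
  have hrodd : Odd r := (Fact.out : r.Prime).odd_of_ne_two hr2
  have hZne : Z ≠ ⊥ := omegaCentre_ne_bot D.pgroup (D.ne_bot one_pos)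
  have hZn : ∀ g ∈ N, ∀ z, z ∈ Z ↔ g * z * g⁻¹ ∈ Z := fun g hg =>
    omegaCentre_normalize (normIn_iff hg)
  set M := movedPart Z with hM
  have hMd : ∀ S : Submodule (ZMod 2) V, S ≤ M → (∀ g ∈ Z, ∀ v ∈ S, g v ∈ S) →
      d ∣ finrank (ZMod 2) S := fun S hS hinv => hord ▸ orderOf_dvd_of_dvd
    (dvd_of_pGroup hZp hinv fun v hv hf => eq_zero_of_movedPart hZodd (hS hv) hf)
  have hUfix : U ≤ fixedBy' (Z : Set (V ≃ₗ[ZMod 2] V)) := fixedBy'_le_of_le hZR
  have hsumZ := finrank_fixed_add_moved hZodd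
  rw [h.hn, ← hM] at hsumZ
  have hkM : finrank (ZMod 2) U + finrank (ZMod 2) M ≤ n := by
    have := Submodule.finrank_mono hUfix
    omega
  have hMne : finrank (ZMod 2) M ≠ 0 := fun e =>
    movedPart_ne_bot hZodd hZne (Submodule.finrank_eq_zero.1 e)
  have hMge : d ≤ finrank (ZMod 2) M := Nat.le_of_dvd (by omega)
    (hMd M le_rfl fun g hg v hv => apply_mem_movedPart (normalize_of_mem hg) hv)
  -- the weights
  set H : Set (Subgroup (V ≃ₗ[ZMod 2] V)) :=
    {Y | Y ≤ Z ∧ Nat.card Z ≤ r * Nat.card Y ∧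
      ∃ v ∈ M, v ≠ 0 ∧ v ∈ fixedBy' (Y : Set (V ≃ₗ[ZMod 2] V))} with hH
  have hHne : ∀ Y ∈ H, Y ≠ Z := by
    rintro Y ⟨-, -, v, hv, hv0, hfix⟩ rfl
    exact hv0 (eq_zero_of_movedPart hZodd hv hfix)
  have hHmax : ∀ Y ∈ H, ∀ x ∈ Z, x ∉ Y → Y ⊔ Subgroup.zpowers x = Z := by
    rintro Y hY x hx hxY
    obtain ⟨hYZ, hcard, -⟩ := id hY
    have hle : Y ⊔ Subgroup.zpowers x ≤ Z := sup_le hYZ (Subgroup.zpowers_le.2 hx)
    refine Subgroup.eq_of_le_of_card_ge hle ?_
    obtain ⟨c, hc⟩ := Subgroup.card_dvd_of_le (le_sup_left : Y ≤ Y ⊔ Subgroup.zpowers x)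
    obtain ⟨i, hi⟩ := IsPGroup.iff_card.1 (hZp.to_le hle)
    have hcr : c ∣ r ^ i := hi ▸ ⟨Nat.card Y, by rw [hc, mul_comm]⟩
    obtain ⟨l, -, rfl⟩ := (Nat.dvd_prime_pow Fact.out).1 hcr
    rcases Nat.eq_zero_or_pos l with rfl | hl
    · exfalso
      rw [pow_zero, mul_one] at hc
      have := Subgroup.eq_of_le_of_card_ge (le_sup_left : Y ≤ Y ⊔ Subgroup.zpowers x) hc.le
      exact hxY (this ▸ Subgroup.mem_sup_right (Subgroup.mem_zpowers x))
    · rw [hc]
      refine hcard.trans ?_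
      rw [mul_comm]
      exact Nat.mul_le_mul_left _ (Nat.le_self_pow hl.ne' r)
  have hfixsup : ∀ (Y : Subgroup (V ≃ₗ[ZMod 2] V)) (x : V ≃ₗ[ZMod 2] V) (v : V),
      v ∈ fixedBy' (Y : Set (V ≃ₗ[ZMod 2] V)) → x v = v →
      v ∈ fixedBy' ((Y ⊔ Subgroup.zpowers x : Subgroup _) : Set (V ≃ₗ[ZMod 2] V)) := by
    intro Y x v hv hxv g hg
    have : Y ⊔ Subgroup.zpowers x ≤ stabilizer (V ≃ₗ[ZMod 2] V) v :=
      sup_le (fun y hy => hv y hy) (Subgroup.zpowers_le.2 hxv)
    exact this hg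
  set MY : Subgroup (V ≃ₗ[ZMod 2] V) → Submodule (ZMod 2) V := fun Y =>
    M ⊓ fixedBy' (Y : Set (V ≃ₗ[ZMod 2] V)) with hMY
  have hMYinv : ∀ Y ∈ H, ∀ g ∈ Z, ∀ v ∈ MY Y, g v ∈ MY Y := by
    rintro Y ⟨hYZ, -⟩ g hg v ⟨hvM, hvY⟩
    exact ⟨apply_mem_movedPart (normalize_of_mem hg) hvM,
      apply_mem_fixedBy_of_commute (fun y hy => (omegaCentre_comm hg (hYZ hy)).eq) hvY⟩
  have hMYd : ∀ Y ∈ H, d ≤ finrank (ZMod 2) (MY Y) := by
    intro Y hY
    obtain ⟨-, -, v, hv, hv0, hfix⟩ := id hY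
    refine Nat.le_of_dvd (Nat.pos_of_ne_zero fun e => hv0 ?_)
      (hMd _ inf_le_left (hMYinv Y hY))
    have : v ∈ MY Y := ⟨hv, hfix⟩
    rw [Submodule.finrank_eq_zero.1 e] at this
    exact (Submodule.mem_bot _).1 this
  have hdisj : ∀ Y1 ∈ H, ∀ Y2 ∈ H, Y1 ≠ Y2 → MY Y1 ⊓ MY Y2 = ⊥ := by
    intro Y1 hY1 Y2 hY2 hne
    rw [Submodule.eq_bot_iff]
    rintro v ⟨⟨hvM, hv1⟩, -, hv2⟩
    obtain ⟨x, hx2, hx1⟩ : ∃ x ∈ Y2, x ∉ Y1 := by
      by_contra hcon
      push Not at hcon
      obtain ⟨z, hz, hzY⟩ : ∃ z ∈ Y1, z ∉ Y2 := by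
        by_contra hcon'
        push Not at hcon'
        exact hne (le_antisymm hcon' hcon)
      have h1 := hHmax Y2 hY2 z (hY1.1 hz) hzY
      exact hHne Y1 hY1 (le_antisymm hY1.1 (h1 ▸ sup_le hcon (Subgroup.zpowers_le.2 hz)))
    refine eq_zero_of_movedPart hZodd hvM ?_
    rw [← hHmax Y1 hY1 x (hY2.1 hx2) hx1]
    exact hfixsup Y1 x v hv1 (hv2 x hx2)
  have hfew : ∀ Y1 ∈ H, ∀ Y2 ∈ H, ∀ Y3 ∈ H, Y1 = Y2 ∨ Y1 = Y3 ∨ Y2 = Y3 := by
    intro Y1 hY1 Y2 hY2 Y3 hY3
    by_contra hcon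
    push Not at hcon
    obtain ⟨h12, h13, h23⟩ := hcon
    have hd12 := hdisj Y1 hY1 Y2 hY2 h12
    have h3' : (MY Y1 ⊔ MY Y2) ⊓ MY Y3 = ⊥ := by
      rw [Submodule.eq_bot_iff]
      rintro v ⟨hv, hvM, hv3⟩
      obtain ⟨v1, hv1, v2, hv2, rfl⟩ := Submodule.mem_sup.1 hv
      obtain ⟨x, hx3, hx1⟩ : ∃ x ∈ Y3, x ∉ Y1 := by
        by_contra hcon
        push Not at hcon
        obtain ⟨z, hz, hzY⟩ : ∃ z ∈ Y1, z ∉ Y3 := by
          by_contra hcon'
          push Not at hcon'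
          exact h13 (le_antisymm hcon' hcon)
        have h1 := hHmax Y3 hY3 z (hY1.1 hz) hzY
        exact hHne Y1 hY1 (le_antisymm hY1.1 (h1 ▸ sup_le hcon (Subgroup.zpowers_le.2 hz)))
      have e := hv3 x hx3
      rw [map_add] at e
      have e' : x v1 - v1 = v2 - x v2 := by
        rw [sub_eq_sub_iff_add_eq_add, e, add_comm v1]
      have hm : x v1 - v1 ∈ MY Y1 ⊓ MY Y2 :=
        ⟨sub_mem (hMYinv Y1 hY1 x (hY3.1 hx3) v1 hv1) hv1,
          e' ▸ sub_mem hv2 (hMYinv Y2 hY2 x (hY3.1 hx3) v2 hv2)⟩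
      rw [hd12, Submodule.mem_bot, sub_eq_zero] at hm
      have h0 : v1 = 0 := by
        refine eq_zero_of_movedPart hZodd hv1.1 ?_
        rw [← hHmax Y1 hY1 x (hY3.1 hx3) hx1]
        exact hfixsup Y1 x v1 hv1.2 hm
      subst h0
      rw [zero_add] at hv3 ⊢
      have : v2 ∈ MY Y2 ⊓ MY Y3 := ⟨hv2, hv2.1, hv3⟩
      rw [hdisj Y2 hY2 Y3 hY3 h23] at this
      exact (Submodule.mem_bot _).1 this
    have e1 := Submodule.finrank_sup_add_finrank_inf_eq (MY Y1) (MY Y2)
    have e2 := Submodule.finrank_sup_add_finrank_inf_eq (MY Y1 ⊔ MY Y2) (MY Y3)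
    rw [hd12, finrank_bot] at e1
    rw [h3', finrank_bot] at e2
    have e3 := Submodule.finrank_mono
      (sup_le (sup_le inf_le_left inf_le_left) inf_le_left : MY Y1 ⊔ MY Y2 ⊔ MY Y3 ≤ M)
    have := hMYd Y1 hY1; have := hMYd Y2 hY2; have := hMYd Y3 hY3
    omega
  -- conjugation
  have hconjH : ∀ g ∈ N, ∀ Y ∈ H, Y.map (MulAut.conj g).toMonoidHom ∈ H := by
    rintro g hg Y ⟨hYZ, hcard, v, hv, hv0, hfix⟩
    refine ⟨?_, ?_, g v, apply_mem_movedPart (hZn g hg) hv,
      fun e => hv0 (g.map_eq_zero_iff.1 e), ?_⟩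
    · rintro _ ⟨y, hy, rfl⟩
      exact (hZn g hg y).1 (hYZ hy)
    · rwa [← Nat.card_congr (Y.equivMapOfInjective _ (MulAut.conj g).injective).toEquiv]
    · rintro _ ⟨y, hy, rfl⟩
      show (g * y * g⁻¹) (g v) = g v
      rw [← LinearEquiv.mul_apply, inv_mul_cancel_right, LinearEquiv.mul_apply, hfix y hy]
  have hmap2 : ∀ (g k : V ≃ₗ[ZMod 2] V) (Y : Subgroup (V ≃ₗ[ZMod 2] V)),
      Y.map (MulAut.conj (g * k)).toMonoidHom =
        (Y.map (MulAut.conj k).toMonoidHom).map (MulAut.conj g).toMonoidHom := by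
    intro g k Y
    rw [Subgroup.map_map]
    congr 1
  have hsq : ∀ g ∈ N, ∀ Y ∈ H, Y.map (MulAut.conj (g * g)).toMonoidHom = Y := by
    intro g hg Y hY
    rw [hmap2]
    have h1 := hconjH g hg Y hY
    have h2 := hconjH g hg _ h1
    rcases hfew Y hY _ h1 _ h2 with e | e | e
    · rw [← e]; exact e.symm
    · exact e.symm
    · have hinj : Function.Injective (Subgroup.map (MulAut.conj g).toMonoidHom) :=
        Subgroup.map_injective (MulAut.conj g).injective
      have e' := hinj e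
      rw [← e']; exact e'.symm
  -- elements fixing each weight
  set N1 : Set (V ≃ₗ[ZMod 2] V) := {x | x ∈ N ∧ ∀ Y ∈ H, Y.map (MulAut.conj x).toMonoidHom = Y}
    with hN1
  have hN1c : ∀ g ∈ N, ∀ k ∈ N, g * k * g⁻¹ * k⁻¹ ∈ N1 := by
    intro g hg k hk
    refine ⟨mul_mem (mul_mem (mul_mem hg hk) (inv_mem hg)) (inv_mem hk), fun Y hY => ?_⟩
    rw [commutator_elem_eq_squares, hmap2, hsq _ (inv_mem hk) Y hY, hmap2,
      hsq _ (mul_mem (mul_mem (inv_mem hk) (inv_mem hg)) hk) Y hY, hsq _ (mul_mem hg hk) Y hY]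
  -- commutators of such elements centralise `Z`
  have hN1Z : ∀ x ∈ N1, ∀ y ∈ N1, ∀ z ∈ Z, Commute (x * y * x⁻¹ * y⁻¹) z := by
    rintro x ⟨hxN, hxY⟩ y ⟨hyN, hyY⟩ z hz
    set c := x * y * x⁻¹ * y⁻¹ with hc
    have hcN : c ∈ N := mul_mem (mul_mem (mul_mem hxN hyN) (inv_mem hxN)) (inv_mem hyN)
    have hkey : ∀ Y ∈ H, ∀ v ∈ MY Y, c (z v) = z (c v) := by
      intro Y hY
      have hYZ := hY.1
      have hsmall : ∀ g ∈ N, Y.map (MulAut.conj g).toMonoidHom = Y →
          ∀ v ∈ MY Y, g v ∈ MY Y := by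
        intro g hg he v ⟨hvM, hvY⟩
        refine ⟨apply_mem_movedPart (hZn g hg) hvM, fun y hy => ?_⟩
        rw [← he] at hy
        obtain ⟨y', hy', rfl⟩ := hy
        show (g * y' * g⁻¹) (g v) = g v
        rw [← LinearEquiv.mul_apply, inv_mul_cancel_right, LinearEquiv.mul_apply, hvY y' hy']
      obtain ⟨z0, hz0, hz0Y⟩ : ∃ z0 ∈ Z, z0 ∉ Y := by
        by_contra hcon
        push Not at hcon
        exact hHne Y hY (le_antisymm hYZ hcon)
      have hZgen : ∀ u ∈ Z, ∃ l : ℕ, ∀ v ∈ MY Y, u v = (z0 ^ l) v := by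
        intro u hu
        rw [← hHmax Y hY z0 hz0 hz0Y] at hu
        let P : Subgroup (V ≃ₗ[ZMod 2] V) :=
          { carrier := {u | u ∈ Z ∧ ∃ l : ℕ, ∀ v ∈ MY Y, u v = (z0 ^ l) v}
            one_mem' := ⟨one_mem Z, 0, fun v _ => rfl⟩
            mul_mem' := by
              rintro u u' ⟨hu, l, hl⟩ ⟨hu', l', hl'⟩
              refine ⟨mul_mem hu hu', l + l', fun v hv => ?_⟩
              rw [LinearEquiv.mul_apply, hl' v hv, pow_add, LinearEquiv.mul_apply,
                hl _ (hMYinv Y hY _ (pow_mem hz0 _) v hv)]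
            inv_mem' := by
              rintro u ⟨hu, l, hl⟩
              refine ⟨inv_mem hu, (r - 1) * l, fun v hv => ?_⟩
              have e0 : (z0 ^ (r - 1) ) = z0⁻¹ := by
                apply eq_inv_of_mul_eq_one_left
                rw [← pow_succ, Nat.sub_add_cancel (Fact.out : r.Prime).pos, hz0.2.1]
              rw [pow_mul, e0]
              apply u.injective
              rw [← LinearEquiv.mul_apply, mul_inv_cancel,
                hl _ (hMYinv Y hY _ (pow_mem (inv_mem hz0) _) v hv), ← LinearEquiv.mul_apply,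
                inv_pow, mul_inv_cancel] }
        have hle : Y ⊔ Subgroup.zpowers z0 ≤ P :=
          sup_le (fun y hy => ⟨hYZ hy, 0, fun v hv => by simpa using hv.2 y hy⟩)
            (Subgroup.zpowers_le.2 ⟨hz0, 1, fun v _ => by simp⟩)
        exact (hle hu).2
      have hxz := hZgen (x * z0 * x⁻¹) ((hZn x hxN z0).1 hz0)
      have hyz := hZgen (y * z0 * y⁻¹) ((hZn y hyN z0).1 hz0)
      obtain ⟨i, hi⟩ := hxz
      obtain ⟨l, hl⟩ := hyz
      have hmove : ∀ g ∈ N, Y.map (MulAut.conj g).toMonoidHom = Y → ∀ i : ℕ,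
          (∀ v ∈ MY Y, (g * z0 * g⁻¹) v = (z0 ^ i) v) →
          ∀ m : ℕ, ∀ v ∈ MY Y, g ((z0 ^ m) v) = (z0 ^ (i * m)) (g v) := by
        intro g hg he i hi m
        induction m with
        | zero => intro v _; simp
        | succ m ih =>
          intro v hv
          rw [pow_succ, LinearEquiv.mul_apply, ih _ (hMYinv Y hY z0 hz0 v hv), Nat.mul_succ, pow_add,
            LinearEquiv.mul_apply]
          congr 1
          rw [← hi _ (hsmall g hg he v hv), ← LinearEquiv.mul_apply, ← LinearEquiv.mul_apply,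
            inv_mul_cancel_right]
      have hxm := hmove x hxN (hxY Y hY) i hi
      have hym := hmove y hyN (hyY Y hY) l hl
      -- the exponents are units
      have hunit : ∀ g ∈ N, Y.map (MulAut.conj g).toMonoidHom = Y → ∀ i : ℕ,
          (∀ v ∈ MY Y, (g * z0 * g⁻¹) v = (z0 ^ i) v) → ¬ r ∣ i := by
        intro g hg he i hi hdvd
        obtain ⟨-, -, v, hv, hv0, hfix⟩ := id hY
        have hg' : ∀ u ∈ MY Y, z0 u = u := by
          intro u hu
          obtain ⟨q, rfl⟩ := hdvd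
          have := hmove g hg he _ hi 1 u hu
          rw [pow_one, mul_one, pow_mul, hz0.2.1, one_pow] at this
          exact g.injective this
        refine hv0 (eq_zero_of_movedPart hZodd hv ?_)
        rw [← hHmax Y hY z0 hz0 hz0Y]
        exact hfixsup Y z0 v hfix (hg' v ⟨hv, hfix⟩)
      have hil : ¬ r ∣ i * l := fun e => ((Fact.out : r.Prime).dvd_mul.1 e).elim
        (hunit x hxN (hxY Y hY) i hi) (hunit y hyN (hyY Y hY) l hl)
      obtain ⟨q, hq⟩ : ∃ q : ℕ, z0 ^ (i * l * q) = z0 := by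
        obtain ⟨q, hq⟩ := Nat.exists_mul_mod_eq_one_of_coprime
          (((Fact.out : r.Prime).coprime_iff_not_dvd.2 hil).symm) (Fact.out : r.Prime).one_lt
        exact ⟨q, by rw [← pow_mod_of_pow_eq_one hz0.2.1, hq.2, pow_one]⟩
      have hcz0 : ∀ v ∈ MY Y, c (z0 v) = z0 (c v) := by
        intro v hv
        -- write `v = y (x u)`
        have hxinv : x⁻¹ ∈ N := inv_mem hxN
        have hyinv : y⁻¹ ∈ N := inv_mem hyN
        have heinv : ∀ g : V ≃ₗ[ZMod 2] V, Y.map (MulAut.conj g).toMonoidHom = Y →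
            Y.map (MulAut.conj g⁻¹).toMonoidHom = Y := by
          intro g hg
          conv_lhs => rw [← hg, ← hmap2, inv_mul_cancel, map_one]
          exact Subgroup.map_id Y
        set u := x⁻¹ (y⁻¹ v) with hu
        have hyv := hsmall _ hyinv (heinv y (hyY Y hY)) v hv
        have huM : u ∈ MY Y := hsmall _ hxinv (heinv x (hxY Y hY)) _ hyv
        have hv' : y (x u) = v := by
          rw [hu, ← LinearEquiv.mul_apply x, mul_inv_cancel]
          show y (y⁻¹ v) = v
          rw [← LinearEquiv.mul_apply, mul_inv_cancel]; rfl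
        have hcu : ∀ w, c (y (x w)) = x (y w) := by
          intro w
          rw [← LinearEquiv.mul_apply y, ← LinearEquiv.mul_apply, ← LinearEquiv.mul_apply x y, hc]
          congr 1
          group
        have e1 : z0 v = y (x ((z0 ^ q) u)) := by
          rw [hxm q u huM, hym (i * q) _ (hsmall x hxN (hxY Y hY) u huM), hv',
            show l * (i * q) = i * l * q by ring, hq]
        rw [e1, hcu, hym q u huM, hxm (l * q) _ (hsmall y hyN (hyY Y hY) u huM),
          show i * (l * q) = i * l * q by ring, hq, ← hcu, hv']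
      intro v hv
      obtain ⟨m, hm⟩ := hZgen z hz
      have hpowc : ∀ m : ℕ, ∀ v ∈ MY Y, c ((z0 ^ m) v) = (z0 ^ m) (c v) := by
        intro m
        induction m with
        | zero => intro v _; rfl
        | succ m ih =>
          intro v hv
          rw [pow_succ]
          show c ((z0 ^ m) (z0 v)) = (z0 ^ m) (z0 (c v))
          rw [ih _ (hMYinv Y hY z0 hz0 v hv), hcz0 v hv]
      have hcY : ∀ v ∈ MY Y, c v ∈ MY Y := by
        refine hsmall c hcN ?_
        have hN1' : ∀ g : V ≃ₗ[ZMod 2] V, Y.map (MulAut.conj g).toMonoidHom = Y →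
            Y.map (MulAut.conj g⁻¹).toMonoidHom = Y := by
          intro g hg
          conv_lhs => rw [← hg, ← hmap2, inv_mul_cancel, map_one]
          exact Subgroup.map_id Y
        rw [hc, hmap2, hN1' y (hyY Y hY), hmap2, hN1' x (hxY Y hY), hmap2, hyY Y hY, hxY Y hY]
      rw [hm v hv, hpowc m v hv, hm _ (hcY v hv)]
    have hall : ∀ v, c (z v) = z (c v) := by
      intro v
      have hspan := mem_span_fixed_small hrodd (E := Z)
        (fun p hp q hq => omegaCentre_comm hp hq) (fun p hp => hp.2.1) v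
      induction hspan using Submodule.span_induction with
      | mem u hu =>
        obtain ⟨Y, hYZ, hcard, hufix⟩ := hu
        have hsplit : u = gsum Z u + (u - gsum Z u) := by rw [add_sub_cancel]
        have hfix0 : ∀ q ∈ fixedBy' (Z : Set (V ≃ₗ[ZMod 2] V)), c (z q) = z (c q) := fun q hq => by
          rw [hq z hz, (apply_mem_fixedBy (hZn c hcN) hq) z hz]
        rw [hsplit, map_add, map_add, map_add, map_add, hfix0 _ (gsum_mem_fixedBy Z u)]
        congr 1
        by_cases h0 : u - gsum Z u = 0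
        · rw [h0, map_zero, map_zero, map_zero]
        have hYfix : u - gsum Z u ∈ fixedBy' (Y : Set (V ≃ₗ[ZMod 2] V)) :=
          sub_mem hufix (fixedBy'_le_of_le hYZ (gsum_mem_fixedBy Z u))
        exact hkey Y ⟨hYZ, hcard, _, sub_gsum_mem_movedPart hZodd u, h0, hYfix⟩ _
          ⟨sub_gsum_mem_movedPart hZodd u, hYfix⟩
      | zero => simp
      | add p q _ _ hp hq => simp [map_add, hp, hq]
      | smul t p _ hp => simp [map_smul, hp]
    exact LinearEquiv.ext hall
  -- the centraliser of `Z`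
  set C := N ⊓ Subgroup.centralizer (Z : Set (V ≃ₗ[ZMod 2] V)) with hC
  have hCn : ∀ g ∈ N, ∀ x ∈ C, g * x * g⁻¹ ∈ C := by
    rintro g hg x ⟨hx, hxc⟩
    refine ⟨N.mul_mem (N.mul_mem hg hx) (N.inv_mem hg), ?_⟩
    intro z hz
    have hz' : g⁻¹ * z * g ∈ Z := (hZn g hg _).2 (by simpa [mul_assoc] using hz)
    have := congrArg (fun q => g * q * g⁻¹) (hxc _ hz')
    simpa [mul_assoc] using this
  have hCmove : ∃ x ∈ C, ∃ u ∈ U, x u ≠ u := by
    by_contra hcon
    push Not at hcon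
    set ρ := resHom N U normIn_fixed with hρ
    haveI : Group.IsSolvable ρ.range := by
      rw [Group.isSolvable_def]
      refine ⟨2, ?_⟩
      have hsur : Function.Surjective ρ.rangeRestrict := ρ.rangeRestrict_surjective
      rw [← map_derivedSeries_eq hsur, Subgroup.map_eq_bot_iff]
      have h1 : ∀ g ∈ derivedSeries N 1, (g : V ≃ₗ[ZMod 2] V) ∈ Subgroup.closure N1 := by
        intro g hg
        rw [derivedSeries_one, commutator_eq_closure] at hg
        induction hg using Subgroup.closure_induction with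
        | mem u hu =>
          obtain ⟨p, q, rfl⟩ := hu
          exact Subgroup.subset_closure (hN1c p p.2 q q.2)
        | one => exact one_mem _
        | mul p q _ _ hp hq => exact mul_mem hp hq
        | inv p _ hp => exact inv_mem hp
      have hN1grp : (Subgroup.closure N1 : Set (V ≃ₗ[ZMod 2] V)) ⊆ N1 := by
        intro g hg
        induction hg using Subgroup.closure_induction with
        | mem u hu => exact hu
        | one => exact ⟨one_mem N, fun Y _ => by rw [map_one]; exact Subgroup.map_id Y⟩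
        | mul p q _ _ hp hq =>
          exact ⟨mul_mem hp.1 hq.1, fun Y hY => by rw [hmap2, hq.2 Y hY, hp.2 Y hY]⟩
        | inv p _ hp =>
          refine ⟨inv_mem hp.1, fun Y hY => ?_⟩
          conv_lhs => rw [← hp.2 Y hY, ← hmap2, inv_mul_cancel, map_one]
          exact Subgroup.map_id Y
      rw [derivedSeries_succ, Subgroup.commutator_le]
      intro p hp q hq
      rw [MonoidHom.mem_ker]
      apply Subtype.ext
      refine LinearEquiv.ext fun u => ?_
      apply Subtype.ext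
      refine hcon _ ⟨?_, ?_⟩ u u.2
      · exact (⁅p, q⁆ : N).2
      · intro z hz
        exact (hN1Z _ (hN1grp (h1 p hp)) _ (hN1grp (h1 q hq)) z hz).eq.symm
    have h2 : ∀ a1 b1 a2 b2 : U, a1 ≠ 0 → b1 ≠ 0 → a1 ≠ b1 → a2 ≠ 0 → b2 ≠ 0 → a2 ≠ b2 →
        ∃ g ∈ ρ.range, g a1 = a2 ∧ g b1 = b2 := by
      intro a1 b1 a2 b2 h5 h6 h7 h8 h9 h10
      obtain ⟨g, hg, e1, e2⟩ := D.two a1 b1 a2 b2 a1.2 b1.2 a2.2 b2.2
        (fun e => h5 (Subtype.ext e)) (fun e => h6 (Subtype.ext e)) (fun e => h7 (Subtype.ext e))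
        (fun e => h8 (Subtype.ext e)) (fun e => h9 (Subtype.ext e)) (fun e => h10 (Subtype.ext e))
      exact ⟨ρ ⟨g, hg⟩, ⟨_, rfl⟩, Subtype.ext e1, Subtype.ext e2⟩
    have hbot := no_solvable_normal ρ.range ρ.range hk h2 le_rfl
      (fun g hg x hx => mul_mem (mul_mem hg hx) (inv_mem hg)) inferInstance
    obtain ⟨g, hg, hga, -⟩ := h2 ⟨a, D.left_mem⟩ ⟨b, D.right_mem⟩ ⟨b, D.right_mem⟩ ⟨a, D.left_mem⟩
      (fun e => D.ha (congrArg Subtype.val e)) (fun e => D.hb (congrArg Subtype.val e))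
      (fun e => D.hab (congrArg Subtype.val e)) (fun e => D.hb (congrArg Subtype.val e))
      (fun e => D.ha (congrArg Subtype.val e)) (fun e => D.hab (congrArg Subtype.val e).symm)
    rw [hbot, Subgroup.mem_bot] at hg
    rw [hg] at hga
    exact D.hab (congrArg Subtype.val hga)
  obtain ⟨s, hs, hsdvd, hs3⟩ := exists_prime_ne_three hk
  haveI : Fact s.Prime := ⟨hs⟩
  obtain ⟨x, hxC, hxs, hxU⟩ := D.exists_moving inf_le_left hCn hCmove s hsdvd
  set k' := orderOf (2 : ZMod s) with hk'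
  have hk3 : 3 ≤ k' := orderOf_two_ge (by omega) hsdvd hs3
  have hk'k : k' ∣ finrank (ZMod 2) U := orderOf_dvd_of_dvd hsdvd
  have hcop : Nat.Coprime k' d := by
    have hdR : d ∣ finrank (ZMod 2) (movedPart R) := hord ▸ orderOf_dvd_of_dvd
      (dvd_of_pGroup D.pgroup (fun g hg v hv => apply_mem_movedPart (normalize_of_mem hg) hv)
        fun v hv hf => eq_zero_of_movedPart (odd_card_of_pGroup hr2 D.pgroup) hv hf)
    have e := finrank_fixed_add_moved (odd_card_of_pGroup hr2 D.pgroup)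
    rw [h.hn, ← hU] at e
    have hg : Nat.gcd k' d ∣ n := by
      rw [← e]
      exact dvd_add ((Nat.gcd_dvd_left k' d).trans hk'k) ((Nat.gcd_dvd_right k' d).trans hdR)
    rcases (Nat.dvd_prime h.nprime).1 hg with e' | e'
    · exact e'
    · exfalso
      have := Nat.le_of_dvd (by omega) (Nat.gcd_dvd_right k' d)
      have := D.geom.w2
      omega
  set S := M ⊓ movedPart (Subgroup.zpowers x) with hS
  have hxodd : Odd (Nat.card (Subgroup.zpowers x)) :=
    odd_card_of_pGroup (fun e => by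
      rw [e] at hsdvd
      have := Nat.one_le_two_pow (n := finrank (ZMod 2) U)
      have h2 : 2 ∣ 2 ^ finrank (ZMod 2) U := dvd_pow_self 2 (by omega)
      omega) hxs
  have hcommxZ : ∀ g ∈ Subgroup.zpowers x, ∀ z ∈ Z, g * z = z * g := by
    intro g hg z hz
    have : Subgroup.zpowers x ≤ Subgroup.centralizer (Z : Set (V ≃ₗ[ZMod 2] V)) :=
      Subgroup.zpowers_le.2 hxC.2
    exact (this hg z hz).symm
  have hxM : ∀ g ∈ Subgroup.zpowers x, ∀ v ∈ M, g v ∈ M := fun g hg v hv =>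
    apply_mem_movedPart (normalize_of_commute (hcommxZ g hg)) hv
  have hdS : d ∣ finrank (ZMod 2) S := hMd S inf_le_left fun g hg v hv =>
    ⟨apply_mem_movedPart (normalize_of_mem hg) hv.1, apply_mem_movedPart
      (normalize_of_commute fun u hu => (hcommxZ u hu g hg).symm) hv.2⟩
  have hkS : k' ∣ finrank (ZMod 2) S := orderOf_dvd_of_dvd (dvd_of_pGroup hxs
    (fun g hg v hv => ⟨hxM g hg v hv.1, apply_mem_movedPart (normalize_of_mem hg) hv.2⟩)
    fun v hv hf => eq_zero_of_movedPart hxodd hv.2 hf)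
  have hS0 : S = ⊥ := by
    refine Submodule.finrank_eq_zero.1 ?_
    obtain ⟨c, hc⟩ := hcop.mul_dvd_of_dvd_of_dvd hkS hdS
    rcases Nat.eq_zero_or_pos c with e | e
    · rw [hc, e, mul_zero]
    · exfalso
      have h1 : finrank (ZMod 2) S ≤ finrank (ZMod 2) M := Submodule.finrank_mono inf_le_left
      have h4 : 3 * d ≤ finrank (ZMod 2) S := by
        rw [hc]
        exact (Nat.mul_le_mul hk3 (le_refl d)).trans (Nat.le_mul_of_pos_right (k' * d) e)
      omega
  have hfixM : ∀ v ∈ M, x v = v := by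
    intro v hv
    haveI := Fintype.ofFinite (Subgroup.zpowers x)
    have hgs : gsum (Subgroup.zpowers x) v ∈ M := by
      rw [gsum_apply]
      exact Submodule.sum_mem _ fun g _ => hxM g g.2 v hv
    have hmem : v - gsum (Subgroup.zpowers x) v ∈ S :=
      ⟨sub_mem hv hgs, sub_gsum_mem_movedPart hxodd v⟩
    rw [hS0, Submodule.mem_bot, sub_eq_zero] at hmem
    rw [hmem]
    exact gsum_mem_fixedBy _ v x (Subgroup.mem_zpowers x)
  refine D.finish hk hZodd hZn inf_le_left hCn ?_ hxC hfixM hxU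
  rw [← hM]
  have := D.geom.w2
  omega

/-- For `d ≠ 6` the group contains a transvection. -/
theorem Geom.transvection_of_ne_six (g : Geom A n w d) (h6 : d ≠ 6) :
    ∃ (φ : Dual (ZMod 2) V) (v : V) (hφ : φ v = 0), φ ≠ 0 ∧ v ≠ 0 ∧
      LinearEquiv.transvection hφ ∈ A := by
  obtain ⟨r, hr, hdvd, hord⟩ := H74.exists_prime_orderOf_eq (a := 2) (n := d) one_lt_two
    (by have := g.d2; omega) (fun h => h6 h.2) (by
      rintro ⟨-, m, hm⟩
      rcases Nat.lt_or_ge m 2 with h | h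
      · interval_cases m <;> omega
      · have := Nat.pow_le_pow_right two_pos h
        omega)
  haveI : Fact r.Prime := ⟨hr⟩
  have hr2 : r ≠ 2 := by
    rintro rfl
    have h2 : 2 ∣ 2 ^ d := dvd_pow_self 2 (by have := g.d2; omega)
    have := Nat.one_le_two_pow (n := d)
    omega
  have hord' : orderOf (2 : ZMod r) = d := by exact_mod_cast hord
  obtain ⟨a, b, R, D⟩ := g.exists_witt r 1 (by rwa [pow_one])
  rcases D.transvection_or_three_le hr2 hord' with h | h
  · exact (D.large_false hr2 hord' h).elim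
  · exact h

end Cfsg.Agent.H45.Mersenne
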