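import Cfsg.Agent.H45.Mersenne.Weight

/-!
# The geometry of a two-transitive linear group in Mersenne prime dimension
-/

set_option autoImplicit false
set_option linter.unusedSectionVars false
set_option linter.style.haveILetI false

namespace Cfsg.Agent.H45.Mersenne

open Module MulAction

variable {V : Type*} [AddCommGroup V] [Module (ZMod 2) V] [Finite V]

/-- The contragredient action. -/
@[instance_reducible]
def dualAction : MulAction (V ≃ₗ[ZMod 2] V) (Dual (ZMod 2) V) where
  smul g φ := φ ∘ₗ ((g⁻¹ : V ≃ₗ[ZMod 2] V) : V →ₗ[ZMod 2] V)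
  one_smul φ := LinearMap.ext fun v => rfl
  mul_smul g h φ := LinearMap.ext fun v => by
    show φ ((g * h)⁻¹ v) = φ (h⁻¹ (g⁻¹ v))
    rw [mul_inv_rev, LinearEquiv.mul_apply]

attribute [local instance] dualAction

theorem dual_smul_apply (g : V ≃ₗ[ZMod 2] V) (φ : Dual (ZMod 2) V) (v : V) :
    (g • φ) (g v) = φ v := by
  show φ (g⁻¹ (g v)) = φ v
  rw [← LinearEquiv.mul_apply, inv_mul_cancel]
  rfl

theorem dual_smul_eq_iff (g : V ≃ₗ[ZMod 2] V) (φ ψ : Dual (ZMod 2) V) :
    g • φ = ψ ↔ ∀ v, φ v = ψ (g v) := by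
  constructor
  · rintro rfl v
    exact (dual_smul_apply g φ v).symm
  · intro h
    refine LinearMap.ext fun v => ?_
    show φ (g⁻¹ v) = ψ v
    rw [h, ← LinearEquiv.mul_apply, mul_inv_cancel]
    rfl

/-- A two-transitive linear group in Mersenne prime dimension at least five. -/
structure Setup (A : Subgroup (V ≃ₗ[ZMod 2] V)) (n : ℕ) : Prop where
  hn : finrank (ZMod 2) V = n
  five : 5 ≤ n
  nprime : n.Prime
  pprime : (2 ^ n - 1).Prime
  two : ∀ a b a' b' : V, a ≠ 0 → b ≠ 0 → a ≠ b → a' ≠ 0 → b' ≠ 0 → a' ≠ b' →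
    ∃ g ∈ A, g a = a' ∧ g b = b'

variable {A : Subgroup (V ≃ₗ[ZMod 2] V)} {n : ℕ}

theorem two_pow_sub (a b : ℕ) (h : b ≤ a) : 2 ^ a = 2 ^ b * 2 ^ (a - b) := by
  rw [← pow_add, Nat.add_sub_cancel' h]

theorem Setup.card_V (h : Setup A n) : Nat.card V = 2 ^ n := by
  rw [Module.natCard_eq_pow_finrank (K := ZMod 2), h.hn]; simp

theorem Setup.ncard_ne_zero (h : Setup A n) : {v : V | v ≠ 0}.ncard = 2 ^ n - 1 := by
  rw [show {v : V | v ≠ 0} = ({0} : Set V)ᶜ from rfl, Set.ncard_compl, Set.ncard_singleton, h.card_V]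

theorem Setup.ncard_ne_two (h : Setup A n) {a : V} (ha : a ≠ 0) :
    {v : V | v ≠ 0 ∧ v ≠ a}.ncard = 2 ^ n - 2 := by
  rw [show {v : V | v ≠ 0 ∧ v ≠ a} = ({0, a} : Set V)ᶜ from Set.ext fun v => by simp,
    Set.ncard_compl, Set.ncard_pair (Ne.symm ha), h.card_V]

theorem Setup.two_pow_ge (h : Setup A n) : 32 ≤ 2 ^ n := by
  simpa using Nat.pow_le_pow_right two_pos h.five

theorem Setup.exists_third (h : Setup A n) (a : V) : ∃ b : V, b ≠ 0 ∧ b ≠ a := by
  by_contra hcon
  push Not at hcon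
  have h1 : {v : V | v ≠ 0} ⊆ {a} := fun v hv => hcon v hv
  have := Set.ncard_le_ncard h1
  rw [h.ncard_ne_zero, Set.ncard_singleton] at this
  have := h.two_pow_ge
  omega

theorem Setup.one_trans (h : Setup A n) {a a' : V} (ha : a ≠ 0) (ha' : a' ≠ 0) :
    ∃ g ∈ A, g a = a' := by
  obtain ⟨b, hb, hba⟩ := h.exists_third a
  obtain ⟨b', hb', hba'⟩ := h.exists_third a'
  obtain ⟨g, hg, h1, -⟩ := h.two a b a' b' ha hb hba.symm ha' hb' hba'.symm
  exact ⟨g, hg, h1⟩

/-- The sign of a bit. -/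
def sgn (c : ZMod 2) : ℤ := if c = 0 then 1 else -1

theorem sum_sgn [Fintype V] {φ : Dual (ZMod 2) V} (hφ : φ ≠ 0) : ∑ v : V, sgn (φ v) = 0 := by
  obtain ⟨v0, hv0⟩ : ∃ v0, φ v0 = 1 := by
    by_contra hcon
    push Not at hcon
    exact hφ (LinearMap.ext fun v => (zmod_two_cases (φ v)).resolve_right (hcon v))
  have h1 : ∑ v : V, sgn (φ v) = ∑ v : V, -sgn (φ v) := by
    refine Fintype.sum_equiv (Equiv.addRight v0) _ _ fun v => ?_
    show sgn (φ v) = -sgn (φ (v + v0))
    rw [map_add, hv0]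
    rcases zmod_two_cases (φ v) with e | e <;> rw [e] <;> simp [sgn, CharTwo.add_self_eq_zero]
  rw [Finset.sum_neg_distrib] at h1
  omega

theorem sgn_add (a b : ZMod 2) : sgn (a + b) = sgn a * sgn b := by
  rcases zmod_two_cases a with rfl | rfl <;> rcases zmod_two_cases b with rfl | rfl <;>
    simp [sgn, CharTwo.add_self_eq_zero]

/-- The stabiliser of a nonzero vector has two orbits on nonzero functionals. -/
theorem Setup.dual_stab_trans (h : Setup A n) {a : V} (ha : a ≠ 0) {φ ψ : Dual (ZMod 2) V}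
    (hφ : φ ≠ 0) (hψ : ψ ≠ 0) (hφψ : φ a = ψ a) :
    ∃ g ∈ A, g a = a ∧ g • φ = ψ := by
  classical
  haveI := Fintype.ofFinite V
  haveI : Finite (Dual (ZMod 2) V) := Finite.of_injective (fun f => (f : V → ZMod 2)) DFunLike.coe_injective
  haveI := Fintype.ofFinite (Dual (ZMod 2) V)
  set O : Finset (Dual (ZMod 2) V) :=
    Finset.univ.filter fun η => ∃ g ∈ A, g a = a ∧ g • φ = η with hO
  have hmem : ∀ η, η ∈ O ↔ ∃ g ∈ A, g a = a ∧ g • φ = η := fun η => by simp [hO]
  set f : V → ℤ := fun v => ∑ η ∈ O, sgn (η v) with hf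
  have hinv : ∀ g ∈ A, g a = a → ∀ v, f (g v) = f v := by
    intro g hg hga v
    simp only [hf]
    symm
    refine Finset.sum_equiv (MulAction.toPerm g) (fun η => ?_) fun η _ => ?_
    · simp only [hmem, MulAction.toPerm_apply]
      constructor
      · rintro ⟨k, hk, hka, rfl⟩
        exact ⟨g * k, mul_mem hg hk, by rw [LinearEquiv.mul_apply, hka, hga], mul_smul _ _ _⟩
      · rintro ⟨k, hk, hka, hke⟩
        refine ⟨g⁻¹ * k, mul_mem (inv_mem hg) hk, ?_, by rw [mul_smul, hke, inv_smul_smul]⟩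
        rw [LinearEquiv.mul_apply, hka]
        conv_lhs => rw [← hga]
        rw [← LinearEquiv.mul_apply, inv_mul_cancel]; rfl
    · rw [MulAction.toPerm_apply, dual_smul_apply]
  obtain ⟨b, hb, hba⟩ := h.exists_third a
  have hconst : ∀ v, v ≠ 0 → v ≠ a → f v = f b := by
    intro v hv hva
    obtain ⟨g, hg, hga, hgb⟩ := h.two a b a v ha hb hba.symm ha hv hva.symm
    rw [← hgb, hinv g hg hga]
  have hsplit : ∀ F : V → ℤ, ∑ v, F v = F 0 + F a + ∑ v ∈ (Finset.univ.erase 0).erase a, F v := by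
    intro F
    rw [← Finset.add_sum_erase _ _ (Finset.mem_univ (0 : V)),
      ← Finset.add_sum_erase _ _ (Finset.mem_erase.2 ⟨ha, Finset.mem_univ a⟩), add_assoc]
  have hval : ∀ η : Dual (ZMod 2) V, η ≠ 0 →
      ∑ v, f v * sgn (η v) = f 0 + f a * sgn (η a) + f b * (-1 - sgn (η a)) := by
    intro η hη
    have hr : ∑ v ∈ (Finset.univ.erase 0).erase a, sgn (η v) = -1 - sgn (η a) := by
      have := hsplit fun v => sgn (η v)
      rw [sum_sgn hη, map_zero] at this
      simp only [sgn, if_true] at this ⊢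
      linarith
    rw [hsplit]
    have : ∑ v ∈ (Finset.univ.erase 0).erase a, f v * sgn (η v) =
        f b * ∑ v ∈ (Finset.univ.erase 0).erase a, sgn (η v) := by
      rw [Finset.mul_sum]
      refine Finset.sum_congr rfl fun v hv => ?_
      simp only [Finset.mem_erase] at hv
      rw [hconst v hv.2.1 hv.1]
    rw [this, hr, map_zero]
    simp [sgn]
  have hind : ∀ η : Dual (ZMod 2) V,
      ∑ v, f v * sgn (η v) = if η ∈ O then (Fintype.card V : ℤ) else 0 := by
    intro η
    simp only [hf, Finset.sum_mul]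
    rw [Finset.sum_comm]
    have : ∀ ξ ∈ O, ∑ v, sgn (ξ v) * sgn (η v) = if ξ = η then (Fintype.card V : ℤ) else 0 := by
      intro ξ _
      simp only [← sgn_add]
      split_ifs with e
      · subst e
        simp [CharTwo.add_self_eq_zero, sgn]
      · have hne : ξ + η ≠ 0 := fun e0 => e (by
          refine LinearMap.ext fun v => ?_
          have := LinearMap.congr_fun e0 v
          rw [LinearMap.add_apply, LinearMap.zero_apply, add_eq_zero_iff_eq_neg, CharTwo.neg_eq] at this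
          exact this)
        simpa using sum_sgn hne
    rw [Finset.sum_congr rfl this, Finset.sum_ite_eq']
  have hφO : φ ∈ O := (hmem φ).2 ⟨1, one_mem A, rfl, one_smul _ _⟩
  have e1 := hind φ
  have e2 := hind ψ
  rw [hval φ hφ, if_pos hφO, hφψ] at e1
  rw [hval ψ hψ] at e2
  by_contra hcon
  have hψO : ψ ∉ O := fun hm => hcon ((hmem ψ).1 hm)
  rw [if_neg hψO] at e2
  have : (0 : ℤ) < Fintype.card V := by exact_mod_cast Fintype.card_pos
  omega

/-- The stabiliser of a functional is transitive on the vectors off its kernel. -/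
theorem Setup.antiflag (h : Setup A n) {φ : Dual (ZMod 2) V} {v v' : V} (hv : φ v = 1)
    (hv' : φ v' = 1) : ∃ g ∈ A, g • φ = φ ∧ g v = v' := by
  have h0 : ∀ x, φ x = 1 → x ≠ 0 := fun x hx e => by simp [e] at hx
  obtain ⟨g, hg, hgv⟩ := h.one_trans (h0 v hv) (h0 v' hv')
  have e1 : (g • φ) v' = 1 := by rw [← hgv, dual_smul_apply, hv]
  have hne : g • φ ≠ 0 := fun e => by rw [e] at e1; exact zero_ne_one e1
  have hne' : φ ≠ 0 := fun e => by rw [e] at hv; exact zero_ne_one hv
  obtain ⟨k, hk, hkv, hkφ⟩ := h.dual_stab_trans (h0 v' hv') hne hne' (e1.trans hv'.symm)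
  exact ⟨k * g, mul_mem hk hg, by rw [mul_smul, hkφ], by rw [LinearEquiv.mul_apply, hgv, hkv]⟩

/-- The stabiliser of a vector `a` and the line through `a` and `b`. -/
def stL (A : Subgroup (V ≃ₗ[ZMod 2] V)) (a b : V) : Subgroup (V ≃ₗ[ZMod 2] V) where
  carrier := {g | g ∈ A ∧ g a = a ∧ (g b = b ∨ g b = a + b)}
  one_mem' := ⟨one_mem A, rfl, Or.inl rfl⟩
  mul_mem' := by
    rintro g k ⟨hg, hga, hgb⟩ ⟨hk, hka, hkb⟩
    refine ⟨mul_mem hg hk, by rw [LinearEquiv.mul_apply, hka, hga], ?_⟩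
    rw [LinearEquiv.mul_apply]
    rcases hkb with e | e <;> rw [e]
    · exact hgb
    · rw [map_add, hga]
      rcases hgb with e' | e' <;> rw [e']
      · exact Or.inr rfl
      · left; rw [← add_assoc, ZModModule.add_self, zero_add]
  inv_mem' := by
    rintro g ⟨hg, hga, hgb⟩
    have key : ∀ x y : V, g x = y → g⁻¹ y = x := fun x y e => by
      rw [← e, ← LinearEquiv.mul_apply, inv_mul_cancel]; rfl
    refine ⟨inv_mem hg, key _ _ hga, ?_⟩
    rcases hgb with e | e
    · exact Or.inl (key _ _ e)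
    · right
      apply key
      rw [map_add, hga, e, ← add_assoc, ZModModule.add_self, zero_add]

/-- The stabiliser of two vectors. -/
def st2 (A : Subgroup (V ≃ₗ[ZMod 2] V)) (a b : V) : Subgroup (V ≃ₗ[ZMod 2] V) :=
  A ⊓ stabilizer (V ≃ₗ[ZMod 2] V) a ⊓ stabilizer (V ≃ₗ[ZMod 2] V) b

theorem mem_st2 {a b : V} {g : V ≃ₗ[ZMod 2] V} :
    g ∈ st2 A a b ↔ g ∈ A ∧ g a = a ∧ g b = b := by
  simp [st2, and_assoc, mem_stabilizer_iff]

theorem Setup.card_A (h : Setup A n) {a b : V} (ha : a ≠ 0) (hb : b ≠ 0) (hab : a ≠ b) :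
    Nat.card A = (2 ^ n - 1) * ((2 ^ n - 2) * Nat.card (st2 A a b)) ∧
      Nat.card (stL A a b) = 2 * Nat.card (st2 A a b) := by
  have o1 : orbit A a = {v : V | v ≠ 0} := by
    ext v
    constructor
    · rintro ⟨g, rfl⟩
      exact fun e => ha ((g : V ≃ₗ[ZMod 2] V).map_eq_zero_iff.1 e)
    · intro hv
      obtain ⟨g, hg, rfl⟩ := h.one_trans ha hv
      exact ⟨⟨g, hg⟩, rfl⟩
  have e1 := orbit_card_mul A a
  rw [o1, h.ncard_ne_zero] at e1
  have o2 : orbit (A ⊓ stabilizer (V ≃ₗ[ZMod 2] V) a : Subgroup _) b = {v : V | v ≠ 0 ∧ v ≠ a} := by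
    ext v
    constructor
    · rintro ⟨g, rfl⟩
      refine ⟨fun e => hb ((g : V ≃ₗ[ZMod 2] V).map_eq_zero_iff.1 e), fun e => hab.symm ?_⟩
      apply (g : V ≃ₗ[ZMod 2] V).injective
      exact e.trans (g.2.2 : (g : V ≃ₗ[ZMod 2] V) a = a).symm
    · rintro ⟨hv, hva⟩
      obtain ⟨g, hg, hga, rfl⟩ := h.two a b a v ha hb hab ha hv hva.symm
      exact ⟨⟨g, hg, hga⟩, rfl⟩
  have e2 := orbit_card_mul (A ⊓ stabilizer (V ≃ₗ[ZMod 2] V) a : Subgroup _) b
  rw [o2, h.ncard_ne_two ha] at e2
  have o3 : orbit (stL A a b) b = {b, a + b} := by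
    ext v
    constructor
    · rintro ⟨⟨g, -, -, hgb⟩, rfl⟩
      exact hgb
    · rintro (rfl | rfl)
      · exact mem_orbit_self _
      · obtain ⟨g, hg, hga, hgb⟩ := h.two a b a (a + b) ha hb hab ha
          (fun e => hab ((add_eq_zero_iff_eq' a b).1 e)) (fun e => hb (by simpa using e.symm))
        exact ⟨⟨g, hg, hga, Or.inr hgb⟩, hgb⟩
  have e3 := orbit_card_mul (stL A a b) b
  rw [o3, Set.ncard_pair (fun e => ha (by simpa using e.symm))] at e3
  have e4 : (stL A a b ⊓ stabilizer (V ≃ₗ[ZMod 2] V) b : Subgroup _) = st2 A a b := by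
    ext g
    rw [mem_st2]
    constructor
    · rintro ⟨⟨hg, hga, -⟩, hgb⟩
      exact ⟨hg, hga, hgb⟩
    · rintro ⟨hg, hga, hgb⟩
      exact ⟨⟨hg, hga, Or.inl hgb⟩, hgb⟩
  rw [e4] at e3
  refine ⟨?_, e3.symm⟩
  rw [← e1, ← e2]
  rfl

/-- The functionals through the line `a`, `b` with an orbit of odd size. -/
def oddFunctionals (A : Subgroup (V ≃ₗ[ZMod 2] V)) (a b : V) : Set (Dual (ZMod 2) V) :=
  {φ | φ ≠ 0 ∧ φ a = 0 ∧ φ b = 0 ∧ Odd (orbit (stL A a b) φ).ncard}

/-- The invariant subspace attached to a line with a marked point. -/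
def W (A : Subgroup (V ≃ₗ[ZMod 2] V)) (a b : V) : Submodule (ZMod 2) V where
  carrier := {x | ∀ φ ∈ oddFunctionals A a b, φ x = 0}
  add_mem' := fun {x y} hx hy φ hφ => by rw [map_add, hx φ hφ, hy φ hφ, add_zero]
  zero_mem' := fun φ _ => map_zero φ
  smul_mem' := fun c x hx φ hφ => by rw [map_smul, hx φ hφ, smul_zero]

theorem left_mem_W (a b : V) : a ∈ W A a b := fun _ hφ => hφ.2.1

theorem right_mem_W (a b : V) : b ∈ W A a b := fun _ hφ => hφ.2.2.1

theorem W_add_right (a b : V) : W A a (b + a) = W A a b := by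
  have hst : stL A a (b + a) = stL A a b := by
    ext g
    have hbb : a + (b + a) = b := by rw [add_left_comm, ZModModule.add_self, add_zero]
    constructor
    · rintro ⟨hg, hga, hgb⟩
      refine ⟨hg, hga, ?_⟩
      rw [map_add, hga] at hgb
      rcases hgb with e | e
      · exact Or.inl (add_right_cancel e)
      · right
        rw [hbb] at e
        calc g b = g b + a + a := by rw [add_assoc, ZModModule.add_self, add_zero]
          _ = a + b := by rw [e, add_comm]
    · rintro ⟨hg, hga, hgb⟩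
      refine ⟨hg, hga, ?_⟩
      rw [map_add, hga, hbb]
      rcases hgb with e | e <;> rw [e]
      · exact Or.inl rfl
      · right
        rw [add_comm a b, add_assoc, ZModModule.add_self, add_zero]
  have : oddFunctionals A a (b + a) = oddFunctionals A a b := by
    ext φ
    have horb : (orbit (stL A a (b + a)) φ).ncard = (orbit (stL A a b) φ).ncard :=
      congrArg (fun H : Subgroup (V ≃ₗ[ZMod 2] V) => (orbit H φ).ncard) hst
    simp only [oddFunctionals, Set.mem_ofPred_eq, map_add, horb]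
    constructor
    · rintro ⟨h1, h2, h3, h4⟩
      exact ⟨h1, h2, by simpa [h2] using h3, h4⟩
    · rintro ⟨h1, h2, h3, h4⟩
      exact ⟨h1, h2, by simp [h2, h3], h4⟩
  ext x
  simp only [W]
  rw [Submodule.mem_mk, Submodule.mem_mk]
  simp [this]

theorem smul_oddFunctionals {g : V ≃ₗ[ZMod 2] V} (hg : g ∈ A) {a b : V} {φ : Dual (ZMod 2) V}
    (hφ : φ ∈ oddFunctionals A a b) : g • φ ∈ oddFunctionals A (g a) (g b) := by
  obtain ⟨h1, h2, h3, h4⟩ := hφ
  refine ⟨fun e => h1 ?_, by rw [dual_smul_apply, h2], by rw [dual_smul_apply, h3], ?_⟩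
  · refine LinearMap.ext fun v => ?_
    rw [← dual_smul_apply g φ v, e]
    rfl
  have key : ∀ x y : V, ∀ k ∈ stL A x y, g * k * g⁻¹ ∈ stL A (g x) (g y) := by
    rintro x y k ⟨hk, hkx, hky⟩
    have hc : ∀ z, g⁻¹ (g z) = z := fun z => by
      rw [← LinearEquiv.mul_apply, inv_mul_cancel]; rfl
    refine ⟨mul_mem (mul_mem hg hk) (inv_mem hg), ?_, ?_⟩
    · rw [LinearEquiv.mul_apply, LinearEquiv.mul_apply, hc, hkx]
    · rw [LinearEquiv.mul_apply, LinearEquiv.mul_apply, hc]
      rcases hky with e | e <;> rw [e]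
      · exact Or.inl rfl
      · exact Or.inr (map_add g x y)
  have : orbit (stL A (g a) (g b)) (g • φ) = (g • ·) '' orbit (stL A a b) φ := by
    ext ψ
    constructor
    · rintro ⟨k, rfl⟩
      refine ⟨(g⁻¹ * k * g : V ≃ₗ[ZMod 2] V) • φ, ⟨⟨g⁻¹ * k * g, ?_⟩, rfl⟩, ?_⟩
      · have hc : ∀ z, g⁻¹ (g z) = z := fun z => by
          rw [← LinearEquiv.mul_apply, inv_mul_cancel]; rfl
        obtain ⟨hk, hkx, hky⟩ := k.2
        refine ⟨mul_mem (mul_mem (inv_mem hg) hk) hg, ?_, ?_⟩
        · rw [LinearEquiv.mul_apply, LinearEquiv.mul_apply, hkx, hc]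
        · rw [LinearEquiv.mul_apply, LinearEquiv.mul_apply]
          rcases hky with e | e <;> rw [e]
          · exact Or.inl (hc b)
          · right
            rw [map_add, hc, hc]
      · simp only [smul_smul, Subgroup.smul_def]
        congr 1
        simp [mul_assoc]
    · rintro ⟨_, ⟨k, rfl⟩, rfl⟩
      refine ⟨⟨g * k * g⁻¹, key a b k k.2⟩, ?_⟩
      simp only [smul_smul, Subgroup.smul_def]
      congr 1
      simp [mul_assoc]
  rw [this, Set.ncard_image_of_injective _ (MulAction.injective g)]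
  exact h4

theorem apply_mem_W {g : V ≃ₗ[ZMod 2] V} (hg : g ∈ A) {a b x : V} :
    g x ∈ W A (g a) (g b) ↔ x ∈ W A a b := by
  constructor
  · intro hx φ hφ
    rw [← dual_smul_apply g φ x]
    exact hx _ (smul_oddFunctionals hg hφ)
  · intro hx φ hφ
    have h1 := smul_oddFunctionals (inv_mem hg) hφ
    have hc : ∀ z, g⁻¹ (g z) = z := fun z => by
      rw [← LinearEquiv.mul_apply, inv_mul_cancel]; rfl
    rw [hc, hc] at h1
    have h2 := hx _ h1
    rw [← dual_smul_apply g⁻¹ φ (g x), hc]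
    exact h2

theorem map_W {g : V ≃ₗ[ZMod 2] V} (hg : g ∈ A) (a b : V) :
    (W A a b).map (g : V →ₗ[ZMod 2] V) = W A (g a) (g b) := by
  ext y
  constructor
  · rintro ⟨x, hx, rfl⟩
    exact (apply_mem_W hg).2 hx
  · intro hy
    have he : g (g⁻¹ y) = y := by rw [← LinearEquiv.mul_apply, mul_inv_cancel]; rfl
    exact ⟨g⁻¹ y, (apply_mem_W hg).1 (by rwa [he]), he⟩

theorem Setup.exists_oddFunctional (h : Setup A n) {a b : V} (ha : a ≠ 0) (hb : b ≠ 0)
    (hab : a ≠ b) : ∃ φ, φ ∈ oddFunctionals A a b := by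
  classical
  by_contra hcon
  push Not at hcon
  haveI : Finite (Dual (ZMod 2) V) := Finite.of_injective (fun f => (f : V → ZMod 2)) DFunLike.coe_injective
  set L := Submodule.span (ZMod 2) ({a, b} : Set V) with hL
  set N := L.dualAnnihilator with hN
  have hLrank : finrank (ZMod 2) L ≤ 2 := by
    refine (finrank_span_le_card _).trans ?_
    simp only [Set.toFinset_insert, Set.toFinset_singleton]
    exact (Finset.card_insert_le _ _).trans (by simp)
  have hNrank := Subspace.finrank_add_finrank_dualAnnihilator_eq L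
  rw [h.hn, ← hN] at hNrank
  have hNcard : Nat.card N = 2 ^ finrank (ZMod 2) N := by
    rw [Module.natCard_eq_pow_finrank (K := ZMod 2)]; simp
  have h5 := h.five
  haveI := Fintype.ofFinite (Dual (ZMod 2) V)
  set T : Finset (Dual (ZMod 2) V) := Finset.univ.filter fun φ => φ ∈ N ∧ φ ≠ 0 with hT
  have hTcard : T.card = 2 ^ finrank (ZMod 2) N - 1 := by
    rw [← hNcard, ← Set.ncard_coe_finset]
    have : (T : Set (Dual (ZMod 2) V)) = (N : Set (Dual (ZMod 2) V)) \ {0} := by ext; simp [hT]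
    rw [this, Set.ncard_sdiff_singleton_of_mem N.zero_mem]
    rfl
  have heven : 2 ∣ T.card := by
    rw [Finset.card_eq_sum_card_image (fun φ => orbit (stL A a b) φ) T]
    refine Finset.dvd_sum fun O hO => ?_
    obtain ⟨φ, hφ, rfl⟩ := Finset.mem_image.1 hO
    simp only [hT, Finset.mem_filter, Finset.mem_univ, true_and] at hφ
    have hab' : φ a = 0 ∧ φ b = 0 := ⟨(Submodule.mem_dualAnnihilator φ).1 hφ.1 a
      (Submodule.subset_span (by simp)), (Submodule.mem_dualAnnihilator φ).1 hφ.1 b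
      (Submodule.subset_span (by simp))⟩
    have he : ¬ Odd (orbit (stL A a b) φ).ncard := fun ho => hcon φ ⟨hφ.2, hab'.1, hab'.2, ho⟩
    rw [Nat.not_odd_iff_even, even_iff_two_dvd] at he
    refine he.trans (dvd_of_eq ?_)
    rw [← Set.ncard_coe_finset]
    congr 1
    ext ψ
    simp only [Finset.coe_filter, Set.mem_ofPred_eq, hT, Finset.mem_filter, Finset.mem_univ, true_and]
    constructor
    · intro hψ
      refine ⟨?_, orbit_eq_iff.2 hψ⟩
      obtain ⟨⟨g, hg, hga, hgb⟩, rfl⟩ := hψ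
      refine ⟨?_, fun e => hφ.2 (LinearMap.ext fun v => ?_)⟩
      · rw [Submodule.mem_dualAnnihilator]
        intro x hx
        show (g • φ) x = 0
        induction hx using Submodule.span_induction with
        | mem x hx =>
          have ea : (g • φ) a = 0 := by
            have := dual_smul_apply g φ a
            rwa [hga, hab'.1] at this
          rcases hx with ex | ex
          · rw [ex]; exact ea
          · obtain rfl : x = b := ex
            have := dual_smul_apply g φ x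
            rcases hgb with e | e
            · rwa [e, hab'.2] at this
            · rwa [e, map_add, ea, zero_add, hab'.2] at this
        | zero => simp
        | add x y _ _ hx hy => simp [hx, hy]
        | smul c x _ hx => simp [hx]
      · have := dual_smul_apply g φ v
        change g • φ = 0 at e
        rw [e] at this
        exact this.symm
    · rintro ⟨-, hψ⟩
      rw [← hψ]
      exact mem_orbit_self ψ
  have h1 : 2 ∣ 2 ^ finrank (ZMod 2) N := dvd_pow_self 2 (by omega)
  have := Nat.one_le_two_pow (n := finrank (ZMod 2) N)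
  omega

theorem Setup.W_ne_top (h : Setup A n) {a b : V} (ha : a ≠ 0) (hb : b ≠ 0) (hab : a ≠ b) :
    W A a b ≠ ⊤ := by
  intro e
  obtain ⟨φ, hφ⟩ := h.exists_oddFunctional ha hb hab
  refine hφ.1 (LinearMap.ext fun v => ?_)
  exact (e ▸ Submodule.mem_top : v ∈ W A a b) φ hφ

theorem Setup.stL_trans (h : Setup A n) {a b : V} (ha : a ≠ 0) (hb : b ≠ 0) (hab : a ≠ b)
    {c c' : V} (hc : c ∉ W A a b) (hc' : c' ∉ W A a b) : ∃ g ∈ stL A a b, g c = c' := by
  have hW : ∀ x, x ∉ W A a b → ∃ φ ∈ oddFunctionals A a b, φ x = 1 := by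
    intro x hx
    by_contra hcon
    push Not at hcon
    exact hx fun φ hφ => (zmod_two_cases (φ x)).resolve_right (hcon φ hφ)
  have step : ∀ φ ∈ oddFunctionals A a b, ∀ x y : V, φ x = 1 → φ y = 1 →
      ∃ g ∈ stL A a b, g x = y := by
    intro φ hφ x y hx hy
    obtain ⟨hAeq, hLeq⟩ := h.card_A ha hb hab
    set G := A ⊓ stabilizer (V ≃ₗ[ZMod 2] V) φ with hG
    set H := stL A a b ⊓ stabilizer (V ≃ₗ[ZMod 2] V) φ with hH
    have hHG : H ≤ G := inf_le_inf_right _ fun g hg => hg.1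
    have e1 := orbit_card_mul A φ
    have e2 := orbit_card_mul (stL A a b) φ
    rw [← hG] at e1
    rw [← hH] at e2
    obtain ⟨q, hq⟩ := Subgroup.card_dvd_of_le hHG
    have h32 := h.two_pow_ge
    have hpow : 2 ^ n = 2 * 2 ^ (n - 1) := by
      rw [← pow_succ']; congr 1; have := h.five; omega
    have hqodd : Odd q := by
      have hK : 0 < Nat.card (st2 A a b) := Nat.card_pos
      have hprod : (orbit A φ).ncard * q = (2 ^ n - 1) * ((2 ^ (n - 1) - 1) *
          (orbit (stL A a b) φ).ncard) := by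
        apply Nat.eq_of_mul_eq_mul_right (Nat.card_pos (α := H))
        calc (orbit A φ).ncard * q * Nat.card H = (orbit A φ).ncard * Nat.card G := by
              rw [hq, mul_assoc, mul_comm q]
          _ = Nat.card A := e1
          _ = (2 ^ n - 1) * ((2 ^ (n - 1) - 1) * Nat.card (stL A a b)) := by
              rw [hAeq, hLeq]
              congr 1
              rw [← mul_assoc, show (2 ^ (n - 1) - 1) * 2 = 2 ^ n - 2 by omega]
          _ = _ := by rw [← e2]; ring
      have hodd : Odd ((orbit A φ).ncard * q) := by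
        rw [hprod]
        refine Odd.mul ?_ (Odd.mul ?_ hφ.2.2.2)
        · rw [Nat.odd_iff]; omega
        · rw [Nat.odd_iff]
          have : 2 ^ (n - 1) = 2 * 2 ^ (n - 2) := by
            rw [← pow_succ']; congr 1; have := h.five; omega
          omega
      exact (Nat.odd_mul.1 hodd).2
    have hS : {v : V | φ v = 1}.ncard = 2 ^ (n - 1) := by
      have hker : finrank (ZMod 2) (LinearMap.ker φ) = n - 1 := by
        have := LinearMap.finrank_range_add_finrank_ker φ
        rw [LinearMap.range_eq_top.2 (LinearMap.surjective hφ.1), finrank_top, h.hn,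
          finrank_self] at this
        omega
      have : {v : V | φ v = 1} = ((LinearMap.ker φ : Submodule (ZMod 2) V) : Set V)ᶜ := by
        ext v
        rcases zmod_two_cases (φ v) with e | e <;> simp [e]
      rw [this, Set.ncard_compl, h.card_V, ← Nat.card_coe_set_eq, SetLike.coe_sort_coe,
        natCard_eq_two_pow, hker]
      omega
    have hmap : ∀ g ∈ G, ∀ v ∈ {v : V | φ v = 1}, g • v ∈ {v : V | φ v = 1} := by
      intro g hg v hv
      show φ (g v) = 1
      have := dual_smul_apply g φ v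
      rw [(hg.2 : g • φ = φ)] at this
      exact this.trans hv
    obtain ⟨g, hg, hgx⟩ := transitive_of_odd_index hHG hS hmap (fun u hu u' hu' => by
        obtain ⟨g, hg, hgφ, hgu⟩ := h.antiflag hu hu'
        exact ⟨g, ⟨hg, hgφ⟩, hgu⟩) hqodd (by rw [hq, mul_comm]) x hx y hy
    exact ⟨g, hg.1, hgx⟩
  obtain ⟨φ, hφ, hφc⟩ := hW c hc
  obtain ⟨ψ, hψ, hψc⟩ := hW c' hc'
  rcases zmod_two_cases (φ c') with e1 | e1
  swap
  · exact step φ hφ c c' hφc e1
  rcases zmod_two_cases (ψ c) with e2 | e2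
  swap
  · exact step ψ hψ c c' e2 hψc
  obtain ⟨g, hg, hgc⟩ := step φ hφ c (c + c') hφc (by rw [map_add, hφc, e1, add_zero])
  obtain ⟨k, hk, hkc⟩ := step ψ hψ (c + c') c' (by rw [map_add, hψc, e2, zero_add]) hψc
  exact ⟨k * g, mul_mem hk hg, by rw [LinearEquiv.mul_apply, hgc, hkc]⟩

end Cfsg.Agent.H45.Mersenne
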