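import Cfsg.Agent.H45.Mersenne.Basic

/-!
# Dimension three
-/

set_option autoImplicit false
set_option linter.unusedSectionVars false
set_option linter.style.haveILetI false

namespace Cfsg.Agent.H45.Mersenne

open Module MulAction

variable {V : Type*} [AddCommGroup V] [Module (ZMod 2) V] [Finite V]

theorem exists_outside_three (h3 : finrank (ZMod 2) V = 3) (a b : V) :
    ∃ c, c ∉ Submodule.span (ZMod 2) {a, b} := by
  classical
  by_contra hcon
  push Not at hcon
  have h1 : finrank (ZMod 2) (Submodule.span (ZMod 2) {a, b}) ≤ 2 := by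
    refine (finrank_span_le_card _).trans ?_
    simp only [Set.toFinset_insert, Set.toFinset_singleton]
    exact (Finset.card_insert_le _ _).trans (by simp)
  rw [Submodule.eq_top_iff'.2 hcon, finrank_top, h3] at h1
  omega

/-- The stabiliser of two independent vectors in dimension three. -/
theorem stab_two_dim_three (h3 : finrank (ZMod 2) V = 3) {a b : V} (ha : a ≠ 0) (hb : b ≠ 0)
    (hab : a ≠ b) (G : Subgroup (V ≃ₗ[ZMod 2] V)) (hG : ∀ g ∈ G, g a = a ∧ g b = b) :
    Nat.card G ∣ 4 := by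
  classical
  set L := Submodule.span (ZMod 2) ({a, b} : Set V) with hL
  have hLfix : ∀ g ∈ G, ∀ v ∈ L, g v = v := by
    intro g hg v hv
    obtain ⟨c1, c2, rfl⟩ := Submodule.mem_span_pair.1 hv
    rw [map_add, map_smul, map_smul, (hG g hg).1, (hG g hg).2]
  have hL2 : 2 ≤ finrank (ZMod 2) L := by
    have hsub : ({0, a, b} : Set V) ⊆ (L : Set V) := by
      rintro x (rfl | rfl | rfl)
      · exact L.zero_mem
      · exact Submodule.subset_span (by simp)
      · exact Submodule.subset_span (by simp)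
    have h1 := Set.ncard_le_ncard hsub
    rw [Set.ncard_insert_of_notMem (by simp [Ne.symm ha, Ne.symm hb]) (Set.toFinite _),
      Set.ncard_pair hab, ← Nat.card_coe_set_eq (L : Set V), SetLike.coe_sort_coe,
      natCard_eq_two_pow] at h1
    by_contra hc
    interval_cases finrank (ZMod 2) L <;> omega
  obtain ⟨c, hc⟩ := exists_outside_three h3 a b
  rw [← hL] at hc
  have htop : L ⊔ Submodule.span (ZMod 2) {c} = ⊤ := by
    apply Submodule.eq_top_of_finrank_eq
    have hlt : L < L ⊔ Submodule.span (ZMod 2) {c} := lt_of_le_of_ne le_sup_left fun e =>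
      hc (e ▸ Submodule.mem_sup_right (Submodule.mem_span_singleton_self c))
    have := Submodule.finrank_lt_finrank_of_lt hlt
    have := Submodule.finrank_le (L ⊔ Submodule.span (ZMod 2) {c})
    omega
  have hext : ∀ g ∈ G, ∀ k ∈ G, g c = k c → g = k := by
    intro g hg k hk e
    refine LinearEquiv.ext fun v => ?_
    obtain ⟨l, hl, m, hm, rfl⟩ := Submodule.mem_sup.1 (htop ▸ Submodule.mem_top : v ∈ L ⊔ _)
    obtain ⟨t, rfl⟩ := Submodule.mem_span_singleton.1 hm
    rw [map_add, map_add, map_smul, map_smul, hLfix g hg l hl, hLfix k hk l hl, e]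
  -- every element is an involution
  have hdisp : ∀ g ∈ G, g c + c ∈ L := by
    intro g hg
    obtain ⟨l, hl, m, hm, hsum⟩ := Submodule.mem_sup.1 (htop ▸ Submodule.mem_top : g c ∈ L ⊔ _)
    obtain ⟨t, rfl⟩ := Submodule.mem_span_singleton.1 hm
    rcases zmod_two_cases t with rfl | rfl
    · exfalso
      rw [zero_smul, add_zero] at hsum
      rw [hsum] at hl
      have := hLfix g⁻¹ (inv_mem hg) _ hl
      rw [← LinearEquiv.mul_apply, inv_mul_cancel] at this
      exact hc ((show c = g c from this).symm ▸ hl)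
    · rw [one_smul] at hsum
      rw [← hsum, add_assoc, ZModModule.add_self, add_zero]
      exact hl
  haveI : Fact (Nat.Prime 2) := ⟨Nat.prime_two⟩
  have hP : IsPGroup 2 G := fun g => ⟨1, by
    rw [pow_one]
    apply Subtype.ext
    refine hext _ (g ^ 2).2 1 (one_mem G) ?_
    show ((g : V ≃ₗ[ZMod 2] V) ^ 2) c = c
    rw [pow_two, LinearEquiv.mul_apply]
    have e : (g : V ≃ₗ[ZMod 2] V) c = ((g : V ≃ₗ[ZMod 2] V) c + c) + c := by
      rw [add_assoc, ZModModule.add_self, add_zero]
    conv_lhs => rw [e]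
    rw [map_add, hLfix _ g.2 _ (hdisp _ g.2)]
    rw [add_comm _ ((g : V ≃ₗ[ZMod 2] V) c), ← add_assoc, ZModModule.add_self, zero_add]⟩
  obtain ⟨i, hi⟩ := IsPGroup.iff_card.1 hP
  have hL4 : Nat.card L ≤ 4 := by
    rw [natCard_eq_two_pow]
    have h1 : finrank (ZMod 2) L ≤ 2 := by
      refine (finrank_span_le_card _).trans ?_
      simp only [Set.toFinset_insert, Set.toFinset_singleton]
      exact (Finset.card_insert_le _ _).trans (by simp)
    calc 2 ^ finrank (ZMod 2) L ≤ 2 ^ 2 := Nat.pow_le_pow_right two_pos h1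
      _ = 4 := rfl
  have hle : Nat.card G ≤ 4 := by
    refine le_trans (Nat.card_le_card_of_injective
      (fun g : G => (⟨(g : V ≃ₗ[ZMod 2] V) c + c, hdisp g g.2⟩ : L)) ?_) hL4
    intro g k e
    exact Subtype.ext (hext g g.2 k k.2 (add_right_cancel (congrArg Subtype.val e)))
  rw [hi] at hle ⊢
  have hi2 : i ≤ 2 := (Nat.pow_le_pow_iff_right (by omega : 1 < 2)).1 (hle.trans (by norm_num))
  exact (pow_dvd_pow 2 hi2).trans (by norm_num)

/-- A two-transitive linear group in dimension three is the general linear group. -/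
theorem eq_top_of_two_trans_three (h3 : finrank (ZMod 2) V = 3) (Γ : Subgroup (V ≃ₗ[ZMod 2] V))
    (h2 : ∀ a b a' b' : V, a ≠ 0 → b ≠ 0 → a ≠ b → a' ≠ 0 → b' ≠ 0 → a' ≠ b' →
      ∃ g ∈ Γ, g a = a' ∧ g b = b') : Γ = ⊤ := by
  classical
  have hcardV : Nat.card V = 8 := by
    rw [Module.natCard_eq_pow_finrank (K := ZMod 2), h3]; simp
  obtain ⟨a, ha⟩ : ∃ a : V, a ≠ 0 := by
    by_contra hc
    push Not at hc
    haveI : Subsingleton V := ⟨fun x y => by rw [hc x, hc y]⟩
    rw [Nat.card_of_subsingleton (0 : V)] at hcardV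
    omega
  obtain ⟨b, hb, hba⟩ : ∃ b : V, b ≠ 0 ∧ b ≠ a := by
    by_contra hc
    push Not at hc
    have h1 : (Set.univ : Set V) ⊆ {0, a} := fun x _ => by
      by_cases hx : x = 0
      · exact Or.inl hx
      · exact Or.inr (hc x hx)
    have := Set.ncard_le_ncard h1
    rw [Set.ncard_univ, hcardV, Set.ncard_pair (Ne.symm ha)] at this
    omega
  have hcard : ∀ G : Subgroup (V ≃ₗ[ZMod 2] V), (∀ a b a' b' : V, a ≠ 0 → b ≠ 0 → a ≠ b → a' ≠ 0 →
      b' ≠ 0 → a' ≠ b' → ∃ g ∈ G, g a = a' ∧ g b = b') →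
      ∃ j, j ∣ 4 ∧ Nat.card G = 42 * j := by
    intro G hG
    refine ⟨Nat.card (G ⊓ stabilizer (V ≃ₗ[ZMod 2] V) a ⊓ stabilizer (V ≃ₗ[ZMod 2] V) b :
      Subgroup _), stab_two_dim_three h3 ha hb hba.symm _ fun g hg => ⟨hg.1.2, hg.2⟩, ?_⟩
    have o1 : orbit G a = ({0} : Set V)ᶜ := by
      ext v
      constructor
      · rintro ⟨g, rfl⟩
        exact fun e => ha ((g : V ≃ₗ[ZMod 2] V).map_eq_zero_iff.1 e)
      · intro (hv : v ≠ 0)
        rcases eq_or_ne v a with rfl | hva
        · exact mem_orbit_self _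
        · obtain ⟨g, hg, e, -⟩ := hG a v v a ha hv hva.symm hv ha hva
          exact ⟨⟨g, hg⟩, e⟩
    have o2 : orbit (G ⊓ stabilizer (V ≃ₗ[ZMod 2] V) a : Subgroup _) b = ({0, a} : Set V)ᶜ := by
      ext v
      constructor
      · rintro ⟨g, rfl⟩ (e | e)
        · exact hb ((g : V ≃ₗ[ZMod 2] V).map_eq_zero_iff.1 e)
        · exact hba ((g : V ≃ₗ[ZMod 2] V).injective
            (e.trans (g.2.2 : (g : V ≃ₗ[ZMod 2] V) a = a).symm))
      · intro hv
        simp only [Set.mem_compl_iff, Set.mem_insert_iff, Set.mem_singleton_iff, not_or] at hv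
        obtain ⟨g, hg, e1, e2⟩ := hG a b a v ha hb hba.symm ha hv.1 (Ne.symm hv.2)
        exact ⟨⟨g, hg, e1⟩, e2⟩
    have e1 := orbit_card_mul G a
    have e2 := orbit_card_mul (G ⊓ stabilizer (V ≃ₗ[ZMod 2] V) a : Subgroup _) b
    rw [o1, Set.ncard_compl, Set.ncard_singleton, hcardV] at e1
    rw [o2, Set.ncard_compl, Set.ncard_pair (Ne.symm ha), hcardV] at e2
    omega
  obtain ⟨j, hj, hΓ⟩ := hcard Γ h2
  obtain ⟨i, hi, hT⟩ := hcard ⊤ fun a b a' b' h5 h6 h7 h8 h9 h10 => by
    obtain ⟨g, -, e⟩ := h2 a b a' b' h5 h6 h7 h8 h9 h10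
    exact ⟨g, Subgroup.mem_top g, e⟩
  have hj4 : j = 1 ∨ j = 2 ∨ j = 4 := by
    obtain ⟨l, hl, rfl⟩ := (Nat.dvd_prime_pow Nat.prime_two (m := 2)).1 hj
    interval_cases l <;> simp
  rcases hj4 with rfl | rfl | rfl
  rotate_left 2
  · refine Subgroup.eq_of_le_of_card_ge le_top ?_
    rw [hΓ, hT]
    exact Nat.mul_le_mul_left _ (Nat.le_of_dvd (by omega) hi)
  -- otherwise a normal Sylow seven subgroup
  all_goals
    exfalso
    haveI : Fact (Nat.Prime 7) := ⟨by norm_num⟩
    obtain ⟨P⟩ : Nonempty (Sylow 7 Γ) := inferInstance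
    have hPc : Nat.card (P : Subgroup Γ) = 7 := by
      obtain ⟨k, hk⟩ := IsPGroup.iff_card.1 P.isPGroup'
      have hd := Subgroup.card_subgroup_dvd_card (P : Subgroup Γ)
      have h7 : 7 ∣ Nat.card (P : Subgroup Γ) := P.dvd_card_of_dvd_card (by rw [hΓ]; norm_num)
      rw [hΓ, hk] at hd
      rw [hk] at h7 ⊢
      have hk2 : k < 2 := by
        by_contra hc
        have := (pow_dvd_pow 7 (show 2 ≤ k by omega)).trans hd
        norm_num at this
      interval_cases k <;> simp_all
    have hidx : (P : Subgroup Γ).index * 7 = Nat.card Γ := by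
      have := Subgroup.index_mul_card (P : Subgroup Γ)
      rwa [hPc] at this
    have h1 := P.card_dvd_index
    have h1' := card_sylow_modEq_one 7 Γ
    have hone : Nat.card (Sylow 7 Γ) = 1 := by
      have hle := Nat.le_of_dvd (Nat.pos_of_ne_zero Subgroup.index_ne_zero_of_finite) h1
      rw [hΓ] at hidx
      have h2' : Nat.card (Sylow 7 Γ) % 7 = 1 := h1'
      generalize Nat.card (Sylow 7 Γ) = N at *
      obtain ⟨q, hq⟩ := h1
      have : N ≤ 12 := by omega
      interval_cases N <;> omega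
    haveI : Subsingleton (Sylow 7 Γ) := (Nat.card_eq_one_iff_unique.1 hone).1
    haveI hn : (P : Subgroup Γ).Normal := inferInstance
    haveI : IsCyclic (P : Subgroup Γ) := isCyclic_of_prime_card hPc
    have hne : (P : Subgroup Γ).map Γ.subtype ≠ ⊥ := by
      rw [Ne, Subgroup.map_eq_bot_iff_of_injective _ Γ.subtype_injective]
      intro e
      rw [e, Subgroup.card_bot] at hPc
      omega
    refine hne (no_normal_abelian Γ _ (by omega) h2 (Subgroup.map_subtype_le _) ?_ ?_)
    · rintro g hg _ ⟨x, hx, rfl⟩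
      exact ⟨(⟨g, hg⟩ : Γ) * x * (⟨g, hg⟩ : Γ)⁻¹, hn.conj_mem x hx _, by simp⟩
    · rintro _ ⟨x, hx, rfl⟩ _ ⟨y, hy, rfl⟩
      exact (congrArg (fun q : (P : Subgroup Γ) => ((q : Γ) : V ≃ₗ[ZMod 2] V))
        (IsCyclic.commGroup.mul_comm (⟨x, hx⟩ : (P : Subgroup Γ)) ⟨y, hy⟩))

/-- Two noncommuting elements of a two-group in dimension three. -/
theorem exists_nonabelian_two_group (h3 : finrank (ZMod 2) V = 3) :
    ∃ K : Subgroup (V ≃ₗ[ZMod 2] V), IsPGroup 2 K ∧ ∃ x ∈ K, ∃ y ∈ K, x * y ≠ y * x := by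
  classical
  let bs : Basis (Fin 3) (ZMod 2) V := Module.finBasisOfFinrankEq _ _ h3
  set e1 := bs 0
  set e2 := bs 1
  set e3 := bs 2
  have hc : ∀ i j, bs.coord i (bs j) = if j = i then 1 else 0 := fun i j => by
    simp [Basis.coord_apply, Finsupp.single_apply]
  have h1 : bs.coord 1 e1 = 0 := by simp [e1, hc]
  have h2 : bs.coord 2 e2 = 0 := by simp [e2, hc]
  set F1 := Submodule.span (ZMod 2) {e1}
  set F2 := Submodule.span (ZMod 2) ({e1, e2} : Set V)
  have hF12 : F1 ≤ F2 := Submodule.span_mono (by simp)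
  let K : Subgroup (V ≃ₗ[ZMod 2] V) :=
    { carrier := {g | g e1 = e1 ∧ g e2 + e2 ∈ F1 ∧ ∀ v, g v + v ∈ F2}
      one_mem' := ⟨rfl, by simp [ZModModule.add_self], fun v => by simp [ZModModule.add_self]⟩
      mul_mem' := by
        rintro g k ⟨hg1, hg2, hg3⟩ ⟨hk1, hk2, hk3⟩
        refine ⟨by rw [LinearEquiv.mul_apply, hk1, hg1], ?_, fun v => ?_⟩
        · obtain ⟨t, ht⟩ := Submodule.mem_span_singleton.1 hk2
          have : (g * k) e2 + e2 = (g e2 + e2) + t • e1 := by
            rw [LinearEquiv.mul_apply, show k e2 = t • e1 + e2 by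
              rw [ht, add_assoc, ZModModule.add_self, add_zero], map_add, map_smul, hg1]
            abel
          rw [this]
          exact add_mem hg2 (Submodule.smul_mem _ _ (Submodule.mem_span_singleton_self _))
        · have : (g * k) v + v = (g (k v) + k v) + (k v + v) := by
            rw [LinearEquiv.mul_apply, add_assoc, ← add_assoc (k v), ZModModule.add_self, zero_add]
          rw [this]
          exact add_mem (hg3 _) (hk3 v)
      inv_mem' := by
        rintro g ⟨hg1, hg2, hg3⟩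
        have hcan : ∀ v, g (g⁻¹ v) = v := fun v => by
          rw [← LinearEquiv.mul_apply, mul_inv_cancel]; rfl
        have hi1 : g⁻¹ e1 = e1 := by
          apply g.injective; rw [hcan, hg1]
        refine ⟨hi1, ?_, fun v => ?_⟩
        · obtain ⟨t, ht⟩ := Submodule.mem_span_singleton.1 hg2
          have : g⁻¹ e2 = t • e1 + e2 := by
            apply g.injective
            rw [hcan, map_add, map_smul, hg1,
              show g e2 = t • e1 + e2 by rw [ht, add_assoc, ZModModule.add_self, add_zero],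
              ← add_assoc, ZModModule.add_self, zero_add]
          rw [this, add_assoc, ZModModule.add_self, add_zero]
          exact Submodule.smul_mem _ _ (Submodule.mem_span_singleton_self _)
        · have := hg3 (g⁻¹ v)
          rwa [hcan, add_comm] at this }
  refine ⟨K, fun g => ⟨2, ?_⟩, LinearEquiv.transvection h1, ?_, LinearEquiv.transvection h2, ?_, ?_⟩
  · obtain ⟨hg1, hg2, hg3⟩ := g.2
    apply Subtype.ext
    refine LinearEquiv.ext fun v => ?_
    have hsq : ∀ v, (((g : V ≃ₗ[ZMod 2] V)) ^ 2) v + v ∈ F1 := by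
      intro v
      obtain ⟨c1, c2, hc12⟩ := Submodule.mem_span_pair.1 (hg3 v)
      have hgv : (g : V ≃ₗ[ZMod 2] V) v = c1 • e1 + c2 • e2 + v := by
        rw [hc12, add_assoc, ZModModule.add_self, add_zero]
      rw [pow_two, LinearEquiv.mul_apply, hgv, map_add, map_add, map_smul, map_smul, hg1, hgv]
      have : c1 • e1 + c2 • (g : V ≃ₗ[ZMod 2] V) e2 + (c1 • e1 + c2 • e2 + v) + v =
          c2 • ((g : V ≃ₗ[ZMod 2] V) e2 + e2) := by
        calc c1 • e1 + c2 • (g : V ≃ₗ[ZMod 2] V) e2 + (c1 • e1 + c2 • e2 + v) + v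
            = (c1 • e1 + c1 • e1) + (v + v) + (c2 • (g : V ≃ₗ[ZMod 2] V) e2 + c2 • e2) := by abel
          _ = _ := by rw [ZModModule.add_self, ZModModule.add_self, zero_add, zero_add, smul_add]
      rw [this]
      exact Submodule.smul_mem _ _ hg2
    show ((g : V ≃ₗ[ZMod 2] V) ^ (2 ^ 2)) v = v
    rw [show (2 ^ 2 : ℕ) = 2 * 2 from rfl, pow_mul, pow_two, LinearEquiv.mul_apply]
    obtain ⟨t, ht⟩ := Submodule.mem_span_singleton.1 (hsq v)
    have he1 : ((g : V ≃ₗ[ZMod 2] V) ^ 2) e1 = e1 := by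
      rw [pow_two, LinearEquiv.mul_apply, hg1, hg1]
    have hv : ((g : V ≃ₗ[ZMod 2] V) ^ 2) v = t • e1 + v := by
      rw [ht, add_assoc, ZModModule.add_self, add_zero]
    rw [hv, map_add, map_smul, he1, hv, ← add_assoc, ZModModule.add_self, zero_add]
  · refine ⟨?_, ?_, fun v => ?_⟩
    · simp [LinearMap.transvection.apply, h1]
    · rw [LinearEquiv.transvection.apply, add_comm, ← add_assoc, ZModModule.add_self, zero_add]
      exact Submodule.smul_mem _ _ (Submodule.mem_span_singleton_self _)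
    · rw [LinearEquiv.transvection.apply, add_comm, ← add_assoc, ZModModule.add_self, zero_add]
      exact Submodule.smul_mem _ _ (Submodule.subset_span (by simp))
  · refine ⟨?_, ?_, fun v => ?_⟩
    · simp [LinearMap.transvection.apply, e1, hc]
    · rw [LinearEquiv.transvection.apply, h2, zero_smul, add_zero, ZModModule.add_self]
      exact zero_mem _
    · rw [LinearEquiv.transvection.apply, add_comm, ← add_assoc, ZModModule.add_self, zero_add]
      exact Submodule.smul_mem _ _ (Submodule.subset_span (by simp))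
  · intro hcomm
    have := LinearEquiv.congr_fun hcomm e3
    simp [LinearEquiv.mul_apply, LinearMap.transvection.apply, e1, e2, e3, hc] at this
    have h0 := congrArg (bs.coord 0) this
    simp [hc] at h0

end Cfsg.Agent.H45.Mersenne
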