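import Cfsg.Agent.H45.Mersenne.SixRank
import Cfsg.Agent.H45.Mersenne.Small
import Cfsg.Agent.S0675

/-!
# The codimension six
-/

set_option autoImplicit false
set_option linter.unusedSectionVars false
set_option linter.style.haveILetI false

namespace Cfsg.Agent.H45.Mersenne

open Module MulAction
open scoped commutatorElement

attribute [local instance] dualAction

variable {V : Type*} [AddCommGroup V] [Module (ZMod 2) V] [Finite V]
  {A : Subgroup (V ≃ₗ[ZMod 2] V)} {n w : ℕ}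

theorem exists_prime_for_fixed {k : ℕ} (hodd : Odd k) (h3 : 3 ≤ k) (h11 : k ≤ 11) :
    ∃ s : ℕ, s.Prime ∧ s ∣ 2 ^ k - 1 ∧ s ≠ 2 ∧ s ≠ 3 ∧ (∀ j, 1 ≤ j → j ≤ 5 → ¬ s ∣ 3 ^ j - 1) ∧
      (k = 3 ∨ ∀ m, m ≤ 14 → 6 ∣ m → s ∣ 2 ^ m - 1 → m = 0) := by
  have hk : k = 3 ∨ k = 5 ∨ k = 7 ∨ k = 9 ∨ k = 11 := by
    obtain ⟨l, rfl⟩ := hodd; omega
  have hs : ∀ s, (∀ j < 6, 1 ≤ j → ¬ s ∣ 3 ^ j - 1) → ∀ j, 1 ≤ j → j ≤ 5 → ¬ s ∣ 3 ^ j - 1 :=
    fun s h j h1 h2 => h j (by omega) h1
  have hm : ∀ s, (∀ m < 15, 6 ∣ m → s ∣ 2 ^ m - 1 → m = 0) →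
      ∀ m, m ≤ 14 → 6 ∣ m → s ∣ 2 ^ m - 1 → m = 0 :=
    fun s h m h1 => h m (by omega)
  rcases hk with rfl | rfl | rfl | rfl | rfl
  · exact ⟨7, by norm_num, by norm_num, by norm_num, by norm_num, hs 7 (by decide), Or.inl rfl⟩
  · exact ⟨31, by norm_num, by norm_num, by norm_num, by norm_num, hs 31 (by decide),
      Or.inr (hm 31 (by decide))⟩
  · exact ⟨127, by norm_num, by norm_num, by norm_num, by norm_num, hs 127 (by decide),
      Or.inr (hm 127 (by decide))⟩
  · exact ⟨73, by norm_num, by norm_num, by norm_num, by norm_num, hs 73 (by decide),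
      Or.inr (hm 73 (by decide))⟩
  · exact ⟨23, by norm_num, by norm_num, by norm_num, by norm_num, hs 23 (by decide),
      Or.inr (hm 23 (by decide))⟩

theorem six_dvd_of_nine_dvd {m : ℕ} (h : 9 ∣ 2 ^ m - 1) : 6 ∣ m := by
  have h6 : orderOf (2 : ZMod 9) = 6 := by
    rw [orderOf_eq_iff (by norm_num)]
    refine ⟨by decide, fun m hm h0 => ?_⟩
    interval_cases m <;> decide
  exact h6 ▸ orderOf_dvd_of_dvd h

theorem orderOf_two_zmod_three : orderOf (2 : ZMod 3) = 2 := by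
  rw [orderOf_eq_iff two_pos]
  refine ⟨by decide, fun m hm h0 => ?_⟩
  interval_cases m; decide

theorem Geom.not_six (g : Geom A n w 6) : False := by
  classical
  haveI : Fact (Nat.Prime 3) := ⟨Nat.prime_three⟩
  have h := g.setup
  have hsum := g.sum
  have hn : n = 13 ∨ n = 17 := by
    have h18 := g.three
    have h5 := h.five
    have hw2 := g.w2
    have hp := h.nprime
    have hp' := h.pprime
    have : n ≠ 11 := by rintro rfl; norm_num at hp'
    interval_cases n <;> first | omega | norm_num at hp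
  have hmin : min 6 (w - 1) = 6 := by omega
  obtain ⟨a, b, R, D⟩ := g.exists_witt 3 2 (by norm_num)
  set U := fixedBy' (R : Set (V ≃ₗ[ZMod 2] V)) with hU
  set k := finrank (ZMod 2) U with hk
  obtain ⟨hk2, hkw⟩ := D.finrank_fixed two_pos
  rw [← hU, ← hk] at hk2 hkw
  have hRodd := odd_card_of_pGroup (by omega) D.pgroup
  have eR := finrank_fixed_add_moved hRodd
  rw [h.hn, ← hU, ← hk] at eR
  have hkodd : Odd k := by
    have h2 : orderOf (2 : ZMod 3) ∣ finrank (ZMod 2) (movedPart R) := orderOf_dvd_of_dvd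
      (dvd_of_pGroup D.pgroup (fun g hg v hv => apply_mem_movedPart (normalize_of_mem hg) hv)
        fun v hv hf => eq_zero_of_movedPart hRodd hv hf)
    rw [orderOf_two_zmod_three] at h2
    rw [Nat.odd_iff]; omega
  have hk3 : 3 ≤ k := by obtain ⟨l, hl⟩ := hkodd; omega
  have hk11 : k ≤ 11 := by omega
  have hcodim : finrank (ZMod 2) V ≤ finrank (ZMod 2) U + 14 := by
    rw [h.hn, ← hk]; omega
  set N := normIn A R with hN
  -- rank of elementary abelian subgroups
  have hrank : ∀ E ≤ R, (∀ x ∈ E, ∀ y ∈ E, Commute x y) → (∀ x ∈ E, x ^ 3 = 1) →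
      Nat.card E ≤ 3 ^ 5 := by
    intro E hER hc hexp
    obtain ⟨ρ, hρ⟩ := IsPGroup.iff_card.1 (D.pgroup.to_le hER)
    rw [hρ]
    refine Nat.pow_le_pow_right (by omega) ?_
    by_contra hcon
    obtain ⟨x, hx, hx1, hle⟩ := exists_elt_small_codim (by omega) hc hexp hρ
    have h1 := g.codim_fixed (D.le_A (hER hx)) hx1
    have h2 := Submodule.finrank_mono (fixedBy'_le_of_le hER)
    rw [← hU, ← hk] at h2
    omega
  -- orbits
  have horb : ∀ v : V, (orbit R v).ncard ≤ 3 ∨ 9 ∣ (orbit R v).ncard := by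
    intro v
    obtain ⟨i, hi⟩ := D.pgroup.card_orbit v
    rw [← Nat.card_coe_set_eq, hi]
    rcases Nat.lt_or_ge i 2 with h | h
    · left
      calc 3 ^ i ≤ 3 ^ 1 := Nat.pow_le_pow_right (by omega) (by omega)
        _ = 3 := rfl
    · exact Or.inr (dvd_trans (by norm_num) (pow_dvd_pow 3 h))
  have hne : R ≠ ⊥ := D.ne_bot two_pos
  haveI : Nontrivial R := (Subgroup.nontrivial_iff_ne_bot R).2 hne
  set F := (frattini R).map R.subtype with hF
  have hFR : F ≤ R := Subgroup.map_subtype_le _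
  have hFp : IsPGroup 3 F := D.pgroup.to_le hFR
  have hFodd := odd_card_of_pGroup (by omega) hFp
  have hFfix : ∀ v : V, (orbit R v).ncard ≤ 3 → v ∈ fixedBy' (F : Set (V ≃ₗ[ZMod 2] V)) := by
    intro v hv
    rintro _ ⟨f, hf, rfl⟩
    obtain ⟨i, hi⟩ := D.pgroup.card_orbit v
    rw [Nat.card_coe_set_eq] at hi
    have hidx : (stabilizer R v).index = 3 ^ i := by rw [index_stabilizer, hi]
    rcases Nat.eq_zero_or_pos i with rfl | hi0
    · rw [pow_zero, Subgroup.index_eq_one] at hidx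
      exact (hidx ▸ Subgroup.mem_top f : f ∈ stabilizer R v)
    have hi1 : i = 1 := by
      rw [hi] at hv
      have := (Nat.pow_le_pow_iff_right (by omega : 1 < 3) (m := 1)).1 hv
      omega
    subst hi1
    have hcoatom : IsCoatom (stabilizer R v) := by
      refine ⟨fun e => ?_, fun K hK => ?_⟩
      · rw [e, Subgroup.index_top] at hidx; norm_num at hidx
      · have hd := Subgroup.index_dvd_of_le hK.le
        rw [hidx, pow_one] at hd
        rcases (Nat.dvd_prime Nat.prime_three).1 hd with e | e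
        · exact Subgroup.index_eq_one.1 e
        · exfalso
          have h1 := Subgroup.card_mul_index K
          have h2 := Subgroup.card_mul_index (stabilizer R v)
          rw [e] at h1
          rw [hidx, pow_one] at h2
          exact hK.ne (Subgroup.eq_of_le_of_card_ge hK.le (by omega))
    exact (frattini_le_coatom hcoatom hf : f ∈ stabilizer R v)
  set M := movedPart F with hM
  have hFn : ∀ x ∈ N, ∀ z, z ∈ F ↔ x * z * x⁻¹ ∈ F := fun x hx =>
    Subgroup.mem_normalizer_iff.1 (H53.le_normalizer_map_characteristic (H := R)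
      (A := Subgroup.zpowers x) (frattini R) (Subgroup.zpowers_le.2 hx.2) (Subgroup.mem_zpowers x))
  have hRN : R ≤ N := fun x hx => ⟨D.le_A hx, Subgroup.le_normalizer hx⟩
  have hM6 : ∀ S : Submodule (ZMod 2) V, S ≤ M → (∀ x ∈ R, ∀ v ∈ S, x v ∈ S) →
      6 ∣ finrank (ZMod 2) S := by
    intro S hS hinv
    refine six_dvd_of_nine_dvd (dvd_two_pow_sub_one hinv fun v hv hv0 => ?_)
    rcases horb v with h | h
    · exact absurd (eq_zero_of_movedPart hFodd (hS hv) (hFfix v h)) hv0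
    · exact h
  have hMne : M ≠ ⊥ := by
    intro hM0
    have hF0 : F = ⊥ := by
      by_contra hne0
      exact movedPart_ne_bot hFodd hne0 hM0
    have hsmallR : ∀ x ∈ R, x ^ 3 = 1 ∧ ∀ y ∈ R, Commute x y := by
      intro x hx
      have h1 : ∀ z : R, z ∈ frattini R → z = 1 := by
        intro z hz
        have : (z : V ≃ₗ[ZMod 2] V) ∈ F := ⟨z, hz, rfl⟩
        rw [hF0, Subgroup.mem_bot] at this
        exact Subtype.ext this
      refine ⟨congrArg Subtype.val (h1 _ (H24.pow_mem_frattini D.pgroup ⟨x, hx⟩)), fun y hy => ?_⟩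
      have := h1 _ (H24.commutator_le_frattini D.pgroup
        (Subgroup.commutator_mem_commutator (Subgroup.mem_top (⟨x, hx⟩ : R))
          (Subgroup.mem_top (⟨y, hy⟩ : R))))
      exact congrArg Subtype.val (commutatorElement_eq_one_iff_mul_comm.1 this)
    have hall : ∀ v, v ∈ W A a b := by
      intro v
      have hspan := mem_span_fixed_small (r := 3) (by decide) (E := R)
        (fun x hx y hy => (hsmallR x hx).2 y hy) (fun x hx => (hsmallR x hx).1) v
      refine (Submodule.span_le.2 ?_) hspan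
      rintro u ⟨Y, hYR, hY, hu⟩
      by_contra huW
      have h9 := D.outside u huW
      have e1 := orbit_card_mul R u
      have hle : Y ≤ R ⊓ stabilizer (V ≃ₗ[ZMod 2] V) u := le_inf hYR fun y hy => hu y hy
      have h2 := Subgroup.card_le_of_le hle
      have hpos : 0 < Nat.card Y := Nat.card_pos
      have hopos : 0 < (orbit R u).ncard := (Set.ncard_pos (Set.toFinite _)).2 ⟨u, mem_orbit_self u⟩
      have h3 : 9 ≤ (orbit R u).ncard := Nat.le_of_dvd hopos (by simpa using h9)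
      have h4 := Nat.mul_le_mul h3 h2
      omega
    exact h.W_ne_top D.ha D.hb D.hab (Submodule.eq_top_iff'.2 hall)
  have hMdvd := hM6 M le_rfl fun x hx v hv => apply_mem_movedPart (hFn x (hRN hx)) hv
  have hM6' : 6 ≤ finrank (ZMod 2) M :=
    Nat.le_of_dvd (Nat.pos_of_ne_zero fun e => hMne (Submodule.finrank_eq_zero.1 e)) hMdvd
  have hMle : finrank (ZMod 2) M ≤ 14 := by
    have e1 := finrank_fixed_add_moved hFodd
    have e2 := Submodule.finrank_mono (fixedBy'_le_of_le hFR)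
    rw [h.hn, ← hM] at e1
    rw [← hU, ← hk] at e2
    omega
  have hbig : n < finrank (ZMod 2) (movedPart F) + 2 * min 6 (w - 1) := by
    rw [← hM, hmin]; omega
  -- an element centralising `R`
  set C := N ⊓ Subgroup.centralizer (R : Set (V ≃ₗ[ZMod 2] V)) with hC
  have hCn : ∀ x ∈ N, ∀ y ∈ C, x * y * x⁻¹ ∈ C := by
    rintro x hx y ⟨hy, hyc⟩
    refine ⟨N.mul_mem (N.mul_mem hx hy) (N.inv_mem hx), ?_⟩
    intro z hz
    have hz' : x⁻¹ * z * x ∈ R := (normIn_iff hx _).2 (by simpa [mul_assoc] using hz)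
    have := congrArg (fun q => x * q * x⁻¹) (hyc _ hz')
    simpa [mul_assoc] using this
  obtain ⟨s, hs, hsdvd, hs2, hs3, hs35, hscase⟩ := exists_prime_for_fixed hkodd hk3 hk11
  haveI : Fact s.Prime := ⟨hs⟩
  have hNmove : ∃ x ∈ N, ∃ u ∈ U, x u ≠ u := by
    obtain ⟨x, hx, e, -⟩ := D.two a b b a D.left_mem D.right_mem D.right_mem D.left_mem
      D.ha D.hb D.hab D.hb D.ha D.hab.symm
    exact ⟨x, hx, a, D.left_mem, by rw [e]; exact D.hab.symm⟩
  obtain ⟨x, hxN, hxs, hxU⟩ := D.exists_moving le_rfl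
    (fun p hp q hq => N.mul_mem (N.mul_mem hp hq) (N.inv_mem hp)) hNmove s hsdvd
  have hxR := commute_of_small hxs hs3 hs35 D.pgroup (normIn_iff hxN) hcodim hrank
  have hxC : x ∈ C := ⟨hxN, fun z hz => by
    calc z * x = (x * z * x⁻¹) * x := by rw [hxR z hz]
      _ = x * z := by simp [mul_assoc]⟩
  have hCmove : ∃ y ∈ C, ∃ u ∈ U, y u ≠ u := ⟨x, hxC, hxU⟩
  have hcommM : ∀ y ∈ C, ∀ v ∈ M, y v ∈ M := fun y hy v hv =>
    apply_mem_movedPart (hFn y hy.1) hv
  have hRcomm : ∀ y ∈ C, ∀ z ∈ R, z * y = y * z := fun y hy z hz => hy.2 z hz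
  rcases hscase with hk3' | hlarge
  swap
  · -- the element is trivial on `M`
    have hxodd := odd_card_of_pGroup hs2 hxs
    have hzp : ∀ y ∈ Subgroup.zpowers x, y ∈ C := fun y hy =>
      (Subgroup.zpowers_le.2 hxC : Subgroup.zpowers x ≤ C) hy
    set S := M ⊓ movedPart (Subgroup.zpowers x) with hS
    have h6S : 6 ∣ finrank (ZMod 2) S := hM6 S inf_le_left fun z hz v hv =>
      ⟨apply_mem_movedPart (hFn z (hRN hz)) hv.1, apply_mem_movedPart
        (normalize_of_commute fun y hy => hRcomm y (hzp y hy) z hz) hv.2⟩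
    have hsS : s ∣ 2 ^ finrank (ZMod 2) S - 1 := dvd_of_pGroup hxs
      (fun y hy v hv => ⟨hcommM y (hzp y hy) v hv.1, apply_mem_movedPart (normalize_of_mem hy) hv.2⟩)
      fun v hv hf => eq_zero_of_movedPart hxodd hv.2 hf
    have hle : finrank (ZMod 2) S ≤ finrank (ZMod 2) M := Submodule.finrank_mono inf_le_left
    have hS0 : S = ⊥ := Submodule.finrank_eq_zero.1 (hlarge _ (by omega) h6S hsS)
    have hfixM : ∀ v ∈ M, x v = v := by
      intro v hv
      haveI := Fintype.ofFinite (Subgroup.zpowers x)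
      have hgs : gsum (Subgroup.zpowers x) v ∈ M := by
        rw [gsum_apply]
        exact Submodule.sum_mem _ fun y _ => hcommM y (hzp y y.2) v hv
      have hmem : v - gsum (Subgroup.zpowers x) v ∈ S :=
        ⟨sub_mem hv hgs, sub_gsum_mem_movedPart hxodd v⟩
      rw [hS0, Submodule.mem_bot, sub_eq_zero] at hmem
      rw [hmem]
      exact gsum_mem_fixedBy _ v x (Subgroup.mem_zpowers x)
    exact D.finish hk3 hFodd hFn inf_le_left hCn hbig hxC hfixM hxU
  -- three-dimensional fixed space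
  by_cases hX : ∃ y ∈ C, (∀ v ∈ M, y v = v) ∧ ∃ u ∈ U, y u ≠ u
  · obtain ⟨y, hy, hyM, hyU⟩ := hX
    exact D.finish hk3 hFodd hFn inf_le_left hCn hbig hy hyM hyU
  push Not at hX
  set ρ := resHom C U (fun y hy v hv => apply_mem_fixedBy (normIn_iff hy.1) hv) with hρ
  -- the image is everything
  have hρtop : ρ.range = ⊤ := by
    set ρN := resHom N U normIn_fixed with hρN
    have hN2 : ∀ a1 b1 a2 b2 : U, a1 ≠ 0 → b1 ≠ 0 → a1 ≠ b1 → a2 ≠ 0 → b2 ≠ 0 → a2 ≠ b2 →
        ∃ y ∈ ρN.range, y a1 = a2 ∧ y b1 = b2 := by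
      intro a1 b1 a2 b2 h5 h6 h7 h8 h9 h10
      obtain ⟨y, hy, e1, e2⟩ := D.two a1 b1 a2 b2 a1.2 b1.2 a2.2 b2.2
        (fun e => h5 (Subtype.ext e)) (fun e => h6 (Subtype.ext e)) (fun e => h7 (Subtype.ext e))
        (fun e => h8 (Subtype.ext e)) (fun e => h9 (Subtype.ext e)) (fun e => h10 (Subtype.ext e))
      exact ⟨ρN ⟨y, hy⟩, ⟨_, rfl⟩, Subtype.ext e1, Subtype.ext e2⟩
    have hNtop := eq_top_of_two_trans_three (V := U) (hk.symm.trans hk3') ρN.range hN2
    obtain ⟨u, hu, hu0, htr⟩ := D.trans_of_moves inf_le_left hCn hCmove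
    have hnorm : ∀ γ ∈ (⊤ : Subgroup (U ≃ₗ[ZMod 2] U)), ∀ y ∈ ρ.range, γ * y * γ⁻¹ ∈ ρ.range := by
      intro γ _ y hy
      obtain ⟨⟨m, hm⟩, rfl⟩ : γ ∈ ρN.range := hNtop ▸ Subgroup.mem_top γ
      obtain ⟨⟨c, hc⟩, rfl⟩ := hy
      refine ⟨⟨m * c * m⁻¹, hCn m hm c hc⟩, ?_⟩
      apply LinearEquiv.ext
      intro v
      rfl
    have hns : ¬ Group.IsSolvable ρ.range := by
      intro hsol
      have hbot := no_solvable_normal ⊤ ρ.range (by rw [← hk]; omega)
        (fun a1 b1 a2 b2 h5 h6 h7 h8 h9 h10 => by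
          obtain ⟨y, -, e⟩ := hN2 a1 b1 a2 b2 h5 h6 h7 h8 h9 h10
          exact ⟨y, Subgroup.mem_top y, e⟩) le_top hnorm hsol
      obtain ⟨v, hv, e⟩ := hxU
      apply e
      have : ρ ⟨x, hxC⟩ ∈ (⊥ : Subgroup _) := hbot ▸ ⟨⟨x, hxC⟩, rfl⟩
      rw [Subgroup.mem_bot] at this
      exact congrArg Subtype.val (LinearEquiv.congr_fun this ⟨v, hv⟩)
    -- Burnside's theorem in degree seven
    set P := {v : U // v ≠ 0} with hP
    haveI : Fintype P := Fintype.ofFinite P
    have hPcard : Fintype.card P = 7 := by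
      rw [← Nat.card_eq_fintype_card]
      have h1 : {v : U | v ≠ 0}.ncard = 2 ^ k - 1 := by
        rw [show {v : U | v ≠ 0} = ({0} : Set U)ᶜ from rfl, Set.ncard_compl, Set.ncard_singleton,
          Module.natCard_eq_pow_finrank (K := ZMod 2), ← hk]
        simp
      rw [hP, ← Set.coe_ofPred, Nat.card_coe_set_eq, h1, hk3']
      rfl
    let φ : ρ.range →* Equiv.Perm P :=
      { toFun := fun γ => (γ : U ≃ₗ[ZMod 2] U).toEquiv.subtypeEquiv fun v => by simp
        map_one' := Equiv.ext fun v => Subtype.ext rfl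
        map_mul' := fun γ δ => Equiv.ext fun v => Subtype.ext rfl }
    have hφinj : Function.Injective φ := by
      intro γ δ e
      apply Subtype.ext
      refine LinearEquiv.ext fun v => ?_
      by_cases hv : v = 0
      · simp [hv]
      · exact congrArg Subtype.val (Equiv.congr_fun e ⟨v, hv⟩)
    haveI : MulAction.IsPretransitive φ.range P := by
      refine ⟨fun p q => ?_⟩
      obtain ⟨y1, hy1, e1⟩ := htr p.1 p.1.2 (fun e => p.2 (Subtype.ext e))
      obtain ⟨y2, hy2, e2⟩ := htr q.1 q.1.2 (fun e => q.2 (Subtype.ext e))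
      refine ⟨⟨φ ⟨ρ ⟨y2 * y1⁻¹, C.mul_mem hy2 (C.inv_mem hy1)⟩, ⟨_, rfl⟩⟩, ⟨_, rfl⟩⟩, ?_⟩
      apply Subtype.ext
      apply Subtype.ext
      show (y2 * y1⁻¹) ((p.1 : U) : V) = _
      rw [← e1, LinearEquiv.mul_apply, ← LinearEquiv.mul_apply y1⁻¹, inv_mul_cancel]
      exact e2
    rcases Cfsg.Agent.S0675.result (by rw [hPcard]; norm_num) φ.range with hs' | h2t
    · exact absurd (Group.isSolvable_of_isSolvable_injective
        (f := φ.rangeRestrict) (fun γ δ e => hφinj (congrArg Subtype.val e))) hns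
    refine eq_top_of_two_trans_three (V := U) (hk.symm.trans hk3') ρ.range ?_
    intro a1 b1 a2 b2 h5 h6 h7 h8 h9 h10
    have h2' := @is_two_pretransitive_iff φ.range P _ _
    have hh : ∀ p q p' q' : P, p ≠ q → p' ≠ q' → ∃ g : φ.range, g • p = p' ∧ g • q = q' :=
      fun p q p' q' hpq hpq' => h2'.1 h2t hpq hpq'
    obtain ⟨⟨_, γ, rfl⟩, e1, e2⟩ := hh ⟨a1, h5⟩ ⟨b1, h6⟩ ⟨a2, h8⟩ ⟨b2, h9⟩
      (fun e => h7 (congrArg Subtype.val e)) (fun e => h10 (congrArg Subtype.val e))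
    exact ⟨γ, γ.2, congrArg Subtype.val e1, congrArg Subtype.val e2⟩
  obtain ⟨K, hK2, k1, hk1, k2, hk2', hk12⟩ := exists_nonabelian_two_group (V := U) (hk.symm.trans hk3')
  haveI : Fact (Nat.Prime 2) := ⟨Nat.prime_two⟩
  -- a two-subgroup covering `K`
  let ψ := ρ.subgroupComap K
  have hψ : Function.Surjective ψ := by
    intro y
    obtain ⟨c, hc⟩ : (y : U ≃ₗ[ZMod 2] U) ∈ ρ.range := hρtop ▸ Subgroup.mem_top _
    exact ⟨⟨c, by rw [Subgroup.mem_comap, hc]; exact y.2⟩, Subtype.ext hc⟩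
  obtain ⟨T⟩ : Nonempty (Sylow 2 (K.comap ρ)) := inferInstance
  have hTtop : (T : Subgroup (K.comap ρ)).map ψ = ⊤ := by
    have h1 := (T.mapSurjective hψ).is_maximal' (Q := ⊤)
      (IsPGroup.of_card (G := (⊤ : Subgroup K)) (n := (Nat.card K).factorization 2) (by
        obtain ⟨i, hi⟩ := IsPGroup.iff_card.1 hK2
        rw [Subgroup.card_top, hi, Nat.prime_two.factorization_pow, Finsupp.single_eq_same]))
      le_top
    exact h1.symm
  set T' : Subgroup (V ≃ₗ[ZMod 2] V) :=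
    ((T : Subgroup (K.comap ρ)).map (K.comap ρ).subtype).map C.subtype with hT'
  have hT'C : T' ≤ C := Subgroup.map_subtype_le _
  have hT'2 : IsPGroup 2 T' := (T.isPGroup'.map _).map _
  have hTM : ∀ t ∈ T', ∀ v ∈ M, t v ∈ M := fun t ht => hcommM t (hT'C ht)
  -- `T'` acts commutatively on `M`
  obtain ⟨m0, hm0, hm00, hm0f⟩ := exists_fixed_of_two_group hT'2 hTM hMne
  set G1 := M ⊓ fixedBy' (T' : Set (V ≃ₗ[ZMod 2] V)) with hG1
  have hRT : ∀ z ∈ R, ∀ t ∈ T', z * t = t * z := fun z hz t ht => hRcomm t (hT'C ht) z hz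
  have hG16 : 6 ∣ finrank (ZMod 2) G1 := hM6 G1 inf_le_left fun z hz v hv =>
    ⟨apply_mem_movedPart (hFn z (hRN hz)) hv.1, apply_mem_fixedBy (normalize_of_commute (hRT z hz)) hv.2⟩
  have hG1pos : 0 < finrank (ZMod 2) G1 := Nat.pos_of_ne_zero fun e => hm00 (by
    have : m0 ∈ G1 := ⟨hm0, hm0f⟩
    rw [Submodule.finrank_eq_zero.1 e] at this
    exact (Submodule.mem_bot _).1 this)
  have hcommfix : ∀ t ∈ T', ∀ t' ∈ T', ∀ v ∈ M, (t * t') v = (t' * t) v := by
    by_cases hG1M : G1 = M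
    · intro t ht t' ht' v hv
      rw [← hG1M] at hv
      rw [LinearEquiv.mul_apply, LinearEquiv.mul_apply, hv.2 t' ht', hv.2 t ht, hv.2 t' ht']
    -- vectors displaced into `G1`
    let G2 : Submodule (ZMod 2) V :=
      { carrier := {v | v ∈ M ∧ ∀ t ∈ T', t v + v ∈ G1}
        zero_mem' := ⟨zero_mem M, fun t _ => by simp⟩
        add_mem' := fun {v v'} hv hv' => ⟨add_mem hv.1 hv'.1, fun t ht => by
          rw [map_add, add_add_add_comm]; exact add_mem (hv.2 t ht) (hv'.2 t ht)⟩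
        smul_mem' := fun c v hv => ⟨Submodule.smul_mem _ c hv.1, fun t ht => by
          rw [map_smul, ← smul_add]; exact Submodule.smul_mem _ c (hv.2 t ht)⟩ }
    have hG2R : ∀ z ∈ R, ∀ v ∈ G2, z v ∈ G2 := fun z hz v hv =>
      ⟨apply_mem_movedPart (hFn z (hRN hz)) hv.1, fun t ht => by
        have h1 := hv.2 t ht
        rw [← LinearEquiv.mul_apply, ← hRT z hz t ht, LinearEquiv.mul_apply, ← map_add]
        exact ⟨apply_mem_movedPart (hFn z (hRN hz)) h1.1,
          apply_mem_fixedBy (normalize_of_commute (hRT z hz)) h1.2⟩⟩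
    have hG12 : G1 ≤ G2 := fun v hv => ⟨hv.1, fun t ht => by
      rw [hv.2 t ht, ZModModule.add_self]; exact zero_mem G1⟩
    have hlt : G1 < G2 := by
      refine lt_of_le_of_ne hG12 fun e => ?_
      have hTG1 : ∀ t ∈ T', G1 ≤ G1.comap ((t : V ≃ₗ[ZMod 2] V) : V →ₗ[ZMod 2] V) := fun t ht v hv =>
        ⟨hTM t ht v hv.1, by
          show t v ∈ fixedBy' _
          rw [hv.2 t ht]; exact hv.2⟩
      let π : T' →* ((V ⧸ G1) ≃ₗ[ZMod 2] (V ⧸ G1)) :=
        MonoidHom.toHomUnits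
          ({ toFun := fun t => G1.mapQ G1 ((t : V ≃ₗ[ZMod 2] V) : V →ₗ[ZMod 2] V) (hTG1 t t.2)
             map_one' := Submodule.linearMap_qext _ rfl
             map_mul' := fun t t' => Submodule.linearMap_qext _ rfl } :
            T' →* Module.End (ZMod 2) (V ⧸ G1)) |>
          (LinearMap.GeneralLinearGroup.generalLinearEquiv (ZMod 2) (V ⧸ G1)).toMonoidHom.comp
      have hπ : ∀ (t : T') (v : V), π t (Submodule.Quotient.mk v) =
          Submodule.Quotient.mk ((t : V ≃ₗ[ZMod 2] V) v) := fun t v => rfl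
      haveI : Finite (V ⧸ G1) := Quotient.finite _
      have hT2 : IsPGroup 2 π.range := hT'2.of_surjective π.rangeRestrict π.rangeRestrict_surjective
      have hMq : M.map G1.mkQ ≠ ⊥ := by
        intro e0
        apply hG1M
        refine le_antisymm inf_le_left fun v hv => ?_
        have : G1.mkQ v ∈ M.map G1.mkQ := ⟨v, hv, rfl⟩
        rw [e0, Submodule.mem_bot, Submodule.mkQ_apply, Submodule.Quotient.mk_eq_zero] at this
        exact this
      obtain ⟨_, ⟨v, hv, rfl⟩, hvne, hvfix⟩ := exists_fixed_of_two_group hT2 (S := M.map G1.mkQ)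
        (by
          rintro _ ⟨t, rfl⟩ _ ⟨u, hu, rfl⟩
          exact ⟨_, hTM t t.2 u hu, (hπ t u).symm⟩) hMq
      apply hvne
      rw [Submodule.mkQ_apply, Submodule.Quotient.mk_eq_zero, e]
      refine ⟨hv, fun t ht => ?_⟩
      have := hvfix (π ⟨t, ht⟩) ⟨_, rfl⟩
      rw [Submodule.mkQ_apply, hπ, Submodule.Quotient.eq] at this
      rwa [← ZModModule.sub_eq_add]
    have hG2M : G2 = M := by
      have hle : G2 ≤ M := fun v hv => hv.1
      refine Submodule.eq_of_le_of_finrank_le hle ?_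
      have h1 := Submodule.finrank_lt_finrank_of_lt hlt
      obtain ⟨c1, hc1⟩ := hG16
      obtain ⟨c2, hc2⟩ := hM6 G2 hle hG2R
      obtain ⟨c3, hc3⟩ := hMdvd
      omega
    intro t ht t' ht' v hv
    rw [← hG2M] at hv
    have key : ∀ p ∈ T', ∀ q ∈ T', (p * q) v = v + (p v + v) + (q v + v) := by
      intro p hp q hq
      have h1 : q v = v + (q v + v) := by rw [add_left_comm, ZModModule.add_self, add_zero]
      rw [LinearEquiv.mul_apply]
      conv_lhs => rw [h1, map_add, (hv.2 q hq).2 p hp]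
      congr 1
      rw [add_left_comm, ZModModule.add_self, add_zero]
    rw [key t ht t' ht', key t' ht' t ht, add_right_comm]
  -- transfer to `U`
  have hlift : ∀ y ∈ K, ∃ t : C, (t : V ≃ₗ[ZMod 2] V) ∈ T' ∧ ρ t = y := by
    intro y hy
    obtain ⟨t, ht, e⟩ := (hTtop ▸ Subgroup.mem_top (⟨y, hy⟩ : K) :
      (⟨y, hy⟩ : K) ∈ (T : Subgroup (K.comap ρ)).map ψ)
    exact ⟨t.1, ⟨t.1, ⟨t, ht, rfl⟩, rfl⟩, congrArg Subtype.val e⟩
  obtain ⟨t1, ht1, e1⟩ := hlift k1 hk1
  obtain ⟨t2, ht2, e2⟩ := hlift k2 hk2'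
  apply hk12
  have hcc : ρ ((t1 * t2) * (t2 * t1)⁻¹) = 1 := by
    refine LinearEquiv.ext fun u => Subtype.ext ?_
    refine hX _ ((t1 * t2) * (t2 * t1)⁻¹ : C).2 (fun v hv => ?_) u u.2
    show ((t1 : V ≃ₗ[ZMod 2] V) * t2 * ((t2 : V ≃ₗ[ZMod 2] V) * t1)⁻¹) v = v
    rw [LinearEquiv.mul_apply, hcommfix _ ht1 _ ht2 _
      (hTM _ (T'.inv_mem (T'.mul_mem ht2 ht1)) v hv), ← LinearEquiv.mul_apply, mul_inv_cancel]
    rfl
  rw [map_mul, map_inv, mul_inv_eq_one, map_mul, map_mul, e1, e2] at hcc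
  exact hcc

end Cfsg.Agent.H45.Mersenne
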