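import Cfsg.Agent.H45.Mersenne.GeneralLarge
import Cfsg.Agent.H45.Mersenne.Six
import Cfsg.Agent.S3360

/-!
# Transitive linear groups in Mersenne prime dimension
-/

set_option autoImplicit false
set_option linter.unusedSectionVars false
set_option linter.style.haveILetI false

namespace Cfsg.Agent.H45.Mersenne

open Module MulAction

attribute [local instance] dualAction

variable {V : Type*} [AddCommGroup V] [Module (ZMod 2) V] [Finite V] {n : ℕ}

theorem transitive_of_card_eq (hn : finrank (ZMod 2) V = n) (hp : (2 ^ n - 1).Prime)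
    {C : Subgroup (V ≃ₗ[ZMod 2] V)} (hC : Nat.card C = 2 ^ n - 1) :
    ∀ v w : V, v ≠ 0 → w ≠ 0 → ∃ g ∈ C, g v = w := by
  haveI : Fact (2 ^ n - 1).Prime := ⟨hp⟩
  have hP : IsPGroup (2 ^ n - 1) C := IsPGroup.of_card (n := 1) (by rw [hC, pow_one])
  have hcardV : Nat.card V = 2 ^ n := by
    rw [Module.natCard_eq_pow_finrank (K := ZMod 2), hn]; simp
  have hne : {v : V | v ≠ 0}.ncard = 2 ^ n - 1 := by
    rw [show {v : V | v ≠ 0} = ({0} : Set V)ᶜ from rfl, Set.ncard_compl, Set.ncard_singleton, hcardV]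
  obtain ⟨u, hu⟩ : ∃ u, u ∉ fixedBy' (C : Set (V ≃ₗ[ZMod 2] V)) := by
    by_contra hcon
    push Not at hcon
    have : C = ⊥ := (Subgroup.eq_bot_iff_forall C).2 fun g hg => LinearEquiv.ext fun v => hcon v g hg
    rw [this, Subgroup.card_bot] at hC
    exact hp.one_lt.ne hC
  have hu0 : u ≠ 0 := fun e => hu (e ▸ Submodule.zero_mem _)
  have horb : orbit C u = {v : V | v ≠ 0} := by
    have hsub : orbit C u ⊆ {v : V | v ≠ 0} := by
      rintro _ ⟨g, rfl⟩
      exact fun e => hu0 ((g : V ≃ₗ[ZMod 2] V).map_eq_zero_iff.1 e)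
    refine Set.eq_of_subset_of_ncard_le hsub ?_
    rw [hne]
    exact Nat.le_of_dvd ((Set.ncard_pos (Set.toFinite _)).2 ⟨_, mem_orbit_self u⟩) (dvd_orbit hP hu)
  intro v w hv hw
  have hv' : v ∈ orbit C u := horb ▸ hv
  have hw' : w ∈ orbit C u := horb ▸ hw
  rw [← orbit_eq_iff.2 hv'] at hw'
  obtain ⟨g, hg⟩ := hw'
  exact ⟨g, g.2, hg⟩

/-- The solvable transitive groups. -/
theorem solvable_case (hn : finrank (ZMod 2) V = n) (hp : (2 ^ n - 1).Prime)
    (H : Subgroup (V ≃ₗ[ZMod 2] V)) (htr : ∀ v w : V, v ≠ 0 → w ≠ 0 → ∃ h ∈ H, h v = w)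
    (hsol : Group.IsSolvable H) :
    (IsCyclic H ∧ Nat.card H = 2 ^ n - 1) ∨
      (Nat.card H = n * (2 ^ n - 1) ∧ ∃ C : Subgroup (V ≃ₗ[ZMod 2] V), C ≤ H ∧
        (C.subgroupOf H).Normal ∧ IsCyclic C ∧ Nat.card C = 2 ^ n - 1) := by
  classical
  haveI : Fact (Nat.Prime 2) := ⟨Nat.prime_two⟩
  haveI : Fact (2 ^ n - 1).Prime := ⟨hp⟩
  have hn2 : 2 ≤ n := by
    by_contra hcon
    interval_cases n <;> norm_num at hp
  have hnp : n.Prime := (Nat.prime_of_pow_sub_one_prime (by omega) hp).2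
  have hcardV : Nat.card V = 2 ^ n := by
    rw [Module.natCard_eq_pow_finrank (K := ZMod 2), hn]; simp
  haveI : Nontrivial V := Finite.one_lt_card_iff_nontrivial.1 (by
    rw [hcardV]; exact Nat.one_lt_two_pow (by omega))
  rcases Cfsg.Agent.S3360.result 2 hsol H.subtype H.subtype_injective
    (fun v w hv hw => by
      obtain ⟨g, hg, e⟩ := htr v w hv hw
      exact ⟨⟨g, hg⟩, e⟩) with ⟨F, iF, iFF, e, he⟩ | hmem
  swap
  · exfalso
    simp only [Set.mem_insert_iff, Set.mem_singleton_iff, hcardV] at hmem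
    have h2 : 2 ∣ 2 ^ n := dvd_pow_self 2 (by omega)
    omega
  have hcardF : Fintype.card F = 2 ^ n := by
    rw [← Nat.card_eq_fintype_card, ← hcardV, Nat.card_congr e.toEquiv]
  haveI : CharP F 2 := by
    obtain ⟨p, hpc⟩ := CharP.exists F
    obtain ⟨m, hpp, hcard⟩ := FiniteField.card F p
    rw [hcardF] at hcard
    have h2 : p ∣ 2 ^ n := hcard ▸ dvd_pow_self p m.2.ne'
    have := (Nat.prime_dvd_prime_iff_eq hpp Nat.prime_two).1 (hpp.dvd_of_dvd_pow h2)
    exact this ▸ hpc
  letI : Algebra (ZMod 2) F := ZMod.algebra F 2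
  choose av σv hav using he
  have haval : ∀ g : H, av g = e ((g : V ≃ₗ[ZMod 2] V) (e.symm 1)) := fun g => by
    have := hav g (e.symm 1)
    simp at this
    exact this.symm
  have ha0 : ∀ g : H, av g ≠ 0 := fun g => by
    rw [haval]
    intro h0
    simp at h0
  have hσval : ∀ (g : H) (z : F), σv g z = (av g)⁻¹ * e ((g : V ≃ₗ[ZMod 2] V) (e.symm z)) := by
    intro g z
    have := hav g (e.symm z)
    simp at this
    rw [this, inv_mul_cancel_left₀ (ha0 g)]
  have hmul : ∀ g k : H, ∀ z, σv (g * k) z = σv g (σv k z) := by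
    intro g k z
    have e1 : ∀ z, e (((g * k : H) : V ≃ₗ[ZMod 2] V) (e.symm z)) =
        av g * σv g (av k) * σv g (σv k z) := by
      intro z
      show e ((g : V ≃ₗ[ZMod 2] V) ((k : V ≃ₗ[ZMod 2] V) (e.symm z))) = _
      rw [← Subgroup.coe_subtype, hav g, Subgroup.coe_subtype, ← Subgroup.coe_subtype, hav k,
        AddEquiv.apply_symm_apply, map_mul, mul_assoc]
    rw [hσval, haval, e1, e1, map_one, map_one, mul_one, inv_mul_cancel_left₀]
    exact mul_ne_zero (ha0 g) (fun h0 => ha0 k (by simpa using h0))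
  let ψ : H →* (F ≃ₐ[ZMod 2] F) :=
    MonoidHom.mk' (fun g => AlgEquiv.ofRingEquiv (f := σv g) fun c =>
      RingHom.congr_fun (RingHom.ext_zmod ((σv g : F →+* F).comp (algebraMap (ZMod 2) F))
        (algebraMap (ZMod 2) F)) c)
      fun g k => AlgEquiv.ext fun z => hmul g k z
  have hker : ∀ g ∈ ψ.ker, ∀ z, σv g z = z := fun g hg z => AlgEquiv.congr_fun hg z
  -- the kernel embeds in the multiplicative group
  let χ : ψ.ker →* Fˣ := MonoidHom.mk' (fun g => Units.mk0 (av g) (ha0 g)) fun g k => Units.ext (by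
    show av ((g : H) * (k : H)) = av g * av k
    rw [haval ((g : H) * (k : H)), haval k]
    show e ((g : H).1 ((k : H).1 (e.symm 1))) = _
    have := hav g ((k : H).1 (e.symm 1))
    rw [Subgroup.coe_subtype, hker g g.2] at this
    exact this)
  have hχ : Function.Injective χ := by
    intro g k h
    have h' : av (g : H) = av (k : H) := congrArg Units.val h
    refine Subtype.ext (Subtype.ext (LinearEquiv.ext fun v => e.injective ?_))
    have e1 := hav g v
    have e2 := hav k v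
    rw [hker g g.2] at e1
    rw [hker k k.2, ← h'] at e2
    exact e1.trans e2.symm
  have hkdvd : Nat.card ψ.ker ∣ 2 ^ n - 1 := by
    refine (Subgroup.card_dvd_of_injective χ hχ).trans (dvd_of_eq ?_)
    rw [Nat.card_eq_fintype_card, Fintype.card_units, hcardF]
  have hrdvd : Nat.card ψ.range ∣ n := by
    refine (Subgroup.card_subgroup_dvd_card ψ.range).trans (dvd_of_eq ?_)
    rw [IsGalois.card_aut_eq_finrank]
    have h1 := Module.natCard_eq_pow_finrank (K := ZMod 2) (V := F)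
    rw [Nat.card_eq_fintype_card, hcardF, Nat.card_eq_fintype_card, ZMod.card] at h1
    exact (Nat.pow_right_injective le_rfl h1).symm
  have hH : Nat.card H = Nat.card ψ.range * Nat.card ψ.ker := by
    rw [← Subgroup.index_ker, Subgroup.index_mul_card]
  have hpH : 2 ^ n - 1 ∣ Nat.card H := by
    obtain ⟨v, hv⟩ := exists_ne (0 : V)
    have horb : orbit H v = ({0} : Set V)ᶜ := by
      ext w
      constructor
      · rintro ⟨g, rfl⟩
        exact fun e => hv ((g : V ≃ₗ[ZMod 2] V).map_eq_zero_iff.1 e)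
      · intro hw
        obtain ⟨g, hg, e⟩ := htr v w hv hw
        exact ⟨⟨g, hg⟩, e⟩
    have e1 := orbit_card_mul H v
    rw [horb, Set.ncard_compl, Set.ncard_singleton, hcardV] at e1
    exact ⟨_, e1.symm⟩
  have hnp' : n < 2 ^ n - 1 := by
    have : n + 1 < 2 ^ n := by
      obtain ⟨m, rfl⟩ := Nat.exists_eq_add_of_le hn2
      have := Nat.lt_two_pow_self (n := m)
      rw [pow_add]
      omega
    omega
  have hkcard : Nat.card ψ.ker = 2 ^ n - 1 := by
    rcases (Nat.dvd_prime hp).1 hkdvd with h | h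
    · exfalso
      rw [hH, h, mul_one] at hpH
      have := Nat.le_of_dvd Nat.card_pos hpH
      have := Nat.le_of_dvd (by omega) hrdvd
      omega
    · exact h
  rcases (Nat.dvd_prime hnp).1 hrdvd with h | h
  · left
    rw [hkcard, h, one_mul] at hH
    exact ⟨isCyclic_of_prime_card hH, hH⟩
  · right
    rw [hkcard, h] at hH
    refine ⟨hH, ψ.ker.map H.subtype, Subgroup.map_subtype_le _, ?_, ?_, ?_⟩
    · rw [Subgroup.subgroupOf, Subgroup.comap_map_eq_self_of_injective H.subtype_injective]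
      infer_instance
    · exact isCyclic_of_prime_card (p := 2 ^ n - 1) (by
        rw [← Nat.card_congr (ψ.ker.equivMapOfInjective _ H.subtype_injective).toEquiv, hkcard])
    · rw [← Nat.card_congr (ψ.ker.equivMapOfInjective _ H.subtype_injective).toEquiv, hkcard]

theorem transvection_conj (g : V ≃ₗ[ZMod 2] V) {φ : Dual (ZMod 2) V} {v : V} (h : φ v = 0)
    (h' : (g • φ) (g v) = 0) :
    g * LinearEquiv.transvection h * g⁻¹ = LinearEquiv.transvection h' := by
  refine LinearEquiv.ext fun x => ?_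
  have hx : g (g⁻¹ x) = x := by rw [← LinearEquiv.mul_apply, mul_inv_cancel]; rfl
  simp only [LinearEquiv.mul_apply, LinearEquiv.transvection.apply, map_add, map_smul, hx]
  rfl

/-- One transvection gives all of them. -/
theorem Setup.eq_top {A : Subgroup (V ≃ₗ[ZMod 2] V)} (h : Setup A n) {φ0 : Dual (ZMod 2) V} {v0 : V}
    (h0 : φ0 v0 = 0) (hφ0 : φ0 ≠ 0) (hv0 : v0 ≠ 0) (hmem : LinearEquiv.transvection h0 ∈ A) :
    A = ⊤ := by
  refine eq_top_of_transvections A fun φ v hφv => ?_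
  by_cases hv : v = 0
  · have : LinearEquiv.transvection hφv = 1 := LinearEquiv.ext fun x => by
      rw [LinearEquiv.transvection.apply, hv, smul_zero, add_zero]; rfl
    rw [this]; exact one_mem A
  by_cases hφ : φ = 0
  · have : LinearEquiv.transvection hφv = 1 := LinearEquiv.ext fun x => by
      rw [LinearEquiv.transvection.apply, hφ, LinearMap.zero_apply, zero_smul, add_zero]; rfl
    rw [this]; exact one_mem A
  obtain ⟨g, hg, hgv⟩ := h.one_trans hv0 hv
  have hgφ : g • φ0 ≠ 0 := fun e => hφ0 (LinearMap.ext fun x => by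
    rw [← dual_smul_apply g φ0 x, e]; rfl)
  obtain ⟨k, hk, hkv, hkφ⟩ := h.dual_stab_trans hv hgφ hφ (by
    rw [← hgv, dual_smul_apply, h0, hgv, hφv])
  have h1 : ((k * g) • φ0) ((k * g) v0) = 0 := by rw [dual_smul_apply, h0]
  have h2 := transvection_conj (k * g) h0 h1
  have hkgv : (k * g) v0 = v := by rw [LinearEquiv.mul_apply, hgv, hkv]
  have hkgφ : (k * g) • φ0 = φ := by rw [mul_smul, hkφ]
  have h3 : LinearEquiv.transvection hφv = LinearEquiv.transvection h1 := LinearEquiv.ext fun x => by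
    rw [LinearEquiv.transvection.apply, LinearEquiv.transvection.apply, hkgv, hkgφ]
  rw [h3, ← h2]
  exact mul_mem (mul_mem (mul_mem hk hg) hmem) (inv_mem (mul_mem hk hg))

/-- The classification. -/
theorem transitive_iff (hn : finrank (ZMod 2) V = n) (hp : (2 ^ n - 1).Prime)
    (H : Subgroup (V ≃ₗ[ZMod 2] V)) :
    (∀ v w : V, v ≠ 0 → w ≠ 0 → ∃ h ∈ H, h v = w) ↔
      ((IsCyclic H ∧ Nat.card H = 2 ^ n - 1) ∨
       (Nat.card H = n * (2 ^ n - 1) ∧ ∃ C : Subgroup (V ≃ₗ[ZMod 2] V), C ≤ H ∧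
          (C.subgroupOf H).Normal ∧ IsCyclic C ∧ Nat.card C = 2 ^ n - 1) ∨
       H = ⊤) := by
  classical
  constructor
  swap
  · rintro (⟨-, hc⟩ | ⟨-, C, hC, -, -, hc⟩ | rfl)
    · exact transitive_of_card_eq hn hp hc
    · intro v w hv hw
      obtain ⟨g, hg, e⟩ := transitive_of_card_eq hn hp hc v w hv hw
      exact ⟨g, hC hg, e⟩
    · intro v w hv hw
      obtain ⟨g, e⟩ := exists_map_eq hv hw
      exact ⟨g, Subgroup.mem_top g, e⟩
  intro htr
  have hn2 : 2 ≤ n := by
    by_contra hcon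
    interval_cases n <;> norm_num at hp
  have hnp : n.Prime := (Nat.prime_of_pow_sub_one_prime (by omega) hp).2
  have hcardV : Nat.card V = 2 ^ n := by
    rw [Module.natCard_eq_pow_finrank (K := ZMod 2), hn]; simp
  by_cases hsol : Group.IsSolvable H
  · rcases solvable_case hn hp H htr hsol with h | h
    · exact Or.inl h
    · exact Or.inr (Or.inl h)
  refine Or.inr (Or.inr ?_)
  set P := {v : V // v ≠ 0}
  haveI : Fintype P := Fintype.ofFinite P
  have hPcard : Fintype.card P = 2 ^ n - 1 := by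
    rw [← Nat.card_eq_fintype_card]
    have h1 : {v : V | v ≠ 0}.ncard = 2 ^ n - 1 := by
      rw [show {v : V | v ≠ 0} = ({0} : Set V)ᶜ from rfl, Set.ncard_compl, Set.ncard_singleton, hcardV]
    rw [← h1, ← Nat.card_coe_set_eq]
    rfl
  let φ : H →* Equiv.Perm P :=
    { toFun := fun γ => (γ : V ≃ₗ[ZMod 2] V).toEquiv.subtypeEquiv fun v => by simp
      map_one' := Equiv.ext fun v => Subtype.ext rfl
      map_mul' := fun γ δ => Equiv.ext fun v => Subtype.ext rfl }
  have hφinj : Function.Injective φ := by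
    intro γ δ e
    apply Subtype.ext
    refine LinearEquiv.ext fun v => ?_
    by_cases hv : v = 0
    · simp [hv]
    · exact congrArg Subtype.val (Equiv.congr_fun e ⟨v, hv⟩)
  haveI : MulAction.IsPretransitive φ.range P := by
    refine ⟨fun p q => ?_⟩
    obtain ⟨g, hg, e⟩ := htr p.1 q.1 p.2 q.2
    exact ⟨⟨φ ⟨g, hg⟩, ⟨_, rfl⟩⟩, Subtype.ext e⟩
  rcases Cfsg.Agent.S0675.result (by rw [hPcard]; exact hp) φ.range with hs | h2t
  · exact absurd (Group.isSolvable_of_isSolvable_injective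
      (f := φ.rangeRestrict) (fun γ δ e => hφinj (congrArg Subtype.val e))) hsol
  have h2' := @is_two_pretransitive_iff φ.range P _ _
  have hh : ∀ p q p' q' : P, p ≠ q → p' ≠ q' → ∃ g : φ.range, g • p = p' ∧ g • q = q' :=
    fun p q p' q' hpq hpq' => h2'.1 h2t hpq hpq'
  have two : ∀ a b a' b' : V, a ≠ 0 → b ≠ 0 → a ≠ b → a' ≠ 0 → b' ≠ 0 → a' ≠ b' →
      ∃ g ∈ H, g a = a' ∧ g b = b' := by
    intro a b a' b' h5 h6 h7 h8 h9 h10
    obtain ⟨⟨_, γ, rfl⟩, e1, e2⟩ := hh ⟨a, h5⟩ ⟨b, h6⟩ ⟨a', h8⟩ ⟨b', h9⟩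
      (fun e => h7 (congrArg Subtype.val e)) (fun e => h10 (congrArg Subtype.val e))
    exact ⟨γ, γ.2, congrArg Subtype.val e1, congrArg Subtype.val e2⟩
  rcases Nat.lt_or_ge n 5 with hlt | hge
  · have : n = 2 ∨ n = 3 := by
      interval_cases n <;> first | omega | norm_num at hnp
    rcases this with rfl | rfl
    · -- dimension two
      rw [eq_top_iff]
      intro g _
      let bs : Basis (Fin 2) (ZMod 2) V := Module.finBasisOfFinrankEq _ _ hn
      have h01 : bs 0 ≠ bs 1 := fun e => by simpa using bs.injective e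
      have hg0 : ∀ i, g (bs i) ≠ 0 := fun i e => bs.ne_zero i (g.map_eq_zero_iff.1 e)
      obtain ⟨k, hk, e1, e2⟩ := two (bs 0) (bs 1) (g (bs 0)) (g (bs 1)) (bs.ne_zero 0) (bs.ne_zero 1)
        h01 (hg0 0) (hg0 1) (fun e => h01 (g.injective e))
      have : g = k := LinearEquiv.toLinearMap_injective (bs.ext fun i => by
        fin_cases i
        · exact e1.symm
        · exact e2.symm)
      rw [this]; exact hk
    · exact eq_top_of_two_trans_three hn H two
  have hset : Setup H n := ⟨hn, hge, hnp, hp, two⟩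
  obtain ⟨w, d, g⟩ := hset.exists_geom
  by_cases h6 : d = 6
  · subst h6
    exact g.not_six.elim
  · obtain ⟨φ0, v0, h0, hφ0, hv0, hmem⟩ := g.transvection_of_ne_six h6
    exact hset.eq_top h0 hφ0 hv0 hmem

end Cfsg.Agent.H45.Mersenne
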