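import Cfsg.Agent.H45.Mersenne.Witt

/-!
# Coprime action on a small three-group
-/

set_option autoImplicit false
set_option linter.unusedSectionVars false
set_option linter.style.haveILetI false

namespace Cfsg.Agent.H45.Mersenne

open Module MulAction
open scoped commutatorElement

variable {V : Type*} [AddCommGroup V] [Module (ZMod 2) V] [Finite V]

/-- A long chain of fixed spaces in an elementary abelian three-group. -/
theorem exists_elt_small_codim {ρ : ℕ} (hρ : 0 < ρ) {E : Subgroup (V ≃ₗ[ZMod 2] V)}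
    (hc : ∀ x ∈ E, ∀ y ∈ E, Commute x y) (hexp : ∀ x ∈ E, x ^ 3 = 1)
    (hcard : Nat.card E = 3 ^ ρ) :
    ∃ x ∈ E, x ≠ 1 ∧ finrank (ZMod 2) (fixedBy' (E : Set (V ≃ₗ[ZMod 2] V))) + 2 * (ρ - 1) ≤
      finrank (ZMod 2) (fixedBy' {x}) := by
  haveI : Fact (Nat.Prime 3) := ⟨Nat.prime_three⟩
  induction ρ using Nat.strong_induction_on generalizing E with
  | _ ρ ih =>
    obtain ⟨⟨x0, hx0⟩, hx0'⟩ : ∃ x : E, x ≠ 1 := by
      haveI : Nontrivial E := Finite.one_lt_card_iff_nontrivial.1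
        (hcard ▸ Nat.one_lt_pow hρ.ne' (by omega))
      exact exists_ne 1
    by_cases h1 : ρ = 1
    · refine ⟨x0, hx0, fun e => hx0' (Subtype.ext e), ?_⟩
      subst h1
      simpa using Submodule.finrank_mono
        (fun v hv g hg => by rw [Set.mem_singleton_iff.1 hg]; exact hv x0 hx0 :
          fixedBy' (E : Set (V ≃ₗ[ZMod 2] V)) ≤ fixedBy' {x0})
    have hEp : IsPGroup 3 E := IsPGroup.of_card hcard
    have hEodd := odd_card_of_pGroup (by omega) hEp
    -- a hyperplane with more fixed points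
    obtain ⟨Y, hYE, hYcard, w, hw, hwE⟩ : ∃ Y ≤ E, Nat.card E ≤ 3 * Nat.card Y ∧
        ∃ w ∈ fixedBy' (Y : Set (V ≃ₗ[ZMod 2] V)), w ∉ fixedBy' (E : Set (V ≃ₗ[ZMod 2] V)) := by
      by_contra hcon
      push Not at hcon
      apply hx0'
      apply Subtype.ext
      refine LinearEquiv.ext fun v => ?_
      have hspan := mem_span_fixed_small (r := 3) (by decide) hc hexp v
      have hle : Submodule.span (ZMod 2) {w : V | ∃ Y ≤ E, Nat.card E ≤ 3 * Nat.card Y ∧
          w ∈ fixedBy' (Y : Set (V ≃ₗ[ZMod 2] V))} ≤ fixedBy' (E : Set (V ≃ₗ[ZMod 2] V)) :=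
        Submodule.span_le.2 fun w ⟨Y, h1, h2, h3⟩ => hcon Y h1 h2 w h3
      exact hle hspan x0 hx0
    obtain ⟨i, hi⟩ := IsPGroup.iff_card.1 (hEp.to_le hYE)
    have hine : Y ≠ E := fun e => hwE (e ▸ hw)
    have hYlt : Nat.card Y < Nat.card E := lt_of_le_of_ne (Subgroup.card_le_of_le hYE) fun e =>
      hine (Subgroup.eq_of_le_of_card_ge hYE e.ge)
    have hi' : i + 1 = ρ := by
      rw [hi, hcard] at hYlt hYcard
      rw [← pow_succ'] at hYcard
      have h2 := (Nat.pow_lt_pow_iff_right (by omega : 1 < 3)).1 hYlt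
      have h3 := (Nat.pow_le_pow_iff_right (by omega : 1 < 3)).1 hYcard
      omega
    obtain ⟨x, hx, hxne, hle⟩ := ih i (by omega) (by omega) (E := Y)
      (fun p hp q hq => hc p (hYE hp) q (hYE hq)) (fun p hp => hexp p (hYE hp)) hi
    refine ⟨x, hYE hx, hxne, ?_⟩
    -- the jump is even
    set F := fixedBy' (E : Set (V ≃ₗ[ZMod 2] V)) with hF
    set G := fixedBy' (Y : Set (V ≃ₗ[ZMod 2] V)) with hG
    set S := G ⊓ movedPart E with hS
    have hFG : F ≤ G := fixedBy'_le_of_le hYE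
    have hdis : F ⊓ S = ⊥ := le_bot_iff.1
      ((inf_le_inf_left F (inf_le_right : S ≤ movedPart E)).trans
        (isCompl_movedPart hEodd).inf_eq_bot.le)
    have hsup : G ≤ F ⊔ S := by
      intro v hv
      rw [← add_sub_cancel (gsum E v) v]
      exact Submodule.add_mem_sup (gsum_mem_fixedBy E v)
        ⟨sub_mem hv (hFG (gsum_mem_fixedBy E v)), sub_gsum_mem_movedPart hEodd v⟩
    have heq : finrank (ZMod 2) G = finrank (ZMod 2) F + finrank (ZMod 2) S := by
      have e1 := Submodule.finrank_sup_add_finrank_inf_eq F S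
      rw [hdis, finrank_bot, le_antisymm (sup_le hFG inf_le_left) hsup] at e1
      omega
    have hSdvd : 3 ∣ 2 ^ finrank (ZMod 2) S - 1 := by
      refine dvd_of_pGroup hEp (fun g hg v hv => ⟨?_, apply_mem_movedPart (normalize_of_mem hg) hv.2⟩)
        fun v hv hf => eq_zero_of_movedPart hEodd hv.2 hf
      exact apply_mem_fixedBy (normalize_of_commute fun y hy => (hc g hg y (hYE hy)).eq) hv.1
    have hSpos : finrank (ZMod 2) S ≠ 0 := fun e => by
      have : G ≤ F := hsup.trans (sup_le le_rfl (by rw [Submodule.finrank_eq_zero.1 e]; exact bot_le))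
      exact hwE (this hw)
    have hne1 : finrank (ZMod 2) S ≠ 1 := fun e => by rw [e] at hSdvd; norm_num at hSdvd
    omega

/-- A coprime automorphism fixing a subgroup of small index in a three-group fixes all of it. -/
theorem fixed_of_small_index {Γ : Type*} [Group Γ] [Finite Γ] {g : Γ} {s : ℕ} [Fact s.Prime]
    (hg : IsPGroup s (Subgroup.zpowers g)) (hs3 : s ≠ 3)
    (hs : ∀ j, 1 ≤ j → j ≤ 5 → ¬ s ∣ 3 ^ j - 1) (B : Subgroup Γ) (hB : IsPGroup 3 B)
    (hinv : ∀ x, x ∈ B ↔ g * x * g⁻¹ ∈ B)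
    (hsmall : ∀ B0 : Subgroup Γ, (∀ x, x ∈ B0 ↔ x ∈ B ∧ g * x * g⁻¹ = x) →
      Nat.card B ≤ 3 ^ 5 * Nat.card B0) :
    ∀ x ∈ B, g * x * g⁻¹ = x := by
  haveI : Fact (Nat.Prime 3) := ⟨Nat.prime_three⟩
  let B0 : Subgroup Γ :=
    { carrier := {x | x ∈ B ∧ g * x * g⁻¹ = x}
      one_mem' := ⟨one_mem B, by simp⟩
      mul_mem' := fun {x y} hx hy => ⟨mul_mem hx.1 hy.1, by
        rw [show g * (x * y) * g⁻¹ = (g * x * g⁻¹) * (g * y * g⁻¹) by simp [mul_assoc], hx.2, hy.2]⟩
      inv_mem' := fun {x} hx => ⟨inv_mem hx.1, by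
        rw [show g * x⁻¹ * g⁻¹ = (g * x * g⁻¹)⁻¹ by simp [mul_assoc], hx.2]⟩ }
  have hsm := hsmall B0 fun x => Iff.rfl
  have hle : B0 ≤ B := fun x hx => hx.1
  obtain ⟨i, hi⟩ := IsPGroup.iff_card.1 hB
  obtain ⟨j, hj⟩ := IsPGroup.iff_card.1 (hB.to_le hle)
  letI : MulAction (Subgroup.zpowers g) B :=
    { smul := fun h x => ⟨(h : Γ) * x * (h : Γ)⁻¹, by
        have hall : Subgroup.zpowers g ≤ Subgroup.normalizer (B : Set Γ) :=
          Subgroup.zpowers_le.2 (Subgroup.mem_normalizer_iff.2 hinv)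
        exact (Subgroup.mem_normalizer_iff.1 (hall h.2) _).1 x.2⟩
      one_smul := fun x => Subtype.ext (by show (1 : Γ) * x * (1 : Γ)⁻¹ = x; simp)
      mul_smul := fun h k x => Subtype.ext (by
        show ((h * k : Subgroup.zpowers g) : Γ) * x * ((h * k : Subgroup.zpowers g) : Γ)⁻¹ =
          (h : Γ) * ((k : Γ) * x * (k : Γ)⁻¹) * (h : Γ)⁻¹
        simp [mul_assoc]) }
  have hmod := hg.card_modEq_card_fixedPoints B
  have hfix : Nat.card (fixedPoints (Subgroup.zpowers g) B) = Nat.card B0 := by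
    refine Nat.card_congr
      { toFun := fun x => ⟨(x.1 : Γ), x.1.2, congrArg Subtype.val (x.2 ⟨g, Subgroup.mem_zpowers g⟩)⟩
        invFun := fun x => ⟨⟨x.1, x.2.1⟩, fun h => Subtype.ext ?_⟩
        left_inv := fun x => rfl
        right_inv := fun x => rfl }
    have : Subgroup.zpowers g ≤ Subgroup.centralizer {x.1} := by
      rw [Subgroup.zpowers_le, Subgroup.mem_centralizer_singleton_iff]
      have := x.2.2
      calc g * x.1 = (g * x.1 * g⁻¹) * g := by simp [mul_assoc]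
        _ = x.1 * g := by rw [this]
    have h1 := Subgroup.mem_centralizer_singleton_iff.1 (this h.2)
    show (h : Γ) * x.1 * (h : Γ)⁻¹ = x.1
    rw [h1, mul_inv_cancel_right]
  rw [hfix, hi, hj] at hmod
  rw [hi, hj, ← pow_add] at hsm
  have hji : j ≤ i := by
    have := Subgroup.card_le_of_le hle
    rw [hi, hj] at this
    exact (Nat.pow_le_pow_iff_right (by omega)).1 this
  have hij5 : i ≤ 5 + j := (Nat.pow_le_pow_iff_right (by omega)).1 hsm
  rcases eq_or_lt_of_le hji with e | e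
  · intro x hx
    have := Subgroup.eq_of_le_of_card_ge hle (by rw [hi, hj, e])
    rw [← this] at hx
    exact hx.2
  · exfalso
    have h1 := (Nat.modEq_iff_dvd' (Nat.pow_le_pow_right (by omega) hji)).1 hmod.symm
    have h2 : 3 ^ i - 3 ^ j = 3 ^ j * (3 ^ (i - j) - 1) := by
      rw [Nat.mul_sub, mul_one, ← pow_add, Nat.add_sub_cancel' hji]
    rw [h2] at h1
    rcases (Fact.out : s.Prime).dvd_mul.1 h1 with h | h
    · exact hs3 ((Nat.prime_dvd_prime_iff_eq Fact.out Nat.prime_three).1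
        ((Fact.out : s.Prime).dvd_of_dvd_pow h))
    · exact hs (i - j) (by omega) (by omega) h

/-- A coprime element normalising a three-group whose moved space is small centralises it, when
every elementary abelian subgroup has rank at most five. -/
theorem commute_of_small {g : V ≃ₗ[ZMod 2] V} {s : ℕ} [Fact s.Prime]
    (hg : IsPGroup s (Subgroup.zpowers g)) (hs3 : s ≠ 3)
    (hs : ∀ j, 1 ≤ j → j ≤ 5 → ¬ s ∣ 3 ^ j - 1) {R : Subgroup (V ≃ₗ[ZMod 2] V)}
    (hR : IsPGroup 3 R) (hinv : ∀ x, x ∈ R ↔ g * x * g⁻¹ ∈ R)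
    (hcodim : finrank (ZMod 2) V ≤ finrank (ZMod 2) (fixedBy' (R : Set (V ≃ₗ[ZMod 2] V))) + 14)
    (hrank : ∀ E ≤ R, (∀ x ∈ E, ∀ y ∈ E, Commute x y) → (∀ x ∈ E, x ^ 3 = 1) →
      Nat.card E ≤ 3 ^ 5) :
    ∀ x ∈ R, g * x * g⁻¹ = x := by
  classical
  haveI : Fact (Nat.Prime 3) := ⟨Nat.prime_three⟩
  suffices H : ∀ N, ∀ B ≤ R, Nat.card B = N → (∀ x, x ∈ B ↔ g * x * g⁻¹ ∈ B) →
      ∀ x ∈ B, g * x * g⁻¹ = x from H _ R le_rfl rfl hinv
  intro N
  induction N using Nat.strong_induction_on with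
  | _ N ih =>
    intro B hBR hN hBinv
    subst hN
    have hBp : IsPGroup 3 B := hR.to_le hBR
    have hrec : ∀ L ≤ B, L ≠ B → (∀ x, x ∈ L → g * x * g⁻¹ ∈ L) → ∀ x ∈ L, g * x * g⁻¹ = x := by
      intro L hL hne hLinv
      have himg : L.map (MulAut.conj g).toMonoidHom = L := by
        refine Subgroup.eq_of_le_of_card_ge (fun y ⟨x, hx, e⟩ => e ▸ hLinv x hx) ?_
        rw [← Nat.card_congr (L.equivMapOfInjective _ (MulAut.conj g).injective).toEquiv]
      refine ih _ (lt_of_le_of_ne (Subgroup.card_le_of_le hL) fun e =>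
        hne (Subgroup.eq_of_le_of_card_ge hL e.ge)) L (hL.trans hBR) rfl fun x => ⟨hLinv x, fun hx => ?_⟩
      rw [← himg] at hx
      obtain ⟨y, hy, e⟩ := hx
      exact (MulAut.conj g).injective e ▸ hy
    by_cases hab : ∀ x ∈ B, ∀ y ∈ B, Commute x y
    · -- abelian: only the elements of order three matter
      let B1 : Subgroup (V ≃ₗ[ZMod 2] V) :=
        { carrier := {x | x ∈ B ∧ x ^ 3 = 1}
          one_mem' := ⟨one_mem B, one_pow 3⟩
          mul_mem' := fun {x y} hx hy => ⟨mul_mem hx.1 hy.1, by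
            rw [(hab x hx.1 y hy.1).mul_pow, hx.2, hy.2, one_mul]⟩
          inv_mem' := fun {x} hx => ⟨inv_mem hx.1, by rw [inv_pow, hx.2, inv_one]⟩ }
      have hB1 : B1 ≤ B := fun x hx => hx.1
      have hfix1 : ∀ x ∈ B1, g * x * g⁻¹ = x := by
        refine fixed_of_small_index hg hs3 hs B1 (hBp.to_le hB1) (fun x => ?_) fun B0 _ => ?_
        · constructor
          · intro hx
            exact ⟨(hBinv x).1 hx.1, by rw [conj_pow, hx.2, mul_one, mul_inv_cancel]⟩
          · intro hx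
            refine ⟨(hBinv x).2 hx.1, ?_⟩
            have := hx.2
            rwa [conj_pow, mul_inv_eq_one, mul_eq_left] at this
        · exact (hrank B1 (hB1.trans hBR) (fun x hx y hy => hab x hx.1 y hy.1)
            fun x hx => hx.2).trans (Nat.le_mul_of_pos_right _ Nat.card_pos)
      intro x hx
      have hA : Subgroup.zpowers g ≤ Subgroup.normalizer (B : Set (V ≃ₗ[ZMod 2] V)) :=
        Subgroup.zpowers_le.2 (Subgroup.mem_normalizer_iff.2 hBinv)
      have hcop : (Nat.card (Subgroup.zpowers g)).Coprime 3 := by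
        obtain ⟨i, hi⟩ := IsPGroup.iff_card.1 hg
        rw [hi]
        exact ((Nat.coprime_primes Fact.out Nat.prime_three).2 hs3).pow_left i
      have hcen := H53.le_centralizer_of_fixes_order_p (p := 3) (by omega) B (Subgroup.zpowers g) hBp
        hA hcop (fun y hy hy3 => by
          intro h hh
          have : Subgroup.zpowers g ≤ Subgroup.centralizer {y} := by
            rw [Subgroup.zpowers_le, Subgroup.mem_centralizer_singleton_iff]
            have h' := hfix1 y ⟨hy, by rw [← hy3]; exact pow_orderOf_eq_one y⟩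
            calc g * y = (g * y * g⁻¹) * g := by simp [mul_assoc]
              _ = y * g := by rw [h']
          exact Subgroup.mem_centralizer_singleton_iff.1 (this hh))
      have := hcen (Subgroup.mem_zpowers g) x hx
      rw [← this, mul_inv_cancel_right]
    -- nonabelian
    have hBne : B ≠ ⊥ := fun e => hab (by
      intro x hx y hy
      rw [e, Subgroup.mem_bot] at hx
      rw [hx]
      exact Commute.one_left y)
    haveI : Nontrivial B := (Subgroup.nontrivial_iff_ne_bot B).2 hBne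
    set Φ := (frattini B).map B.subtype with hΦ
    have hΦB : Φ ≤ B := Subgroup.map_subtype_le _
    have hΦne : Φ ≠ B := fun he => by
      have : frattini B = ⊤ := by
        apply Subgroup.map_injective B.subtype_injective
        rw [← MonoidHom.range_eq_map, Subgroup.range_subtype]; exact he
      exact bot_ne_top (frattini_nongenerating (G := B) (K := ⊥) (by rw [this]; simp))
    have hΦinv : ∀ x ∈ Φ, g * x * g⁻¹ ∈ Φ := fun x hx =>
      (Subgroup.mem_normalizer_iff.1 (H53.le_normalizer_map_characteristic (H := B)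
        (A := Subgroup.zpowers g) (frattini B)
        (Subgroup.zpowers_le.2 (Subgroup.mem_normalizer_iff.2 hBinv)) (Subgroup.mem_zpowers g)) x).1 hx
    have hΦfix := hrec Φ hΦB hΦne hΦinv
    have hΦnorm : ∀ x ∈ B, ∀ f ∈ Φ, x * f * x⁻¹ ∈ Φ := by
      rintro x hx _ ⟨f, hf, rfl⟩
      refine ⟨(⟨x, hx⟩ : B) * f * (⟨x, hx⟩ : B)⁻¹, ?_, ?_⟩
      · exact (inferInstance : (frattini B).Normal).conj_mem f hf _
      · simp
    -- either `g` centralises `B` or `Φ` is central
    let C : Subgroup (V ≃ₗ[ZMod 2] V) := B ⊓ Subgroup.centralizer (Φ : Set (V ≃ₗ[ZMod 2] V))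
    by_cases hC : C = B
    swap
    · intro x hx
      have hCinv : ∀ x ∈ C, g * x * g⁻¹ ∈ C := by
        rintro x ⟨hx, hxc⟩
        refine ⟨(hBinv x).1 hx, fun f hf => ?_⟩
        have := congrArg (fun q => g * q * g⁻¹) (hxc f hf)
        rw [show g * (f * x) * g⁻¹ = (g * f * g⁻¹) * (g * x * g⁻¹) by simp [mul_assoc],
          show g * (x * f) * g⁻¹ = (g * x * g⁻¹) * (g * f * g⁻¹) by simp [mul_assoc],
          hΦfix f hf] at this
        exact this
      have hCfix := hrec C inf_le_left hC hCinv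
      -- every displacement lies in `C`
      have hdisp : ∀ x ∈ B, x⁻¹ * (g * x * g⁻¹) ∈ C := by
        intro x hx
        refine ⟨B.mul_mem (B.inv_mem hx) ((hBinv x).1 hx), fun f hf => ?_⟩
        have h1 := hΦnorm x hx f hf
        have h2 := hΦfix _ h1
        rw [show g * (x * f * x⁻¹) * g⁻¹ = (g * x * g⁻¹) * (g * f * g⁻¹) * (g * x * g⁻¹)⁻¹ by
          simp [mul_assoc], hΦfix f hf] at h2
        have h3 : (g * x * g⁻¹) * f = (x * f * x⁻¹) * (g * x * g⁻¹) := by
          conv_rhs => rw [← h2]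
          simp [mul_assoc]
        calc f * (x⁻¹ * (g * x * g⁻¹)) = x⁻¹ * ((x * f * x⁻¹) * (g * x * g⁻¹)) := by
              simp [mul_assoc]
          _ = x⁻¹ * ((g * x * g⁻¹) * f) := by rw [h3]
          _ = x⁻¹ * (g * x * g⁻¹) * f := by simp [mul_assoc]
      -- `g` moves `x` by a fixed element of coprime order
      set c := x⁻¹ * (g * x * g⁻¹) with hc
      have hgc : g * c * g⁻¹ = c := hCfix c (hdisp x hx)
      have hpow : ∀ m : ℕ, g ^ m * x * (g ^ m)⁻¹ = x * c ^ m := by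
        intro m
        induction m with
        | zero => simp
        | succ m ihm =>
          have hcm : g * c ^ m * g⁻¹ = c ^ m := by rw [← conj_pow, hgc]
          calc g ^ (m + 1) * x * (g ^ (m + 1))⁻¹ = g * (g ^ m * x * (g ^ m)⁻¹) * g⁻¹ := by
                rw [pow_succ']; simp [mul_assoc]
            _ = (g * x * g⁻¹) * (g * c ^ m * g⁻¹) := by rw [ihm]; simp [mul_assoc]
            _ = x * c * c ^ m := by rw [hcm, hc]; simp [mul_assoc]
            _ = x * c ^ (m + 1) := by rw [pow_succ', mul_assoc]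
      have h1 := hpow (orderOf g)
      rw [pow_orderOf_eq_one] at h1
      simp at h1
      have hc1 : c = 1 := by
        have hcB : c ∈ B := (hdisp x hx).1
        obtain ⟨i, hi⟩ := hBp ⟨c, hcB⟩
        have h3 : c ^ 3 ^ i = 1 := congrArg Subtype.val hi
        obtain ⟨j, hj⟩ := IsPGroup.iff_card.1 hg
        rw [Nat.card_zpowers] at hj
        have h4 : c ^ s ^ j = 1 := by rw [← hj]; exact h1
        have h5 := pow_gcd_eq_one.2 ⟨h3, h4⟩
        rwa [show Nat.gcd (3 ^ i) (s ^ j) = 1 from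
          Nat.Coprime.pow _ _ ((Nat.coprime_primes Nat.prime_three Fact.out).2 (Ne.symm hs3)),
          pow_one] at h5
      rw [hc] at hc1
      exact (inv_mul_eq_one.1 hc1).symm
    have hcentral : ∀ x ∈ B, ∀ f ∈ Φ, x * f = f * x := fun x hx f hf =>
      ((hC ▸ hx : x ∈ C).2 f hf).symm
    -- commutators are central of order dividing three
    have hcomm : ∀ x ∈ B, ∀ y ∈ B, x * y * x⁻¹ * y⁻¹ ∈ Φ := fun x hx y hy =>
      ⟨⁅(⟨x, hx⟩ : B), (⟨y, hy⟩ : B)⁆, H24.commutator_le_frattini hBp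
        (Subgroup.commutator_mem_commutator trivial trivial), rfl⟩
    have hcube : ∀ x ∈ B, x ^ 3 ∈ Φ := fun x hx =>
      ⟨(⟨x, hx⟩ : B) ^ 3, H24.pow_mem_frattini hBp _, rfl⟩
    have hcomm3 : ∀ x ∈ B, ∀ y ∈ B, (x * y * x⁻¹ * y⁻¹) ^ 3 = 1 := by
      intro x hx y hy
      set c := x * y * x⁻¹ * y⁻¹ with hc
      have hcy : Commute c y := ((hcentral y hy c (hcomm x hx y hy))).symm
      have h1 : (c * y) ^ 3 = y ^ 3 := by
        rw [hc, inv_mul_cancel_right, conj_pow, hcentral x hx _ (hcube y hy), mul_inv_cancel_right]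
      rw [hcy.mul_pow] at h1
      exact mul_eq_right.1 h1
    obtain ⟨x0, hx0, y0, hy0, hne⟩ : ∃ x ∈ B, ∃ y ∈ B, x * y * x⁻¹ * y⁻¹ ≠ 1 := by
      by_contra hcon
      push Not at hcon
      exact hab fun x hx y hy => commutatorElement_eq_one_iff_mul_comm.1
        ((commutatorElement_def x y).trans (hcon x hx y hy))
    set c0 := x0 * y0 * x0⁻¹ * y0⁻¹ with hc0
    let D : Subgroup (V ≃ₗ[ZMod 2] V) :=
      { carrier := {x | x ∈ Φ ∧ x ^ 3 = 1}
        one_mem' := ⟨one_mem Φ, one_pow 3⟩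
        mul_mem' := fun {x y} hx hy => ⟨mul_mem hx.1 hy.1, by
          rw [(show Commute x y from hcentral x (hΦB hx.1) y hy.1).mul_pow, hx.2, hy.2, one_mul]⟩
        inv_mem' := fun {x} hx => ⟨inv_mem hx.1, by rw [inv_pow, hx.2, inv_one]⟩ }
    have hDΦ : D ≤ Φ := fun x hx => hx.1
    have hDR : D ≤ R := hDΦ.trans (hΦB.trans hBR)
    have hcD : ∀ x ∈ B, ∀ y ∈ B, x * y * x⁻¹ * y⁻¹ ∈ D := fun x hx y hy =>
      ⟨hcomm x hx y hy, hcomm3 x hx y hy⟩
    have hDcomm : ∀ x ∈ D, ∀ y ∈ D, Commute x y := fun x hx y hy =>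
      hcentral x (hΦB hx.1) y hy.1
    have hDodd := odd_card_of_pGroup (by omega) (hR.to_le hDR)
    -- a hyperplane of `D` visible on the moved space
    obtain ⟨Y, hYD, hYcard, w, hw, hwc⟩ : ∃ Y ≤ D, Nat.card D ≤ 3 * Nat.card Y ∧
        ∃ w ∈ fixedBy' (Y : Set (V ≃ₗ[ZMod 2] V)), c0 w ≠ w := by
      by_contra hcon
      push Not at hcon
      apply hne
      refine LinearEquiv.ext fun v => ?_
      have hspan := mem_span_fixed_small (r := 3) (by decide) hDcomm (fun x hx => hx.2) v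
      have hle : Submodule.span (ZMod 2) {w : V | ∃ Y ≤ D, Nat.card D ≤ 3 * Nat.card Y ∧
          w ∈ fixedBy' (Y : Set (V ≃ₗ[ZMod 2] V))} ≤ fixedBy' {c0} :=
        Submodule.span_le.2 fun w ⟨Y, h1, h2, h3⟩ k hk => by
          rw [Set.mem_singleton_iff.1 hk]; exact hcon Y h1 h2 w h3
      exact hle hspan c0 rfl
    set M := movedPart D ⊓ fixedBy' (Y : Set (V ≃ₗ[ZMod 2] V)) with hM
    have hc0D : c0 ∈ D := hcD x0 hx0 y0 hy0
    have hc0Y : c0 ∉ Y := fun hmem => hwc (hw c0 hmem)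
    set v0 := w - gsum D w with hv0
    have hv0M : v0 ∈ M := ⟨sub_gsum_mem_movedPart hDodd w,
      sub_mem hw (fixedBy'_le_of_le hYD (gsum_mem_fixedBy D w))⟩
    have hv0ne : v0 ≠ 0 := fun e => hwc (by
      rw [sub_eq_zero.1 e]
      exact gsum_mem_fixedBy D w c0 hc0D)
    have hMB : ∀ x ∈ B, ∀ v ∈ M, x v ∈ M := fun x hx v hv =>
      ⟨apply_mem_movedPart (normalize_of_commute fun z hz => hcentral x hx z (hDΦ hz)) hv.1,
        apply_mem_fixedBy (normalize_of_commute fun z hz => hcentral x hx z (hDΦ (hYD hz))) hv.2⟩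
    have hfpf : ∀ c ∈ D, c ∉ Y → ∀ v ∈ M, c v = v → v = 0 := by
      intro c hc hcY v hv hcv
      refine eq_zero_of_movedPart hDodd hv.1 fun z hz => ?_
      have hle : Y ⊔ Subgroup.zpowers c ≤ D := sup_le hYD (Subgroup.zpowers_le.2 hc)
      have heq : Y ⊔ Subgroup.zpowers c = D := by
        refine Subgroup.eq_of_le_of_card_ge hle ?_
        obtain ⟨e, he⟩ := Subgroup.card_dvd_of_le (le_sup_left : Y ≤ Y ⊔ Subgroup.zpowers c)
        obtain ⟨i, hi⟩ := IsPGroup.iff_card.1 (hR.to_le (hle.trans hDR))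
        have her : e ∣ 3 ^ i := hi ▸ ⟨Nat.card Y, by rw [he, mul_comm]⟩
        obtain ⟨l, -, rfl⟩ := (Nat.dvd_prime_pow Nat.prime_three).1 her
        rcases Nat.eq_zero_or_pos l with rfl | hl
        · exfalso
          rw [pow_zero, mul_one] at he
          exact hcY (Subgroup.eq_of_le_of_card_ge (le_sup_left : Y ≤ Y ⊔ Subgroup.zpowers c) he.le ▸
            Subgroup.mem_sup_right (Subgroup.mem_zpowers c))
        · rw [he]
          refine hYcard.trans ?_
          rw [mul_comm]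
          exact Nat.mul_le_mul_left _ (Nat.le_self_pow hl.ne' 3)
      have : Y ⊔ Subgroup.zpowers c ≤ stabilizer (V ≃ₗ[ZMod 2] V) v :=
        sup_le (fun y hy => hv.2 y hy) (Subgroup.zpowers_le.2 hcv)
      exact this (heq ▸ hz)
    -- the radical of the commutator form
    let rad : Subgroup (V ≃ₗ[ZMod 2] V) :=
      { carrier := {x | x ∈ B ∧ ∀ y ∈ B, y * x * y⁻¹ * x⁻¹ ∈ Y}
        one_mem' := ⟨one_mem B, fun y _ => by simp⟩
        mul_mem' := fun {x x'} hx hx' => ⟨mul_mem hx.1 hx'.1, fun y hy => by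
          have h1 := hcentral x hx.1 _ (hcomm y hy x' hx'.1)
          have : y * (x * x') * y⁻¹ * (x * x')⁻¹ =
              (y * x * y⁻¹ * x⁻¹) * (x * (y * x' * y⁻¹ * x'⁻¹) * x⁻¹) := by group
          rw [this, h1, mul_inv_cancel_right]
          exact mul_mem (hx.2 y hy) (hx'.2 y hy)⟩
        inv_mem' := fun {x} hx => ⟨inv_mem hx.1, fun y hy => by
          have h1 := hcentral x⁻¹ (inv_mem hx.1) _ (Φ.inv_mem (hcomm y hy x hx.1))
          have : y * x⁻¹ * y⁻¹ * x⁻¹⁻¹ = x⁻¹ * (y * x * y⁻¹ * x⁻¹)⁻¹ * x⁻¹⁻¹ := by group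
          rw [this, h1, mul_inv_cancel_right]
          exact inv_mem (hx.2 y hy)⟩ }
    have hradB : rad ≤ B := fun x hx => hx.1
    have hradne : rad ≠ B := fun e => hc0Y ((e ▸ hy0 : y0 ∈ rad).2 x0 hx0)
    have hradfix : ∀ x ∈ rad, g * x * g⁻¹ = x := by
      refine hrec rad hradB hradne fun x hx => ⟨(hBinv x).1 hx.1, fun y hy => ?_⟩
      have hy' : g⁻¹ * y * g ∈ B := (hBinv _).2 (by simpa [mul_assoc] using hy)
      have h1 := hx.2 _ hy'
      have h2 := hΦfix _ (hDΦ (hYD h1))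
      have : y * (g * x * g⁻¹) * y⁻¹ * (g * x * g⁻¹)⁻¹ =
          g * (g⁻¹ * y * g * x * (g⁻¹ * y * g)⁻¹ * x⁻¹) * g⁻¹ := by group
      rw [this, h2]
      exact h1
    -- independence of coset representatives
    haveI : Fintype (B ⧸ rad.subgroupOf B) := Fintype.ofFinite _
    set T : (B ⧸ rad.subgroupOf B) → Module.End (ZMod 2) M := fun q =>
      ((q.out : V ≃ₗ[ZMod 2] V) : V →ₗ[ZMod 2] V).restrict (hMB _ q.out.2) with hT
    have hTv : ∀ q (v : M), ((T q v : M) : V) = (q.out : V ≃ₗ[ZMod 2] V) (v : V) := fun q v => rfl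
    haveI := Fintype.ofFinite B
    have hYfix : ∀ (y z : V ≃ₗ[ZMod 2] V), ∀ v ∈ M, y * z * y⁻¹ * z⁻¹ ∈ Y → z v ∈ M →
        (y * z * y⁻¹) v = z v := by
      intro y z v _ h1 h2
      have h3 := h2.2 _ h1
      rw [← LinearEquiv.mul_apply, inv_mul_cancel_right] at h3
      exact h3
    have havg : ∀ z ∈ B, ∀ v ∈ M, (∑ y : B, ((y : V ≃ₗ[ZMod 2] V) * z * (y : V ≃ₗ[ZMod 2] V)⁻¹) v) =
        if z ∈ rad then z v else 0 := by
      intro z hz v hv
      split_ifs with hzr
      · rw [Finset.sum_congr rfl fun (y : B) _ => hYfix y z v hv (hzr.2 y y.2) (hMB z hz v hv),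
          Finset.sum_const, Finset.card_univ, ← Nat.card_eq_fintype_card,
          nsmul_of_odd (odd_card_of_pGroup (by omega) hBp)]
      · obtain ⟨y1, hy1, hy1Y⟩ : ∃ y ∈ B, y * z * y⁻¹ * z⁻¹ ∉ Y := by
          by_contra hcon
          push Not at hcon
          exact hzr ⟨hz, hcon⟩
        set c := y1 * z * y1⁻¹ * z⁻¹ with hc
        have hcm : c ∈ D := hcD y1 hy1 z hz
        set S := ∑ y : B, ((y : V ≃ₗ[ZMod 2] V) * z * (y : V ≃ₗ[ZMod 2] V)⁻¹) v with hS
        have hSM : S ∈ M := Submodule.sum_mem _ fun y _ =>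
          hMB _ (mul_mem (mul_mem y.2 hz) (inv_mem y.2)) v hv
        refine hfpf c hcm hy1Y S hSM ?_
        rw [hS, map_sum]
        refine Fintype.sum_equiv (Equiv.mulRight (⟨y1, hy1⟩ : B)) _ _ fun y => ?_
        rw [← LinearEquiv.mul_apply]
        congr 1
        show c * ((y : V ≃ₗ[ZMod 2] V) * z * (y : V ≃ₗ[ZMod 2] V)⁻¹) =
          ((y : V ≃ₗ[ZMod 2] V) * y1) * z * ((y : V ≃ₗ[ZMod 2] V) * y1)⁻¹
        rw [show ((y : V ≃ₗ[ZMod 2] V) * y1) * z * ((y : V ≃ₗ[ZMod 2] V) * y1)⁻¹ =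
          ((y : V ≃ₗ[ZMod 2] V) * c * (y : V ≃ₗ[ZMod 2] V)⁻¹) *
            ((y : V ≃ₗ[ZMod 2] V) * z * (y : V ≃ₗ[ZMod 2] V)⁻¹) by rw [hc]; group,
          hcentral y y.2 c (hDΦ hcm), mul_inv_cancel_right]
    have hindep : LinearIndependent (ZMod 2) T := by
      rw [Fintype.linearIndependent_iff]
      intro f hf q0
      set xj := ((q0.out : B) : V ≃ₗ[ZMod 2] V) with hxj
      have hxjB : xj ∈ B := q0.out.2
      have hf' : ∀ u ∈ M, ∑ q, f q • (q.out : V ≃ₗ[ZMod 2] V) u = 0 := by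
        intro u hu
        have := congrArg (fun L : Module.End (ZMod 2) M => ((L ⟨u, hu⟩ : M) : V)) hf
        simpa [LinearMap.sum_apply, hTv] using this
      have h0 : ∑ y : B, ∑ q, f q •
          ((y : V ≃ₗ[ZMod 2] V) * (xj⁻¹ * (q.out : V ≃ₗ[ZMod 2] V)) * (y : V ≃ₗ[ZMod 2] V)⁻¹) v0 = 0 := by
        refine Finset.sum_eq_zero fun y _ => ?_
        have hu : (y : V ≃ₗ[ZMod 2] V)⁻¹ v0 ∈ M := hMB _ (inv_mem y.2) v0 hv0M
        calc ∑ q, f q • ((y : V ≃ₗ[ZMod 2] V) * (xj⁻¹ * (q.out : V ≃ₗ[ZMod 2] V)) *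
              (y : V ≃ₗ[ZMod 2] V)⁻¹) v0
            = ((y : V ≃ₗ[ZMod 2] V) * xj⁻¹)
              (∑ q, f q • (q.out : V ≃ₗ[ZMod 2] V) ((y : V ≃ₗ[ZMod 2] V)⁻¹ v0)) := by
              simp only [map_sum, map_smul, LinearEquiv.mul_apply]
          _ = 0 := by rw [hf' _ hu, map_zero]
      rw [Finset.sum_comm] at h0
      simp only [← Finset.smul_sum] at h0
      have hq : ∀ q : B ⧸ rad.subgroupOf B,
          xj⁻¹ * (q.out : V ≃ₗ[ZMod 2] V) ∈ rad ↔ q = q0 := by
        intro q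
        constructor
        · intro hmem
          rw [← QuotientGroup.out_eq' q, ← QuotientGroup.out_eq' q0]
          symm
          rw [QuotientGroup.eq, Subgroup.mem_subgroupOf]
          exact hmem
        · rintro rfl
          rw [hxj, inv_mul_cancel]
          exact one_mem rad
      rw [Finset.sum_congr rfl (fun q _ => by
        rw [havg _ (mul_mem (inv_mem hxjB) q.out.2) v0 hv0M]), Finset.sum_eq_single q0] at h0
      · rw [if_pos ((hq q0).2 rfl), inv_mul_cancel] at h0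
        exact (smul_eq_zero.1 h0).resolve_right hv0ne
      · intro q _ hqne
        rw [if_neg (fun e => hqne ((hq q).1 e)), smul_zero]
      · intro hq0
        exact absurd (Finset.mem_univ q0) hq0
    have hcardq := hindep.fintype_card_le_finrank
    rw [Module.finrank_linearMap, ← Nat.card_eq_fintype_card] at hcardq
    have hMdim : finrank (ZMod 2) M ≤ 14 := by
      have e1 := finrank_fixed_add_moved hDodd
      have e2 := Submodule.finrank_mono (fixedBy'_le_of_le hDR)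
      have e3 : finrank (ZMod 2) M ≤ finrank (ZMod 2) (movedPart D) :=
        Submodule.finrank_mono inf_le_left
      omega
    have hbound : Nat.card (B ⧸ rad.subgroupOf B) ≤ 3 ^ 5 :=
      hcardq.trans ((Nat.mul_le_mul hMdim hMdim).trans (by norm_num))
    refine fixed_of_small_index hg hs3 hs B hBp hBinv fun B0 hB0 => ?_
    have hradB0 : rad ≤ B0 := fun x hx => (hB0 x).2 ⟨hx.1, hradfix x hx⟩
    rw [Subgroup.card_eq_card_quotient_mul_card_subgroup (rad.subgroupOf B),
      Nat.card_congr (Subgroup.subgroupOfEquivOfLe hradB).toEquiv]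
    exact Nat.mul_le_mul hbound (Subgroup.card_le_of_le hradB0)

end Cfsg.Agent.H45.Mersenne
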