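import Cfsg.Agent.H45.Mersenne.Geometry

/-!
# The invariant ternary relation and the fixed space bound
-/

set_option autoImplicit false
set_option linter.unusedSectionVars false
set_option linter.style.haveILetI false

namespace Cfsg.Agent.H45.Mersenne

open Module MulAction

attribute [local instance] dualAction

variable {V : Type*} [AddCommGroup V] [Module (ZMod 2) V] [Finite V]
variable {A : Subgroup (V ≃ₗ[ZMod 2] V)} {n : ℕ}

/-- `c` lies outside the subspace of the pair `a`, `b`. -/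
def NR (A : Subgroup (V ≃ₗ[ZMod 2] V)) (a b c : V) : Prop :=
  a ≠ 0 ∧ b ≠ 0 ∧ a ≠ b ∧ c ∉ W A a b

theorem Setup.finrank_W_eq (h : Setup A n) {a b a' b' : V} (ha : a ≠ 0) (hb : b ≠ 0) (hab : a ≠ b)
    (ha' : a' ≠ 0) (hb' : b' ≠ 0) (hab' : a' ≠ b') :
    finrank (ZMod 2) (W A a b) = finrank (ZMod 2) (W A a' b') := by
  obtain ⟨g, hg, rfl, rfl⟩ := h.two a b a' b' ha hb hab ha' hb' hab'
  rw [← map_W hg, LinearEquiv.finrank_map_eq]

theorem Setup.ncard_compl_W (h : Setup A n) (S : Submodule (ZMod 2) V) :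
    {v : V | v ∉ S}.ncard = 2 ^ n - 2 ^ finrank (ZMod 2) S := by
  rw [show {v : V | v ∉ S} = (S : Set V)ᶜ from rfl, Set.ncard_compl, h.card_V,
    ← Nat.card_coe_set_eq, SetLike.coe_sort_coe, natCard_eq_two_pow]

/-- Orbits of a vector stabiliser pair outside `W`. -/
theorem Setup.orbit_outside (h : Setup A n) {a b c : V} (hc : NR A a b c) :
    ∃ t : ℕ, 0 < t ∧ 2 * (orbit (st2 A a b) c).ncard =
      (2 ^ n - 2 ^ finrank (ZMod 2) (W A a b)) * t := by
  obtain ⟨ha, hb, hab, hcW⟩ := hc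
  obtain ⟨-, hL⟩ := h.card_A ha hb hab
  have o : orbit (stL A a b) c = {v : V | v ∉ W A a b} := by
    ext v
    constructor
    · rintro ⟨⟨g, hg, hga, hgb⟩, rfl⟩ hmem
      apply hcW
      change g c ∈ W A a b at hmem
      have hW : W A (g a) (g b) = W A a b := by
        rw [hga]
        rcases hgb with e | e <;> rw [e]
        rw [add_comm, W_add_right]
      rw [← hW] at hmem
      exact (apply_mem_W hg).1 hmem
    · intro hv
      obtain ⟨g, hg, hgc⟩ := h.stL_trans ha hb hab hcW hv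
      exact ⟨⟨g, hg⟩, hgc⟩
  have e1 := orbit_card_mul (stL A a b) c
  rw [o, h.ncard_compl_W, hL] at e1
  have e2 := orbit_card_mul (st2 A a b) c
  obtain ⟨t, ht⟩ : Nat.card (st2 A a b ⊓ stabilizer (V ≃ₗ[ZMod 2] V) c : Subgroup _) ∣
      Nat.card (stL A a b ⊓ stabilizer (V ≃ₗ[ZMod 2] V) c : Subgroup _) :=
    Subgroup.card_dvd_of_le (inf_le_inf_right _ fun g hg => by
      rw [mem_st2] at hg
      exact ⟨hg.1, hg.2.1, Or.inl hg.2.2⟩)
  have hpos : 0 < Nat.card (stL A a b ⊓ stabilizer (V ≃ₗ[ZMod 2] V) c : Subgroup _) := Nat.card_pos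
  refine ⟨t, Nat.pos_of_ne_zero fun e => by rw [e, mul_zero] at ht; omega, ?_⟩
  apply Nat.eq_of_mul_eq_mul_right
    (Nat.card_pos (α := (st2 A a b ⊓ stabilizer (V ≃ₗ[ZMod 2] V) c : Subgroup _)))
  rw [mul_assoc, e2, ← e1, ht]
  ring

/-- The transvection on triples. -/
def addCoord (i j : Fin 3) (t : Fin 3 → V) : Fin 3 → V :=
  Function.update t i (t i + t j)

theorem addCoord_smul (i j : Fin 3) (g : V ≃ₗ[ZMod 2] V) (t : Fin 3 → V) :
    addCoord i j (g • t) = g • addCoord i j t := by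
  funext l
  by_cases hl : l = i
  · subst hl; simp [addCoord]
  · simp [addCoord, hl]

theorem addCoord_invol {i j : Fin 3} (hij : i ≠ j) (t : Fin 3 → V) :
    addCoord i j (addCoord i j t) = t := by
  funext l
  by_cases hl : l = i
  · subst hl; simp [addCoord, Ne.symm hij, add_assoc, ZModModule.add_self]
  · simp [addCoord, hl]

theorem addCoord_eq_sq {i j k : Fin 3} (hij : i ≠ j) (hik : i ≠ k) (hkj : k ≠ j) (t : Fin 3 → V) :
    addCoord i j t = addCoord i k (addCoord k j (addCoord i k (addCoord k j t))) := by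
  funext l
  by_cases hl : l = i
  · subst hl
    simp [addCoord, hik, Ne.symm hij, Ne.symm hik, Ne.symm hkj]
    calc t l + t j = t l + t j + (t k + t k) + (t j + t j) := by
          simp [ZModModule.add_self]
      _ = _ := by abel
  by_cases hlk : l = k
  · subst hlk
    simp [addCoord, hik, Ne.symm hij, Ne.symm hik, Ne.symm hkj, add_assoc,
      ZModModule.add_self]
  · simp [addCoord, hl, hlk]

/-- Linear independence of a triple. -/
def Indep (t : Fin 3 → V) : Prop := LinearIndependent (ZMod 2) t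

theorem indep_addCoord {i j : Fin 3} (hij : i ≠ j) {t : Fin 3 → V} (ht : Indep t) :
    Indep (addCoord i j t) := by
  rw [Indep, Fintype.linearIndependent_iff] at *
  intro g hg l
  have key : ∑ l, g l • addCoord i j t l = ∑ l, (Function.update g j (g j + g i)) l • t l := by
    rw [← Finset.add_sum_erase _ _ (Finset.mem_univ i),
      ← Finset.add_sum_erase (Finset.univ : Finset (Fin 3))
        (fun l => (Function.update g j (g j + g i)) l • t l) (Finset.mem_univ i),
      ← Finset.add_sum_erase _ _ (Finset.mem_erase.2 ⟨Ne.symm hij, Finset.mem_univ j⟩),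
      ← Finset.add_sum_erase ((Finset.univ : Finset (Fin 3)).erase i)
        (fun l => (Function.update g j (g j + g i)) l • t l)
        (Finset.mem_erase.2 ⟨Ne.symm hij, Finset.mem_univ j⟩)]
    have : ∀ l ∈ ((Finset.univ : Finset (Fin 3)).erase i).erase j,
        g l • addCoord i j t l = (Function.update g j (g j + g i)) l • t l := by
      intro l hl
      simp only [Finset.mem_erase] at hl
      simp [addCoord, hl.1, hl.2.1]
    rw [Finset.sum_congr rfl this]
    simp [addCoord, hij, Ne.symm hij, smul_add, add_smul]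
    abel
  rw [key] at hg
  have h1 := ht _ hg
  have hi : g i = 0 := by simpa [hij] using h1 i
  by_cases hl : l = j
  · subst hl; simpa [hi] using h1 l
  · simpa [hl] using h1 l

theorem NR.indep {a b c : V} (hc : NR A a b c) : Indep ![a, b, c] := by
  obtain ⟨ha, hb, hab, hcW⟩ := hc
  rw [Indep, Fintype.linearIndependent_iff]
  intro g hg
  simp only [Fin.sum_univ_three, Matrix.cons_val_zero, Matrix.cons_val_one] at hg
  have hmem : g 2 • c ∈ W A a b := by
    have h2 : g 2 • (![a, b, c] 2) = g 2 • c := rfl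
    rw [h2] at hg
    rw [← ZModModule.neg_eq_self (g 2 • c), ← eq_neg_of_add_eq_zero_left hg]
    exact add_mem (Submodule.smul_mem _ _ (left_mem_W a b)) (Submodule.smul_mem _ _ (right_mem_W a b))
  have hg2 : g 2 = 0 := by
    rcases zmod_two_cases (g 2) with e | e
    · exact e
    · rw [e, one_smul] at hmem; exact absurd hmem hcW
  change g 0 • a + g 1 • b + g 2 • c = 0 at hg
  rw [hg2, zero_smul, add_zero] at hg
  intro i
  rcases zmod_two_cases (g 0) with e0 | e0 <;> rcases zmod_two_cases (g 1) with e1 | e1 <;>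
    rw [e0, e1] at hg <;> simp at hg
  · fin_cases i <;> assumption
  · exact absurd hg hb
  · exact absurd hg ha
  · exact absurd ((add_eq_zero_iff_eq' a b).1 hg) hab

/-- An orbit of triples which is large. -/
def Big (A : Subgroup (V ≃ₗ[ZMod 2] V)) (n : ℕ) (t : Fin 3 → V) : Prop :=
  Indep t ∧ (2 ^ n - 1) * ((2 ^ n - 2) * 2 ^ (n - 2)) ≤ (orbit A t).ncard

theorem Setup.big_of_NR (h : Setup A n) {a b c : V} (hc : NR A a b c) : Big A n ![a, b, c] := by
  refine ⟨hc.indep, ?_⟩
  obtain ⟨t, ht0, ht⟩ := h.orbit_outside hc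
  have hlt : finrank (ZMod 2) (W A a b) < n := by
    rw [← h.hn]
    exact Submodule.finrank_lt (h.W_ne_top hc.1 hc.2.1 hc.2.2.1)
  have hle : 2 ^ (n - 2) ≤ (orbit (st2 A a b) c).ncard := by
    have h1 : 2 ^ finrank (ZMod 2) (W A a b) ≤ 2 ^ (n - 1) :=
      Nat.pow_le_pow_right two_pos (by omega)
    have h2 : 2 ^ n = 2 * 2 ^ (n - 1) := by rw [← pow_succ']; congr 1; omega
    have h3 : 2 ^ (n - 1) = 2 * 2 ^ (n - 2) := by
      rw [← pow_succ']; congr 1; have := h.five; omega
    have := Nat.le_mul_of_pos_right (2 ^ n - 2 ^ finrank (ZMod 2) (W A a b)) ht0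
    omega
  obtain ⟨hA, -⟩ := h.card_A hc.1 hc.2.1 hc.2.2.1
  have e1 := orbit_card_mul A (![a, b, c] : Fin 3 → V)
  have e2 := orbit_card_mul (st2 A a b) c
  have hst : (A ⊓ stabilizer (V ≃ₗ[ZMod 2] V) (![a, b, c] : Fin 3 → V) : Subgroup _) =
      st2 A a b ⊓ stabilizer (V ≃ₗ[ZMod 2] V) c := by
    ext g
    simp only [Subgroup.mem_inf, mem_st2, mem_stabilizer_iff]
    constructor
    · rintro ⟨hg, he⟩
      exact ⟨⟨hg, congrFun he 0, congrFun he 1⟩, congrFun he 2⟩
    · rintro ⟨⟨hg, hga, hgb⟩, hgc⟩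
      refine ⟨hg, ?_⟩
      funext i
      fin_cases i
      · exact hga
      · exact hgb
      · exact hgc
  rw [hst] at e1
  have : (orbit A (![a, b, c] : Fin 3 → V)).ncard =
      (2 ^ n - 1) * ((2 ^ n - 2) * (orbit (st2 A a b) c).ncard) := by
    apply Nat.eq_of_mul_eq_mul_right
      (Nat.card_pos (α := (st2 A a b ⊓ stabilizer (V ≃ₗ[ZMod 2] V) c : Subgroup _)))
    rw [e1, hA, ← e2]
    ring
  rw [this]
  gcongr

theorem big_addCoord {i j : Fin 3} (hij : i ≠ j) {t : Fin 3 → V} (ht : Big A n t) :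
    Big A n (addCoord i j t) := by
  refine ⟨indep_addCoord hij ht.1, ?_⟩
  have himg : addCoord i j '' orbit A t = orbit A (addCoord i j t) := by
    ext s
    constructor
    · rintro ⟨_, ⟨g, rfl⟩, rfl⟩
      exact ⟨g, (addCoord_smul i j g t).symm⟩
    · rintro ⟨g, rfl⟩
      exact ⟨g • t, ⟨g, rfl⟩, addCoord_smul i j g t⟩
  rw [← himg, Set.ncard_image_of_injective _ (fun x y e => by
    have := congrArg (addCoord i j) e
    rwa [addCoord_invol hij, addCoord_invol hij] at this)]
  exact ht.2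

theorem Setup.big_fixed (h : Setup A n) {i j : Fin 3} (hij : i ≠ j) {t : Fin 3 → V}
    (ht : Big A n t) : addCoord i j t ∈ orbit A t := by
  classical
  haveI := Fintype.ofFinite V
  set S : Finset (Fin 3 → V) := Finset.univ.filter fun s => Big A n s with hS
  set OS : Finset (Set (Fin 3 → V)) := S.image fun s => orbit A s with hOS
  have hcount : S.card ≤ (2 ^ n - 1) * ((2 ^ n - 2) * (2 ^ n - 1)) := by
    set T : Set (Fin 3 → V) := {s | s 0 ≠ 0 ∧ (s 1 ≠ 0 ∧ s 1 ≠ s 0) ∧ s 2 ≠ 0} with hT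
    have hsub : (S : Set (Fin 3 → V)) ⊆ T := by
      intro s hs
      simp only [hS, Finset.coe_filter, Set.mem_ofPred_eq, Finset.mem_univ, true_and] at hs
      have hi : LinearIndependent (ZMod 2) s := hs.1
      exact ⟨hi.ne_zero 0, ⟨hi.ne_zero 1, fun e => by simpa using hi.injective e⟩, hi.ne_zero 2⟩
    have h1 : (S : Set (Fin 3 → V)).ncard ≤ T.ncard := Set.ncard_le_ncard hsub
    rw [Set.ncard_coe_finset] at h1
    refine h1.trans ?_
    set T' : Finset (V × V × V) := ((Finset.univ : Finset V).erase 0).biUnion fun a =>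
      ({a} : Finset V) ×ˢ ((((Finset.univ : Finset V).erase 0).erase a) ×ˢ
        ((Finset.univ : Finset V).erase 0)) with hT'
    have h2 : T.ncard ≤ T'.card := by
      rw [← Set.ncard_coe_finset]
      refine Set.ncard_le_ncard_of_injOn (fun s => (s 0, s 1, s 2)) ?_ ?_
      · rintro s ⟨a, ⟨b, b'⟩, c⟩
        simp [hT', a, b, b', c]
      · intro s _ s' _ e
        simp only [Prod.mk.injEq] at e
        funext l
        fin_cases l
        · exact e.1
        · exact e.2.1
        · exact e.2.2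
    refine h2.trans (Finset.card_biUnion_le.trans ?_)
    have hcV : Fintype.card V = 2 ^ n := by rw [← Nat.card_eq_fintype_card, h.card_V]
    refine (Finset.sum_le_card_nsmul _ _ ((2 ^ n - 2) * (2 ^ n - 1)) fun a ha => ?_).trans ?_
    · rw [Finset.card_product, Finset.card_product, Finset.card_singleton, one_mul,
        Finset.card_erase_of_mem ha, Finset.card_erase_of_mem (Finset.mem_univ _), Finset.card_univ,
        hcV, Nat.sub_sub]
    · rw [Finset.card_erase_of_mem (Finset.mem_univ _), Finset.card_univ, hcV, smul_eq_mul]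
  have hfew : OS.card ≤ 3 := by
    by_contra hcon
    have h4 : 4 ≤ OS.card := by omega
    have hsum := Finset.card_eq_sum_card_image (fun s => orbit A s) S
    rw [← hOS] at hsum
    have hfib : ∀ O ∈ OS, (2 ^ n - 1) * ((2 ^ n - 2) * 2 ^ (n - 2)) ≤
        (S.filter fun s => orbit A s = O).card := by
      intro O hO
      obtain ⟨s, hs, rfl⟩ := Finset.mem_image.1 hO
      simp only [hS, Finset.mem_filter, Finset.mem_univ, true_and] at hs
      refine hs.2.trans ?_
      rw [← Set.ncard_coe_finset]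
      refine Set.ncard_le_ncard fun u hu => ?_
      simp only [Finset.coe_filter, Set.mem_ofPred_eq, hS, Finset.mem_filter, Finset.mem_univ,
        true_and]
      have e := orbit_eq_iff.2 hu
      refine ⟨⟨?_, e ▸ hs.2⟩, e⟩
      obtain ⟨g, rfl⟩ := hu
      exact hs.1.map' ((g : V ≃ₗ[ZMod 2] V) : V →ₗ[ZMod 2] V)
        (LinearMap.ker_eq_bot.2 (g : V ≃ₗ[ZMod 2] V).injective)
    have := Finset.card_nsmul_le_sum OS _ _ hfib
    rw [← hsum, smul_eq_mul] at this
    have h' := (Nat.mul_le_mul_right _ h4).trans (this.trans hcount)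
    have h32 := h.two_pow_ge
    have he : 4 * 2 ^ (n - 2) = 2 ^ n := by
      rw [show (4 : ℕ) = 2 ^ 2 from rfl, ← pow_add]; congr 1; have := h.five; omega
    have hpos : 0 < (2 ^ n - 1) * (2 ^ n - 2) := Nat.mul_pos (by omega) (by omega)
    have : (2 ^ n - 1) * (2 ^ n - 2) * (4 * 2 ^ (n - 2)) ≤
        (2 ^ n - 1) * (2 ^ n - 2) * (2 ^ n - 1) := by
      calc _ = 4 * ((2 ^ n - 1) * ((2 ^ n - 2) * 2 ^ (n - 2))) := by ring
        _ ≤ (2 ^ n - 1) * ((2 ^ n - 2) * (2 ^ n - 1)) := h'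
        _ = _ := by ring
    rw [he] at this
    have := Nat.le_of_mul_le_mul_left this hpos
    omega
  -- the induced permutations
  have hperm : ∀ i j : Fin 3, i ≠ j → ∃ P : Equiv.Perm OS, P * P = 1 ∧
      ∀ s : Fin 3 → V, (hs : orbit A s ∈ OS) → (P ⟨orbit A s, hs⟩ : Set (Fin 3 → V)) =
        orbit A (addCoord i j s) := by
    intro i j hij
    have himg : ∀ s : Fin 3 → V, addCoord i j '' orbit A s = orbit A (addCoord i j s) := by
      intro s
      ext u
      constructor
      · rintro ⟨_, ⟨g, rfl⟩, rfl⟩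
        exact ⟨g, (addCoord_smul i j g s).symm⟩
      · rintro ⟨g, rfl⟩
        exact ⟨g • s, ⟨g, rfl⟩, addCoord_smul i j g s⟩
    have hmem : ∀ O ∈ OS, addCoord i j '' O ∈ OS := by
      intro O hO
      obtain ⟨s, hs, rfl⟩ := Finset.mem_image.1 hO
      rw [himg]
      simp only [hS, Finset.mem_filter, Finset.mem_univ, true_and] at hs
      exact Finset.mem_image.2 ⟨_, by simpa [hS] using big_addCoord hij hs, rfl⟩
    have hinv : ∀ O : Set (Fin 3 → V), addCoord i j '' (addCoord i j '' O) = O := by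
      intro O
      rw [Set.image_image]
      simp [addCoord_invol hij]
    refine ⟨⟨fun O => ⟨_, hmem O.1 O.2⟩, fun O => ⟨_, hmem O.1 O.2⟩,
      fun O => Subtype.ext (hinv O.1), fun O => Subtype.ext (hinv O.1)⟩, ?_, fun s hs => himg s⟩
    exact Equiv.ext fun O => Subtype.ext (hinv O.1)
  obtain ⟨k, hik, hkj⟩ : ∃ k : Fin 3, i ≠ k ∧ k ≠ j := by revert i j; decide
  obtain ⟨P, hP, hPa⟩ := hperm i k hik
  obtain ⟨Q, hQ, hQa⟩ := hperm k j hkj
  obtain ⟨R, hR, hRa⟩ := hperm i j hij
  have hR' : R = (P * Q) ^ 2 := by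
    refine Equiv.ext fun O => ?_
    obtain ⟨O, hO⟩ := O
    obtain ⟨s, hs, rfl⟩ := Finset.mem_image.1 hO
    simp only [hS, Finset.mem_filter, Finset.mem_univ, true_and] at hs
    have m1 : ∀ u : Fin 3 → V, Big A n u → orbit A u ∈ OS := fun u hu =>
      Finset.mem_image.2 ⟨u, by simpa [hS] using hu, rfl⟩
    have b1 := big_addCoord hkj hs
    have b2 := big_addCoord hik b1
    have b3 := big_addCoord hkj b2
    have q1 : Q ⟨orbit A s, hO⟩ = ⟨_, m1 _ b1⟩ := Subtype.ext (hQa s hO)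
    have p1 : P ⟨_, m1 _ b1⟩ = ⟨_, m1 _ b2⟩ := Subtype.ext (hPa _ _)
    have q2 : Q ⟨_, m1 _ b2⟩ = ⟨_, m1 _ b3⟩ := Subtype.ext (hQa _ _)
    apply Subtype.ext
    rw [pow_two, Equiv.Perm.mul_apply, Equiv.Perm.mul_apply, Equiv.Perm.mul_apply, q1, p1, q2,
      hRa s hO, hPa, ← addCoord_eq_sq hij hik hkj]
  have h4 : (P * Q) ^ 4 = 1 := by
    rw [show (4 : ℕ) = 2 * 2 from rfl, pow_mul, ← hR', pow_two, hR]
  have h6 : (P * Q) ^ 6 = 1 := by
    rw [← orderOf_dvd_iff_pow_eq_one]
    refine orderOf_dvd_natCard (P * Q) |>.trans ?_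
    rw [Nat.card_perm, Nat.card_eq_fintype_card, Fintype.card_coe]
    exact (Nat.factorial_dvd_factorial hfew).trans (dvd_of_eq rfl)
  have hR1 : R = 1 := by
    rw [hR']
    have : (P * Q) ^ 6 = (P * Q) ^ 4 * (P * Q) ^ 2 := pow_add _ 4 2
    rwa [h6, h4, one_mul, eq_comm] at this
  have hOt : orbit A t ∈ OS := Finset.mem_image.2 ⟨t, by simpa [hS] using ht, rfl⟩
  have := hRa t hOt
  rw [hR1] at this
  change orbit A t = _ at this
  rw [this]
  exact mem_orbit_self _

theorem Setup.NR_addCoord (h : Setup A n) {i j : Fin 3} (hij : i ≠ j) {t : Fin 3 → V}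
    (ht : NR A (t 0) (t 1) (t 2)) :
    NR A (addCoord i j t 0) (addCoord i j t 1) (addCoord i j t 2) := by
  have hb := h.big_of_NR ht
  have he : (![t 0, t 1, t 2] : Fin 3 → V) = t := by
    funext l; fin_cases l <;> rfl
  rw [he] at hb
  obtain ⟨g, hg⟩ := h.big_fixed hij hb
  rw [← hg]
  obtain ⟨ha, hb', hab, hc⟩ := ht
  refine ⟨fun e => ha ((g : V ≃ₗ[ZMod 2] V).map_eq_zero_iff.1 e),
    fun e => hb' ((g : V ≃ₗ[ZMod 2] V).map_eq_zero_iff.1 e),
    fun e => hab ((g : V ≃ₗ[ZMod 2] V).injective e), fun e => hc ((apply_mem_W g.2).1 e)⟩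

theorem Setup.NR_swap12 (h : Setup A n) {a b c : V} (hc : NR A a b c) : NR A b a c := by
  have h1 := h.NR_addCoord (i := 1) (j := 0) (by decide) (t := ![a, b, c]) hc
  have h2 := h.NR_addCoord (i := 0) (j := 1) (by decide) h1
  have h3 := h.NR_addCoord (i := 1) (j := 0) (by decide) h2
  simp [addCoord] at h3
  rwa [add_left_comm a b a, ZModModule.add_self, add_zero, add_right_comm, ZModModule.add_self,
    zero_add] at h3

theorem Setup.NR_swap23 (h : Setup A n) {a b c : V} (hc : NR A a b c) : NR A a c b := by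
  have h1 := h.NR_addCoord (i := 2) (j := 1) (by decide) (t := ![a, b, c]) hc
  have h2 := h.NR_addCoord (i := 1) (j := 2) (by decide) h1
  have h3 := h.NR_addCoord (i := 2) (j := 1) (by decide) h2
  simp [addCoord] at h3
  rwa [add_left_comm b c b, ZModModule.add_self, add_zero, add_right_comm, ZModModule.add_self,
    zero_add] at h3

theorem Setup.NR_add23 (h : Setup A n) {a b c : V} (hc : NR A a b c) : NR A a (b + c) c := by
  have h1 := h.NR_addCoord (i := 1) (j := 2) (by decide) (t := ![a, b, c]) hc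
  simp [addCoord] at h1
  exact h1

/-- The geometric parameters. -/
structure Geom (A : Subgroup (V ≃ₗ[ZMod 2] V)) (n w d : ℕ) : Prop where
  setup : Setup A n
  hw : ∀ a b : V, a ≠ 0 → b ≠ 0 → a ≠ b → finrank (ZMod 2) (W A a b) = w
  sum : w + d = n
  w2 : 2 ≤ w
  d2 : 2 ≤ d
  three : n < 3 * d

theorem Setup.exists_geom (h : Setup A n) : ∃ w d, Geom A n w d := by
  obtain ⟨a0, ha0⟩ : ∃ a : V, a ≠ 0 := by
    obtain ⟨b, hb, -⟩ := h.exists_third 0
    exact ⟨b, hb⟩
  obtain ⟨b0, hb0, hab0⟩ := h.exists_third a0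
  set w := finrank (ZMod 2) (W A a0 b0) with hwdef
  have hw : ∀ a b : V, a ≠ 0 → b ≠ 0 → a ≠ b → finrank (ZMod 2) (W A a b) = w :=
    fun a b ha hb hab => h.finrank_W_eq ha hb hab ha0 hb0 hab0.symm
  have hlt : w < n := by
    rw [← h.hn]; exact Submodule.finrank_lt (h.W_ne_top ha0 hb0 hab0.symm)
  have hw2 : 2 ≤ w := by
    have hsub : ({0, a0, b0} : Set V) ⊆ (W A a0 b0 : Set V) := by
      rintro x (rfl | rfl | rfl)
      · exact zero_mem _
      · exact left_mem_W _ _
      · exact right_mem_W _ _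
    have h1 := Set.ncard_le_ncard hsub
    rw [Set.ncard_insert_of_notMem (by simp [Ne.symm ha0, Ne.symm hb0]) (Set.toFinite _),
      Set.ncard_pair hab0.symm, ← Nat.card_coe_set_eq (W A a0 b0 : Set V), SetLike.coe_sort_coe,
      natCard_eq_two_pow, ← hwdef] at h1
    by_contra hc
    interval_cases w <;> omega
  -- an element with one orbit on nonzero vectors
  haveI : Fact (2 ^ n - 1).Prime := ⟨h.pprime⟩
  obtain ⟨σ, hσ⟩ : ∃ σ : A, orderOf σ = 2 ^ n - 1 :=
    exists_prime_orderOf_dvd_card' _ (by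
      rw [(h.card_A ha0 hb0 hab0.symm).1]
      exact dvd_mul_right _ _)
  have hσ' : orderOf (σ : V ≃ₗ[ZMod 2] V) = 2 ^ n - 1 := by rw [Subgroup.orderOf_coe, hσ]
  obtain ⟨v0, hv0⟩ : ∃ v, (σ : V ≃ₗ[ZMod 2] V) v ≠ v := by
    by_contra hcon
    push Not at hcon
    have : (σ : V ≃ₗ[ZMod 2] V) = 1 := LinearEquiv.ext hcon
    rw [this, orderOf_one] at hσ'
    exact h.pprime.one_lt.ne hσ'
  have hv00 : v0 ≠ 0 := fun e => hv0 (by rw [e, map_zero])
  have horb : orbit (Subgroup.zpowers (σ : V ≃ₗ[ZMod 2] V)) v0 = {v : V | v ≠ 0} := by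
    have hP : IsPGroup (2 ^ n - 1) (Subgroup.zpowers (σ : V ≃ₗ[ZMod 2] V)) :=
      IsPGroup.of_card (n := 1) (by rw [Nat.card_zpowers, hσ', pow_one])
    have hd := dvd_orbit hP (v := v0) fun hm => hv0 (hm _ (Subgroup.mem_zpowers _))
    have hsub : orbit (Subgroup.zpowers (σ : V ≃ₗ[ZMod 2] V)) v0 ⊆ {v : V | v ≠ 0} := by
      rintro _ ⟨g, rfl⟩
      exact fun e => hv00 ((g : V ≃ₗ[ZMod 2] V).map_eq_zero_iff.1 e)
    refine Set.eq_of_subset_of_ncard_le hsub ?_
    rw [h.ncard_ne_zero]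
    exact Nat.le_of_dvd ((Set.ncard_pos (Set.toFinite _)).2 ⟨_, mem_orbit_self v0⟩) hd
  have horb' : ∀ v : V, v ≠ 0 → ∃ i : ℕ, ((σ : V ≃ₗ[ZMod 2] V) ^ i) v0 = v := by
    intro v hv
    rw [show v ≠ 0 ↔ v ∈ {v : V | v ≠ 0} from Iff.rfl, ← horb] at hv
    obtain ⟨⟨g, hg⟩, rfl⟩ := hv
    obtain ⟨i, rfl⟩ := mem_powers_iff_mem_zpowers.2 hg
    exact ⟨i, rfl⟩
  have h3 : n ≤ 3 * (n - w) := by
    by_contra hcon
    push Not at hcon
    -- slots
    have slot : ∀ a b : V, ∃ U : Submodule (ZMod 2) V, n ≤ finrank (ZMod 2) U + (n - w) ∧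
        ∀ x, ¬ NR A a b x ↔ x ∈ U := by
      intro a b
      by_cases hp : a ≠ 0 ∧ b ≠ 0 ∧ a ≠ b
      · refine ⟨W A a b, by rw [hw a b hp.1 hp.2.1 hp.2.2]; omega, fun x => ?_⟩
        simp [NR, hp.1, hp.2.1, hp.2.2]
      · refine ⟨⊤, by rw [finrank_top, h.hn]; omega, fun x => ?_⟩
        simp only [Submodule.mem_top, iff_true]
        exact fun hx => hp ⟨hx.1, hx.2.1, hx.2.2.1⟩
    have hinv : ∀ a b c, ¬ NR A a b c ↔
        ¬ NR A ((σ : V ≃ₗ[ZMod 2] V) a) ((σ : V ≃ₗ[ZMod 2] V) b) ((σ : V ≃ₗ[ZMod 2] V) c) := by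
      intro a b c
      simp only [NR, ne_eq, LinearEquiv.map_eq_zero_iff, EmbeddingLike.apply_eq_iff_eq,
        apply_mem_W σ.2]
    obtain ⟨c, hc⟩ : ∃ c, c ∉ W A a0 b0 := by
      by_contra hcon
      push Not at hcon
      exact h.W_ne_top ha0 hb0 hab0.symm (Submodule.eq_top_iff'.2 hcon)
    exact rel_trivial_of_small h.hn (by have := h.five; omega) _ hv00 horb'
      (fun a b c => ¬ NR A a b c) hinv hcon
      (fun b c => by
        obtain ⟨U, hU, hm⟩ := slot c b
        refine ⟨U, hU, fun x => ?_⟩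
        rw [← hm]
        exact not_congr ⟨fun e => h.NR_swap12 (h.NR_swap23 (h.NR_swap12 e)),
          fun e => h.NR_swap12 (h.NR_swap23 (h.NR_swap12 e))⟩)
      (fun a c => by
        obtain ⟨U, hU, hm⟩ := slot a c
        refine ⟨U, hU, fun x => ?_⟩
        rw [← hm]
        exact not_congr ⟨h.NR_swap23, h.NR_swap23⟩)
      slot a0 b0 c ⟨ha0, hb0, hab0.symm, hc⟩
  refine ⟨w, n - w, h, hw, by omega, hw2, by have := h.five; omega, ?_⟩
  rcases h3.eq_or_lt with e | e
  · exfalso
    have h5 := h.five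
    have := (Nat.prime_dvd_prime_iff_eq Nat.prime_three h.nprime).1 ⟨n - w, e⟩
    omega
  · exact e

variable {w d : ℕ}

theorem Geom.inter_card (g : Geom A n w d) {a b c : V} (hc : NR A a b c) :
    finrank (ZMod 2) (W A a b ⊓ W A a c : Submodule (ZMod 2) V) ≤ max 1 (w - d) := by
  classical
  haveI := Fintype.ofFinite V
  obtain ⟨ha, hb, hab, hcW⟩ := hc
  have h := g.setup
  set j := finrank (ZMod 2) (W A a b ⊓ W A a c : Submodule (ZMod 2) V) with hj
  by_contra hcon
  have hj1 : 2 ≤ j := by omega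
  have hjd : w + 1 ≤ j + d := by omega
  -- the intersection does not depend on `c`
  have hJ : ∀ c', c' ∉ W A a b →
      (Finset.univ.filter fun z => z ∈ W A a b ∧ z ∈ W A a c').card = 2 ^ j := by
    intro c' hc'
    have e1 : (Finset.univ.filter fun z => z ∈ W A a b ∧ z ∈ W A a c').card =
        Nat.card (W A a b ⊓ W A a c' : Submodule (ZMod 2) V) := by
      rw [← Set.ncard_coe_finset, ← SetLike.coe_sort_coe, Nat.card_coe_set_eq]
      congr 1
      ext z; simp
    rw [e1, natCard_eq_two_pow]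
    congr 1
    obtain ⟨k, ⟨hk, hka, hkb⟩, rfl⟩ := h.stL_trans ha hb hab hcW hc'
    have hW : W A (k a) (k b) = W A a b := by
      rw [hka]
      rcases hkb with e | e <;> rw [e]
      rw [add_comm, W_add_right]
    have : (W A a b ⊓ W A a (k c) : Submodule (ZMod 2) V) =
        (W A a b ⊓ W A a c).map (k : V →ₗ[ZMod 2] V) := by
      rw [Submodule.map_inf _ k.injective, map_W hk, map_W hk, hW, hka]
    rw [this, LinearEquiv.finrank_map_eq]
  have hWcard : ∀ a b : V, a ≠ 0 → b ≠ 0 → a ≠ b →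
      (Finset.univ.filter fun z => z ∈ W A a b).card = 2 ^ w := by
    intro a b ha hb hab
    rw [← g.hw a b ha hb hab, ← natCard_eq_two_pow, ← Set.ncard_coe_finset,
      ← SetLike.coe_sort_coe, Nat.card_coe_set_eq]
    congr 1
    ext z; simp
  set C : Finset V := Finset.univ.filter fun c => c ∉ W A a b with hC
  set Z : Finset V := Finset.univ.filter fun z => z ∈ W A a b ∧ z ≠ 0 ∧ z ≠ a with hZ
  set L : Finset V := {0, a, b, a + b} with hL
  have hLW : ∀ x ∈ L, x ∈ W A a b := by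
    simp [hL, left_mem_W, right_mem_W, add_mem]
  have hLcard : L.card = 4 := by
    have h1 : a ≠ a + b := fun e => hb (by simpa using e.symm)
    have h2 : b ≠ a + b := fun e => ha (by simpa using e.symm)
    have h3 : (0 : V) ≠ a + b := fun e => hab ((add_eq_zero_iff_eq' a b).1 e.symm)
    simp [hL, Ne.symm ha, Ne.symm hb, hab, h1, h2, h3]
  -- lower count
  have hlow : ∀ c' ∈ C, 2 ^ j - 2 ≤ (Z.filter fun z => z ∈ W A a c').card := by
    intro c' hc'
    simp only [hC, Finset.mem_filter, Finset.mem_univ, true_and] at hc'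
    rw [← hJ c' hc', Finset.filter_filter]
    have : (Finset.univ.filter fun z => (z ∈ W A a b ∧ z ≠ 0 ∧ z ≠ a) ∧ z ∈ W A a c') =
        (Finset.univ.filter fun z => z ∈ W A a b ∧ z ∈ W A a c') \ {0, a} := by
      ext z
      simp only [Finset.mem_filter, Finset.mem_univ, true_and, Finset.mem_sdiff, Finset.mem_insert,
        Finset.mem_singleton, not_or]
      tauto
    rw [this]
    refine le_trans ?_ (Finset.le_card_sdiff _ _)
    have : ({0, a} : Finset V).card ≤ 2 := (Finset.card_insert_le _ _).trans (by simp)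
    omega
  -- upper count
  have hup : ∀ z ∈ Z, (C.filter fun c' => z ∈ W A a c').card ≤ if z ∈ L then 0 else 2 ^ w - 4 := by
    intro z hz
    simp only [hZ, Finset.mem_filter, Finset.mem_univ, true_and] at hz
    obtain ⟨hzW, hz0, hza⟩ := hz
    split_ifs with hzL
    · rw [Nat.le_zero, Finset.card_eq_zero, Finset.filter_eq_empty_iff]
      intro c' hc' hzc
      simp only [hC, Finset.mem_filter, Finset.mem_univ, true_and] at hc'
      have hnr : NR A a b c' := ⟨ha, hb, hab, hc'⟩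
      simp only [hL, Finset.mem_insert, Finset.mem_singleton] at hzL
      rcases hzL with e | e | e | e
      · exact hz0 e
      · exact hza e
      · rw [e] at hzc
        exact (h.NR_swap23 hnr).2.2.2 hzc
      · rw [e] at hzc
        have := (h.NR_swap23 hnr).2.2.2
        exact this (by
          have hb' := (W A a c').add_mem hzc (left_mem_W a c')
          rwa [add_comm a b, add_assoc, ZModModule.add_self, add_zero] at hb')
    · have hsub : (C.filter fun c' => z ∈ W A a c') ⊆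
          (Finset.univ.filter fun x => x ∈ W A a z) \ L := by
        intro c' hc'
        simp only [hC, Finset.mem_filter, Finset.mem_univ, true_and] at hc'
        simp only [Finset.mem_sdiff, Finset.mem_filter, Finset.mem_univ, true_and]
        refine ⟨?_, fun hL' => hc'.1 (hLW _ hL')⟩
        by_contra hcz
        exact (h.NR_swap23 (show NR A a z c' from ⟨ha, hz0, hza.symm, hcz⟩)).2.2.2 hc'.2
      refine (Finset.card_le_card hsub).trans ?_
      have hbW : b ∈ W A a z := by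
        by_contra hbz
        exact (h.NR_swap23 (show NR A a z b from ⟨ha, hz0, hza.symm, hbz⟩)).2.2.2 hzW
      have hLsub : L ⊆ Finset.univ.filter fun x => x ∈ W A a z := by
        simp [hL, Finset.insert_subset_iff, left_mem_W, hbW, add_mem]
      rw [Finset.card_sdiff_of_subset hLsub, hWcard a z ha hz0 hza.symm, hLcard]
  have hswap : ∑ c' ∈ C, (Z.filter fun z => z ∈ W A a c').card =
      ∑ z ∈ Z, (C.filter fun c' => z ∈ W A a c').card := by
    simp only [Finset.card_filter]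
    exact Finset.sum_comm
  have hCcard : C.card = 2 ^ n - 2 ^ w := by
    rw [hC, ← g.hw a b ha hb hab, ← h.ncard_compl_W, ← Set.ncard_coe_finset]
    congr 1; ext x; simp
  have hmain : (2 ^ n - 2 ^ w) * (2 ^ j - 2) ≤ (2 ^ w - 4) * (2 ^ w - 4) := by
    calc (2 ^ n - 2 ^ w) * (2 ^ j - 2) = C.card * (2 ^ j - 2) := by rw [hCcard]
      _ ≤ ∑ c' ∈ C, (Z.filter fun z => z ∈ W A a c').card := by
          rw [← smul_eq_mul]; exact Finset.card_nsmul_le_sum _ _ _ hlow
      _ = ∑ z ∈ Z, (C.filter fun c' => z ∈ W A a c').card := hswap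
      _ ≤ ∑ z ∈ Z, if z ∈ L then 0 else 2 ^ w - 4 := Finset.sum_le_sum hup
      _ = (Z.filter fun z => z ∉ L).card * (2 ^ w - 4) := by
          rw [Finset.sum_ite, Finset.sum_const_zero, zero_add, Finset.sum_const, smul_eq_mul]
      _ ≤ (2 ^ w - 4) * (2 ^ w - 4) := by
          refine Nat.mul_le_mul_right _ ?_
          rw [← hWcard a b ha hb hab, ← hLcard, ← Finset.card_sdiff_of_subset
            (fun x hx => by simp [hLW x hx])]
          refine Finset.card_le_card fun z hz => ?_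
          simp only [hZ, Finset.mem_filter, Finset.mem_univ, true_and] at hz
          simp [hz.1.1, hz.2]
  obtain ⟨u, hu⟩ : ∃ u, 2 ^ n = 2 ^ w * u ∧ u = 2 ^ d := ⟨_, by rw [← pow_add, g.sum], rfl⟩
  rw [hu.1, hu.2] at hmain
  have ha4 : 4 ≤ 2 ^ j := by simpa using Nat.pow_le_pow_right two_pos hj1
  have hb4 : 4 ≤ 2 ^ d := by simpa using Nat.pow_le_pow_right two_pos g.d2
  have hw4 : 4 ≤ 2 ^ w := by simpa using Nat.pow_le_pow_right two_pos g.w2
  have hab2 : 2 * 2 ^ w ≤ 2 ^ j * 2 ^ d := by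
    rw [← pow_add, ← pow_succ']; exact Nat.pow_le_pow_right two_pos hjd
  generalize 2 ^ j = p at *
  generalize 2 ^ d = q at *
  generalize 2 ^ w = r at *
  obtain ⟨p, rfl⟩ : ∃ p', p = p' + 4 := ⟨p - 4, by omega⟩
  obtain ⟨q, rfl⟩ : ∃ q', q = q' + 4 := ⟨q - 4, by omega⟩
  obtain ⟨r, rfl⟩ : ∃ r', r = r' + 4 := ⟨r - 4, by omega⟩
  rw [show (r + 4) * (q + 4) - (r + 4) = (r + 4) * (q + 3) from
      Nat.sub_eq_of_eq_add (by ring), show p + 4 - 2 = p + 2 by omega,
    Nat.add_sub_cancel] at hmain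
  have hX : r + 2 ≤ (q + 3) * (p + 2) := by nlinarith
  have := Nat.mul_le_mul_left (r + 4) hX
  nlinarith

/-- A nontrivial element of the group fixes a space of codimension at least `min d (w - 1)`. -/
theorem Geom.codim_fixed (g : Geom A n w d) {x : V ≃ₗ[ZMod 2] V} (hx : x ∈ A) (hne : x ≠ 1) :
    min d (w - 1) + finrank (ZMod 2) (fixedBy' {x}) ≤ n := by
  have h := g.setup
  set F := fixedBy' {x} with hF
  have hfix : ∀ v, v ∈ F ↔ x v = v := fun v => by simp [hF, mem_fixedBy']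
  obtain ⟨u, hu⟩ : ∃ u, x u ≠ u := by
    by_contra hcon
    push Not at hcon
    exact hne (LinearEquiv.ext hcon)
  have hu0 : u ≠ 0 := fun e => hu (by rw [e, map_zero])
  have hxu0 : x u ≠ 0 := fun e => hu0 (x.map_eq_zero_iff.1 e)
  have hsum := g.sum
  by_cases hall : ∀ m ∈ F, ¬ NR A u (x u) m
  · have hle : F ≤ W A u (x u) := fun m hm => by
      by_contra hcon
      exact hall m hm ⟨hu0, hxu0, Ne.symm hu, hcon⟩
    have := Submodule.finrank_mono hle
    rw [g.hw u (x u) hu0 hxu0 (Ne.symm hu)] at this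
    omega
  push Not at hall
  obtain ⟨m, hm, hnr⟩ := hall
  have hnr' : NR A m u (x u) := h.NR_swap12 (h.NR_swap23 hnr)
  obtain ⟨hm0, -, hmu, -⟩ := id hnr'
  have hle : W A m u ⊓ F ≤ W A m u ⊓ W A m (x u) := by
    intro v hv
    refine ⟨hv.1, ?_⟩
    have := (apply_mem_W hx).2 hv.1
    rwa [(hfix v).1 hv.2, (hfix m).1 hm] at this
  have h1 := (Submodule.finrank_mono hle).trans (g.inter_card hnr')
  have h2 := Submodule.finrank_sup_add_finrank_inf_eq (W A m u) F
  have h3 := Submodule.finrank_le (W A m u ⊔ F)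
  rw [g.hw m u hm0 hu0 hmu] at h2
  rw [h.hn] at h3
  have := g.w2
  omega

/-- No involution is trivial on a large summand. -/
theorem Geom.no_involution (g : Geom A n w d) {z : V ≃ₗ[ZMod 2] V} (hz : z ∈ A) (hz2 : z * z = 1)
    (hz1 : z ≠ 1) {V1 V2 : Submodule (ZMod 2) V} (hc : IsCompl V1 V2) (h1 : ∀ v ∈ V1, z v = v)
    (h2 : ∀ v ∈ V2, z v ∈ V2) : finrank (ZMod 2) V1 + 2 * min d (w - 1) ≤ n := by
  have e1 := two_mul_codim_fixed_le hz2 hc h1 h2
  have e2 := g.codim_fixed hz hz1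
  rw [g.setup.hn] at e1
  omega

/-- The orbits of the stabiliser of a pair outside `W` have size divisible by `2 ^ d - 1`. -/
theorem Geom.dvd_orbit_outside (g : Geom A n w d) {a b c : V} (hc : NR A a b c) :
    2 ^ d - 1 ∣ (orbit (st2 A a b) c).ncard := by
  obtain ⟨t, -, ht⟩ := g.setup.orbit_outside hc
  rw [g.hw a b hc.1 hc.2.1 hc.2.2.1, ← g.sum] at ht
  have h1 : 2 ^ (w + d) - 2 ^ w = 2 ^ w * (2 ^ d - 1) := by
    rw [pow_add, Nat.mul_sub, mul_one]
  rw [h1] at ht
  have hodd : Nat.Coprime (2 ^ d - 1) 2 := by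
    rw [Nat.coprime_two_right, Nat.odd_iff]
    have : 2 ^ d = 2 * 2 ^ (d - 1) := by rw [← pow_succ']; congr 1; have := g.d2; omega
    have := Nat.one_le_two_pow (n := d - 1)
    omega
  exact hodd.dvd_of_dvd_mul_left ⟨2 ^ w * t, by rw [ht]; ring⟩

end Cfsg.Agent.H45.Mersenne
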