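import Cfsg.Agent.H45.Mersenne.Basic

/-!
# The weight bound for ternary relations invariant under a Singer cycle
-/

set_option autoImplicit false
set_option linter.unusedSectionVars false
set_option linter.style.haveILetI false

namespace Cfsg.Agent.H45.Mersenne

open Module

universe u

/-- A cyclic irreducible linear map makes the space a field. -/
theorem exists_field_of_irreducible {M : Type u} [AddCommGroup M] [Module (ZMod 2) M] [Finite M]
    (f : M →ₗ[ZMod 2] M)
    (hirr : ∀ S : Submodule (ZMod 2) M, (∀ v ∈ S, f v ∈ S) → S = ⊥ ∨ S = ⊤) {m0 : M} (hm0 : m0 ≠ 0) :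
    ∃ (K : Type u) (_ : Field K) (_ : Finite K) (_ : Algebra (ZMod 2) K) (e : K ≃ₗ[ZMod 2] M) (θ : K),
      e 1 = m0 ∧ (∀ x, e (θ * x) = f (e x)) ∧
      ∀ z : K, ∃ q : Polynomial (ZMod 2), Polynomial.aeval θ q = z := by
  classical
  haveI : Finite (M →ₗ[ZMod 2] M) := Finite.of_injective _ DFunLike.coe_injective
  set E := (Polynomial.aeval (R := ZMod 2) f).range with hE
  have hcomm : ∀ y z : E, y * z = z * y := by
    rintro ⟨y, q, rfl⟩ ⟨z, q', rfl⟩
    apply Subtype.ext
    show Polynomial.aeval f q * Polynomial.aeval f q' = Polynomial.aeval f q' * Polynomial.aeval f q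
    rw [← map_mul, mul_comm, map_mul]
  letI iCR : CommRing E := { (inferInstance : Ring E) with mul_comm := hcomm }
  have hf : f ∈ E := ⟨Polynomial.X, Polynomial.aeval_X f⟩
  haveI : Nontrivial E := by
    refine ⟨⟨0, 1, fun h => hm0 ?_⟩⟩
    have := congrArg (fun y : E => (y : M →ₗ[ZMod 2] M) m0) h
    simpa using this.symm
  have hinj : ∀ y : E, y ≠ 0 → LinearMap.ker (y : M →ₗ[ZMod 2] M) = ⊥ := by
    intro y hy
    have hinv : ∀ v ∈ LinearMap.ker (y : M →ₗ[ZMod 2] M), f v ∈ LinearMap.ker (y : M →ₗ[ZMod 2] M) := by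
      intro v hv
      rw [LinearMap.mem_ker] at hv ⊢
      have h1 := congrArg (fun z : E => (z : M →ₗ[ZMod 2] M) v) (hcomm y ⟨f, hf⟩)
      change (y : M →ₗ[ZMod 2] M) (f v) = f ((y : M →ₗ[ZMod 2] M) v) at h1
      rw [h1, hv, map_zero]
    rcases hirr _ hinv with h | h
    · exact h
    · exact absurd (Subtype.ext (LinearMap.ker_eq_top.1 h)) hy
  haveI : NoZeroDivisors E := ⟨fun {y z} h => by
    by_contra hc
    push Not at hc
    apply hc.2
    apply Subtype.ext
    refine LinearMap.ext fun v => ?_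
    have h1 := congrArg (fun z : E => (z : M →ₗ[ZMod 2] M) v) h
    change (y : M →ₗ[ZMod 2] M) ((z : M →ₗ[ZMod 2] M) v) = 0 at h1
    have h2 := hinj y hc.1
    rw [LinearMap.ker_eq_bot'] at h2
    exact h2 _ h1⟩
  haveI : IsDomain E := NoZeroDivisors.to_isDomain E
  letI iF : Field E := (Finite.isDomain_to_isField E).toField
  let ev : E →ₗ[ZMod 2] M :=
    { toFun := fun y => (y : M →ₗ[ZMod 2] M) m0
      map_add' := fun y z => rfl
      map_smul' := fun c y => rfl }
  have hevinj : Function.Injective ev := by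
    rw [← LinearMap.ker_eq_bot, LinearMap.ker_eq_bot']
    intro y hy
    by_contra hne
    have h2 := hinj y hne
    rw [LinearMap.ker_eq_bot'] at h2
    exact hm0 (h2 _ hy)
  have hevsurj : LinearMap.range ev = ⊤ := by
    refine (hirr _ ?_).resolve_left ?_
    · rintro v ⟨y, rfl⟩
      exact ⟨⟨f, hf⟩ * y, rfl⟩
    · intro h
      apply hm0
      have : ev 1 ∈ LinearMap.range ev := ⟨1, rfl⟩
      rw [h, Submodule.mem_bot] at this
      exact this
  refine ⟨E, iF, inferInstance, inferInstance,
    LinearEquiv.ofBijective ev ⟨hevinj, LinearMap.range_eq_top.1 hevsurj⟩, ⟨f, hf⟩, rfl,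
    fun x => rfl, ?_⟩
  rintro ⟨z, q, rfl⟩
  refine ⟨q, Subtype.ext ?_⟩
  rw [← Subalgebra.coe_val, ← Polynomial.aeval_algHom_apply]
  rfl

/-- A positive multiple of `2 ^ n - 1` is not a sum of fewer than `n` powers of two. -/
theorem le_card_of_dvd_sum {n : ℕ} (hn : 0 < n) (l : Multiset ℕ) (hl : l ≠ 0)
    (h : 2 ^ n - 1 ∣ (l.map (2 ^ ·)).sum) : n ≤ Multiset.card l := by
  induction hc : Multiset.card l using Nat.strong_induction_on generalizing l with
  | _ t ih =>
    subst hc
    set l' := l.map (· % n) with hl'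
    have hcard : Multiset.card l' = Multiset.card l := Multiset.card_map _ _
    have hmod : ∀ i, 2 ^ i ≡ 2 ^ (i % n) [MOD 2 ^ n - 1] := by
      intro i
      conv_lhs => rw [← Nat.mod_add_div i n, pow_add, pow_mul]
      have : 2 ^ n ≡ 1 [MOD 2 ^ n - 1] :=
        ((Nat.modEq_iff_dvd' Nat.one_le_two_pow).2 dvd_rfl).symm
      simpa using (this.pow (i / n)).mul_left (2 ^ (i % n))
    have hsum0 : ∀ m : Multiset ℕ,
        (m.map (2 ^ ·)).sum ≡ (m.map fun i => 2 ^ (i % n)).sum [MOD 2 ^ n - 1] := by
      intro m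
      induction m using Multiset.induction with
      | empty => rfl
      | cons a m ih' =>
        simp only [Multiset.map_cons, Multiset.sum_cons]
        exact (hmod a).add ih'
    have hsum : (l.map (2 ^ ·)).sum ≡ (l'.map (2 ^ ·)).sum [MOD 2 ^ n - 1] := by
      rw [hl', Multiset.map_map]
      exact hsum0 l
    have h' : 2 ^ n - 1 ∣ (l'.map (2 ^ ·)).sum := (Nat.ModEq.dvd_iff hsum dvd_rfl).1 h
    have hne' : l' ≠ 0 := fun e => hl (Multiset.map_eq_zero.1 e)
    rw [← hcard]
    by_cases hnd : l'.Nodup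
    · have hlt : ∀ i ∈ l', i < n := fun i hi => by
        obtain ⟨j, -, rfl⟩ := Multiset.mem_map.1 hi
        exact Nat.mod_lt _ hn
      set s : Finset ℕ := ⟨l', hnd⟩ with hs
      have hsr : s ⊆ Finset.range n := fun i hi => Finset.mem_range.2 (hlt i hi)
      have hle : ∑ i ∈ s, 2 ^ i ≤ ∑ i ∈ Finset.range n, 2 ^ i := Finset.sum_le_sum_of_subset hsr
      have hgeom : ∑ i ∈ Finset.range n, 2 ^ i = 2 ^ n - 1 := Nat.geomSum_eq le_rfl n |>.trans (by simp)
      have hpos : 0 < ∑ i ∈ s, 2 ^ i := by
        obtain ⟨i, hi⟩ := Multiset.exists_mem_of_ne_zero hne'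
        exact Finset.sum_pos (fun _ _ => by positivity) ⟨i, hi⟩
      have heq : ∑ i ∈ s, 2 ^ i = ∑ i ∈ Finset.range n, 2 ^ i :=
        le_antisymm hle (hgeom ▸ Nat.le_of_dvd hpos h')
      have : s = Finset.range n := by
        by_contra hne
        obtain ⟨i, hi, his⟩ := Finset.exists_of_ssubset (lt_of_le_of_ne hsr hne)
        have := Finset.sum_lt_sum_of_subset hsr hi his (f := fun i => 2 ^ i) (by positivity)
          (fun _ _ _ => by positivity)
        omega
      have hcs := congrArg Finset.card this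
      rw [Finset.card_range] at hcs
      exact hcs.ge
    · obtain ⟨i, hi⟩ : ∃ i, 2 ≤ l'.count i := by
        by_contra hcon
        push Not at hcon
        exact hnd (Multiset.nodup_iff_count_le_one.2 fun i => by have := hcon i; omega)
      obtain ⟨r, hr⟩ := Multiset.exists_cons_of_mem (Multiset.count_pos.1 (by omega) : i ∈ l')
      rw [hr, Multiset.count_cons_self] at hi
      obtain ⟨r', hr'⟩ := Multiset.exists_cons_of_mem (Multiset.count_pos.1 (by omega) : i ∈ r)
      have key : (((i + 1) ::ₘ r').map (2 ^ ·)).sum = (l'.map (2 ^ ·)).sum := by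
        rw [hr, hr']
        simp only [Multiset.map_cons, Multiset.sum_cons]
        ring
      have hc2 : Multiset.card l' = Multiset.card r' + 2 := by rw [hr, hr']; simp
      have := ih (Multiset.card ((i + 1) ::ₘ r')) (by rw [← hcard, hc2]; simp) _
        Multiset.cons_ne_zero (key ▸ h') rfl
      rw [Multiset.card_cons] at this
      omega

variable {K : Type u} [Field K]

/-- The functions given by products of at most `c` linearised monomials. -/
def lowMonomials (K : Type u) [Field K] (c : ℕ) : Set (K → K) :=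
  {f | ∃ l : Multiset ℕ, Multiset.card l ≤ c ∧ f = fun x => x ^ (l.map (2 ^ ·)).sum}

theorem lowMonomials_mono {c c' : ℕ} (h : c ≤ c') : lowMonomials K c ⊆ lowMonomials K c' :=
  fun _ ⟨l, hl, hf⟩ => ⟨l, hl.trans h, hf⟩

variable [Algebra (ZMod 2) K] [Finite K]

theorem dual_mul_mem {c : ℕ} (φ : Dual (ZMod 2) K) {g : K → K}
    (hg : g ∈ Submodule.span K (lowMonomials K c)) :
    (fun x => algebraMap (ZMod 2) K (φ x) * g x) ∈ Submodule.span K (lowMonomials K (c + 1)) := by
  obtain ⟨a, rfl⟩ : ∃ a : K, (Algebra.traceForm (ZMod 2) K).toDual (traceForm_nondegenerate _ _) a = φ :=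
    LinearEquiv.surjective _ φ
  induction hg using Submodule.span_induction with
  | mem g hg =>
    obtain ⟨l, hl, rfl⟩ := hg
    have : (fun x => algebraMap (ZMod 2) K ((Algebra.traceForm (ZMod 2) K).toDual
        (traceForm_nondegenerate _ _) a x) * x ^ (l.map (2 ^ ·)).sum) =
        ∑ i ∈ Finset.range (finrank (ZMod 2) K),
          a ^ 2 ^ i • fun x : K => x ^ ((i ::ₘ l).map (2 ^ ·)).sum := by
      funext x
      rw [LinearMap.BilinForm.toDual_def, Algebra.traceForm_apply,
        FiniteField.algebraMap_trace_eq_sum_pow, Finset.sum_mul, Finset.sum_apply]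
      refine Finset.sum_congr rfl fun i _ => ?_
      simp [mul_pow, pow_add, mul_assoc]
    rw [this]
    exact Submodule.sum_mem _ fun i _ => Submodule.smul_mem _ _
      (Submodule.subset_span ⟨i ::ₘ l, by simpa using hl, rfl⟩)
  | zero => simp only [Pi.zero_apply, mul_zero]; exact Submodule.zero_mem _
  | add g g' _ _ hg hg' => simp only [Pi.add_apply, mul_add]; exact Submodule.add_mem _ hg hg'
  | smul b g _ hg =>
    have := Submodule.smul_mem _ b hg
    convert this using 1
    funext x
    simp [mul_left_comm]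

open Classical in
theorem indicator_mem (U : Submodule (ZMod 2) K) (c : ℕ)
    (hc : finrank (ZMod 2) K ≤ finrank (ZMod 2) U + c) :
    (fun x => if x ∈ U then (1 : K) else 0) ∈ Submodule.span K (lowMonomials K c) := by
  induction c generalizing U with
  | zero =>
    have hU : U = ⊤ := Submodule.eq_top_of_finrank_eq (le_antisymm (Submodule.finrank_le U) hc)
    refine Submodule.subset_span ⟨0, le_rfl, ?_⟩
    subst hU
    simp
  | succ c ih =>
    by_cases hU : U = ⊤
    · subst hU
      refine Submodule.subset_span ⟨0, Nat.zero_le _, ?_⟩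
      simp
    obtain ⟨x, hx⟩ : ∃ x, x ∉ U := by
      by_contra h
      push Not at h
      exact hU (Submodule.eq_top_iff'.2 h)
    obtain ⟨φ, hφU, hφx, -⟩ := exists_dual_vanish U hx hx
    set U' := U ⊔ Submodule.span (ZMod 2) {x} with hU'
    have hlt : U < U' := lt_of_le_of_ne le_sup_left fun e => hx (e ▸ Submodule.mem_sup_right
      (Submodule.mem_span_singleton_self x))
    have h1 := ih U' (by have := Submodule.finrank_lt_finrank_of_lt hlt; omega)
    have h2 := dual_mul_mem φ h1
    have h3 : (fun y => if y ∈ U then (1 : K) else 0) = (fun y => if y ∈ U' then (1 : K) else 0) -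
        fun y => algebraMap (ZMod 2) K (φ y) * if y ∈ U' then (1 : K) else 0 := by
      funext y
      simp only [Pi.sub_apply]
      by_cases hy' : y ∈ U'
      · obtain ⟨u, hu, s, hs, rfl⟩ := Submodule.mem_sup.1 hy'
        obtain ⟨b, rfl⟩ := Submodule.mem_span_singleton.1 hs
        have hmem : u + b • x ∈ U ↔ b = 0 := by
          rw [U.add_mem_iff_right hu]
          rcases zmod_two_cases b with rfl | rfl <;> simp [hx]
        rw [if_pos hy', map_add, map_smul, hφU u hu, hφx]
        rcases zmod_two_cases b with rfl | rfl <;> simp [hu, U.add_mem_iff_right hu, hx]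
      · rw [if_neg hy', if_neg fun h => hy' (Submodule.mem_sup_left h)]
        simp
    rw [h3]
    exact Submodule.sub_mem _ (Submodule.span_mono (lowMonomials_mono (Nat.le_succ c)) h1) h2

open Classical in
/-- A ternary relation on a space of dimension `n` invariant under a Singer cycle whose slots are
subspaces of codimension at most `d` is constant when `3 * d < n`. -/
theorem rel_trivial_of_small {V : Type u} [AddCommGroup V] [Module (ZMod 2) V] [Finite V] {n : ℕ}
    (hn : finrank (ZMod 2) V = n) (hn2 : 2 ≤ n) (σ : V ≃ₗ[ZMod 2] V) {a0 : V} (ha0 : a0 ≠ 0)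
    (horb : ∀ v : V, v ≠ 0 → ∃ i : ℕ, (σ ^ i) a0 = v) (Rel : V → V → V → Prop)
    (hinv : ∀ a b c, Rel a b c ↔ Rel (σ a) (σ b) (σ c)) {d : ℕ} (hd : 3 * d < n)
    (h1 : ∀ b c, ∃ U : Submodule (ZMod 2) V, n ≤ finrank (ZMod 2) U + d ∧ ∀ x, Rel x b c ↔ x ∈ U)
    (h2 : ∀ a c, ∃ U : Submodule (ZMod 2) V, n ≤ finrank (ZMod 2) U + d ∧ ∀ x, Rel a x c ↔ x ∈ U)
    (h3 : ∀ a b, ∃ U : Submodule (ZMod 2) V, n ≤ finrank (ZMod 2) U + d ∧ ∀ x, Rel a b x ↔ x ∈ U) :
    ∀ a b c, Rel a b c := by
  have hirr : ∀ S : Submodule (ZMod 2) V, (∀ v ∈ S, (σ : V →ₗ[ZMod 2] V) v ∈ S) → S = ⊥ ∨ S = ⊤ := by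
    intro S hS
    rcases eq_or_ne S ⊥ with h | h
    · exact Or.inl h
    refine Or.inr (Submodule.eq_top_iff'.2 fun v => ?_)
    obtain ⟨w, hw, hw0⟩ := Submodule.exists_mem_ne_zero_of_ne_bot h
    have hpow : ∀ i : ℕ, (σ ^ i) w ∈ S := by
      intro i
      induction i with
      | zero => simpa using hw
      | succ i ih => rw [pow_succ', LinearEquiv.mul_apply]; exact hS _ ih
    rcases eq_or_ne v 0 with rfl | hv
    · exact S.zero_mem
    obtain ⟨i, hi⟩ := horb w hw0
    obtain ⟨j, hj⟩ := horb v hv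
    obtain ⟨t, ht0, ht⟩ : ∃ t, 0 < t ∧ σ ^ t = 1 :=
      ⟨orderOf σ, orderOf_pos σ, pow_orderOf_eq_one σ⟩
    have hi' : i ≤ j + t * i := le_trans (Nat.le_mul_of_pos_left i ht0) (Nat.le_add_left _ _)
    have key : (σ ^ (j + t * i - i)) w = v := by
      rw [← hi, ← LinearEquiv.mul_apply, ← pow_add, Nat.sub_add_cancel hi', pow_add, pow_mul, ht,
        one_pow, mul_one, hj]
    exact key ▸ hpow _
  obtain ⟨K, iF, iK, iA, e, θ, he1, heθ, -⟩ := exists_field_of_irreducible _ hirr ha0
  haveI : CharP K 2 := charP_of_injective_algebraMap (algebraMap (ZMod 2) K).injective 2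
  haveI := Fintype.ofFinite K
  have hKn : finrank (ZMod 2) K = n := by rw [← hn, e.finrank_eq]
  have hcardK : Fintype.card K = 2 ^ n := by
    rw [← Nat.card_eq_fintype_card, Module.natCard_eq_pow_finrank (K := ZMod 2), hKn]; simp
  have hθpow : ∀ i : ℕ, ∀ x, e (θ ^ i * x) = (σ ^ i) (e x) := by
    intro i
    induction i with
    | zero => intro x; simp
    | succ i ih =>
      intro x
      rw [pow_succ', mul_assoc, heθ, ih, pow_succ', LinearEquiv.mul_apply]
      rfl
  have hgen : ∀ u : K, u ≠ 0 → ∃ i : ℕ, u = θ ^ i := by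
    intro u hu
    obtain ⟨i, hi⟩ := horb (e u) (fun h => hu (e.map_eq_zero_iff.1 h))
    exact ⟨i, e.injective (by rw [← mul_one (θ ^ i), hθpow, he1, hi])⟩
  have hinvpow : ∀ i : ℕ, ∀ a b c, Rel a b c ↔ Rel ((σ ^ i) a) ((σ ^ i) b) ((σ ^ i) c) := by
    intro i
    induction i with
    | zero => simp
    | succ i ih => intro a b c; rw [ih a b c, hinv]; simp [pow_succ']
  set F : K → K → K → K := fun x y z => if Rel (e x) (e y) (e z) then 1 else 0 with hF
  have hFinv : ∀ (u : Kˣ) x y z, F ((u : K) * x) (u * y) (u * z) = F x y z := by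
    intro u x y z
    obtain ⟨i, hi⟩ := hgen u u.ne_zero
    simp only [hF, hi, hθpow, ← hinvpow i (e x) (e y) (e z)]
  -- every slot is a low degree function
  have hslot : ∀ (P : K → Prop) (U : Submodule (ZMod 2) V), n ≤ finrank (ZMod 2) U + d →
      (∀ x, P x ↔ e x ∈ U) →
      (fun x => if P x then (1 : K) else 0) ∈ Submodule.span K (lowMonomials K d) := by
    intro P U hU hP
    have := indicator_mem (U.comap (e : K →ₗ[ZMod 2] V)) d (by
      rw [Submodule.comap_equiv_eq_map_symm, e.symm.finrank_map_eq, hKn]; exact hU)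
    convert this using 2 with x
    simp only [Submodule.mem_comap, LinearEquiv.coe_coe, hP]
  have s1 : ∀ y z, (fun x => F x y z) ∈ Submodule.span K (lowMonomials K d) := fun y z => by
    obtain ⟨U, hU, hm⟩ := h1 (e y) (e z)
    exact hslot _ U hU fun x => hm _
  have s2 : ∀ x z, (fun y => F x y z) ∈ Submodule.span K (lowMonomials K d) := fun x z => by
    obtain ⟨U, hU, hm⟩ := h2 (e x) (e z)
    exact hslot _ U hU fun y => hm _
  have s3 : ∀ x y, (fun z => F x y z) ∈ Submodule.span K (lowMonomials K d) := fun x y => by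
    obtain ⟨U, hU, hm⟩ := h3 (e x) (e y)
    exact hslot _ U hU fun z => hm _
  -- coefficient functionals
  haveI : Fintype ↥(lowMonomials K d) := Fintype.ofFinite _
  set L := Fintype.linearCombination K (fun f : ↥(lowMonomials K d) => (f : K → K)) with hL
  have hLr : LinearMap.range L = Submodule.span K (lowMonomials K d) := by
    rw [hL, Fintype.range_linearCombination, Subtype.range_coe]
  obtain ⟨κ0, hκ0⟩ := LinearMap.exists_rightInverse_of_surjective L.rangeRestrict
    (LinearMap.range_eq_top.2 (LinearMap.surjective_rangeRestrict L))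
  obtain ⟨κ, hκ⟩ := LinearMap.exists_extend κ0
  have hrec : ∀ f ∈ Submodule.span K (lowMonomials K d), ∀ x,
      f x = ∑ i : ↥(lowMonomials K d), κ f i * (i : K → K) x := by
    intro f hf x
    rw [← hLr] at hf
    have h := LinearMap.congr_fun hκ0 ⟨f, hf⟩
    have h' : κ f = κ0 ⟨f, hf⟩ := LinearMap.congr_fun hκ ⟨f, hf⟩
    have h'' : L (κ f) = f := by rw [h']; exact congrArg Subtype.val h
    conv_lhs => rw [← h'']
    simp [hL, Fintype.linearCombination_apply, Finset.sum_apply]
  have hcomb : ∀ (G : K → K → K), (∀ x, (fun y => G x y) ∈ Submodule.span K (lowMonomials K d)) →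
      ∀ i, (fun y => κ (fun x => G x y) i) ∈ Submodule.span K (lowMonomials K d) := by
    intro G hG i
    have hrep : (fun y => κ (fun x => G x y) i) =
        ∑ x : K, κ (Pi.single x 1) i • fun y => G x y := by
      funext y
      have : (fun x => G x y) = ∑ x : K, G x y • (Pi.single x (1 : K) : K → K) := by
        funext x
        simp [Finset.sum_apply, Pi.single_apply]
      rw [this, map_sum, Finset.sum_apply, Finset.sum_apply]
      simp [mul_comm]
    rw [hrep]
    exact Submodule.sum_mem _ fun x _ => Submodule.smul_mem _ _ (hG x)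
  set C : ↥(lowMonomials K d) → K → K → K := fun i y z => κ (fun x => F x y z) i with hC
  have hCy : ∀ i z, (fun y => C i y z) ∈ Submodule.span K (lowMonomials K d) := fun i z =>
    hcomb (fun x y => F x y z) (fun x => s2 x z) i
  have hCz : ∀ i y, (fun z => C i y z) ∈ Submodule.span K (lowMonomials K d) := fun i y =>
    hcomb (fun x z => F x y z) (fun x => s3 x y) i
  set D : ↥(lowMonomials K d) → ↥(lowMonomials K d) → K → K :=
    fun i j z => κ (fun y => C i y z) j with hD
  have hDz : ∀ i j, D i j ∈ Submodule.span K (lowMonomials K d) := fun i j =>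
    hcomb (fun y z => C i y z) (hCz i) j
  have hexpand : ∀ x y z, F x y z = ∑ i, ∑ j, ∑ k,
      κ (D i j) k * (k : K → K) z * (j : K → K) y * (i : ↥(lowMonomials K d)).1 x := by
    intro x y z
    rw [hrec _ (s1 y z) x]
    refine Finset.sum_congr rfl fun i _ => ?_
    change C i y z * _ = _
    rw [hrec _ (hCy i z) y, Finset.sum_mul]
    refine Finset.sum_congr rfl fun j _ => ?_
    change D i j z * _ * _ = _
    rw [hrec _ (hDz i j) z, Finset.sum_mul, Finset.sum_mul]
  choose lst hlst hmon using fun i : ↥(lowMonomials K d) => i.2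
  -- average over the nonzero scalars
  have hodd : Fintype.card Kˣ = 2 ^ n - 1 := by rw [Fintype.card_units, hcardK]
  have hone : ((2 ^ n - 1 : ℕ) : K) = 1 := by
    rw [Nat.cast_sub Nat.one_le_two_pow, Nat.cast_pow, Nat.cast_two, CharTwo.two_eq_zero,
      zero_pow (by omega), zero_sub, Nat.cast_one, CharTwo.neg_eq]
  have hconst : ∀ x y z, F x y z = F 0 0 0 := by
    have havg : ∀ x y z, F x y z = ∑ u : Kˣ, F ((u : K) * x) (u * y) (u * z) := by
      intro x y z
      simp only [hFinv, Finset.sum_const, Finset.card_univ, nsmul_eq_mul, hodd, hone, one_mul]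
    intro x y z
    rw [havg x y z, havg 0 0 0]
    simp only [hexpand]
    simp only [Finset.sum_comm (s := (Finset.univ : Finset Kˣ))]
    refine Finset.sum_congr rfl fun i _ => ?_
    refine Finset.sum_congr rfl fun j _ => ?_
    refine Finset.sum_congr rfl fun k _ => ?_
    simp only [congrFun (hmon i), congrFun (hmon j), congrFun (hmon k)]
    set a := ((lst i).map (2 ^ ·)).sum with ha
    set b := ((lst j).map (2 ^ ·)).sum with hb
    set c := ((lst k).map (2 ^ ·)).sum with hc
    have hfac : ∀ x y z : K, (∑ u : Kˣ, κ (D i j) k * ((u : K) * z) ^ c * ((u : K) * y) ^ b *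
        ((u : K) * x) ^ a) = κ (D i j) k * z ^ c * y ^ b * x ^ a * ∑ u : Kˣ, (u : K) ^ (a + b + c) := by
      intro x y z
      rw [Finset.mul_sum]
      refine Finset.sum_congr rfl fun u _ => ?_
      ring
    rw [hfac, hfac, FiniteField.sum_pow_units, hcardK]
    split_ifs with hdiv
    · have hz : lst i + lst j + lst k = 0 := by
        by_contra hne
        have hle := le_card_of_dvd_sum (n := n) (by omega) _ hne (by
          simpa [Multiset.map_add, Multiset.sum_add, ← ha, ← hb, ← hc] using hdiv)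
        have hli := hlst i
        have hlj := hlst j
        have hlk := hlst k
        rw [Multiset.card_add, Multiset.card_add] at hle
        omega
      have hi0 : lst i = 0 ∧ lst j = 0 ∧ lst k = 0 := by
        simpa [and_assoc] using hz
      simp [ha, hb, hc, hi0.1, hi0.2.1, hi0.2.2]
    · simp
  intro a b c
  have h0 : Rel 0 0 0 := by
    obtain ⟨U, -, hm⟩ := h1 0 0
    exact (hm 0).2 U.zero_mem
  have := hconst (e.symm a) (e.symm b) (e.symm c)
  simp only [hF, LinearEquiv.apply_symm_apply, map_zero, h0, if_true] at this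
  by_contra hc
  simp [hc] at this

end Cfsg.Agent.H45.Mersenne
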