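import Cfsg.Agent.H45.Mersenne.Triples
import Cfsg.Agent.H53.OmegaFaithful
import Cfsg.Agent.S0205

/-!
# Sylow subgroups of the stabiliser of a pair
-/

set_option autoImplicit false
set_option linter.unusedSectionVars false
set_option linter.style.haveILetI false

namespace Cfsg.Agent.H45.Mersenne

open Module MulAction
open scoped commutatorElement

attribute [local instance] dualAction

variable {V : Type*} [AddCommGroup V] [Module (ZMod 2) V] [Finite V]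

/-- A two-transitive linear group has no nontrivial solvable normal subgroup. -/
theorem no_solvable_normal (Γ P : Subgroup (V ≃ₗ[ZMod 2] V)) (hk : 3 ≤ finrank (ZMod 2) V)
    (h2 : ∀ a b a' b' : V, a ≠ 0 → b ≠ 0 → a ≠ b → a' ≠ 0 → b' ≠ 0 → a' ≠ b' →
      ∃ g ∈ Γ, g a = a' ∧ g b = b')
    (hPΓ : P ≤ Γ) (hnorm : ∀ g ∈ Γ, ∀ x ∈ P, g * x * g⁻¹ ∈ P) (hsol : Group.IsSolvable P) :
    P = ⊥ := by
  classical
  obtain ⟨N, hN⟩ := (Group.isSolvable_def P).1 hsol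
  by_contra hne
  have hex : ∃ i, derivedSeries P i = ⊥ := ⟨N, hN⟩
  set i0 := Nat.find hex with hi0
  have hi : derivedSeries P i0 = ⊥ := Nat.find_spec hex
  have h0 : i0 ≠ 0 := by
    intro e
    rw [e, derivedSeries_zero] at hi
    apply hne
    rw [Subgroup.eq_bot_iff_forall]
    intro x hx
    have : (⟨x, hx⟩ : P) ∈ (⊥ : Subgroup P) := hi ▸ Subgroup.mem_top _
    exact congrArg Subtype.val (Subgroup.mem_bot.1 this)
  obtain ⟨i, hi'⟩ := Nat.exists_eq_succ_of_ne_zero h0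
  set E := (derivedSeries P i).map P.subtype with hE
  have hEne : E ≠ ⊥ := by
    rw [hE, Ne, Subgroup.map_eq_bot_iff_of_injective _ P.subtype_injective]
    exact Nat.find_min hex (by omega)
  refine hEne (no_normal_abelian Γ E hk h2 ((Subgroup.map_subtype_le _).trans hPΓ) ?_ ?_)
  · intro g hg e he
    have hgP : g ∈ Subgroup.normalizer (P : Set (V ≃ₗ[ZMod 2] V)) := by
      rw [Subgroup.mem_normalizer_iff]
      intro x
      refine ⟨hnorm g hg x, fun hx => ?_⟩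
      have := hnorm g⁻¹ (inv_mem hg) _ hx
      simpa [mul_assoc] using this
    exact (Subgroup.mem_normalizer_iff.1
      (H53.le_normalizer_map_characteristic (H := P) (A := Subgroup.zpowers g) (derivedSeries P i)
        (Subgroup.zpowers_le.2 hgP) (Subgroup.mem_zpowers g)) e).1 he
  · rintro _ ⟨x, hx, rfl⟩ _ ⟨y, hy, rfl⟩
    have : ⁅x, y⁆ ∈ derivedSeries P (i + 1) := by
      rw [derivedSeries_succ]; exact Subgroup.commutator_mem_commutator hx hy
    rw [← Nat.succ_eq_add_one, ← hi', hi, Subgroup.mem_bot, commutatorElement_eq_one_iff_mul_comm] at this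
    exact congrArg Subtype.val this

/-- The action of a normalising group on an invariant subspace. -/
def resHom (N : Subgroup (V ≃ₗ[ZMod 2] V)) (U : Submodule (ZMod 2) V)
    (h : ∀ g ∈ N, ∀ v ∈ U, g v ∈ U) : N →* (U ≃ₗ[ZMod 2] U) where
  toFun g :=
    { toFun := fun v => ⟨(g : V ≃ₗ[ZMod 2] V) (v : V), h g g.2 v v.2⟩
      invFun := fun v => ⟨(g⁻¹ : N).1 (v : V), h _ (g⁻¹ : N).2 v v.2⟩
      map_add' := fun v w => Subtype.ext (map_add (g : V ≃ₗ[ZMod 2] V) (v : V) w)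
      map_smul' := fun c v => Subtype.ext (map_smul (g : V ≃ₗ[ZMod 2] V) c (v : V))
      left_inv := fun v => Subtype.ext (by
        show ((g : V ≃ₗ[ZMod 2] V))⁻¹ ((g : V ≃ₗ[ZMod 2] V) v) = v
        rw [← LinearEquiv.mul_apply, inv_mul_cancel]; rfl)
      right_inv := fun v => Subtype.ext (by
        show (g : V ≃ₗ[ZMod 2] V) (((g : V ≃ₗ[ZMod 2] V))⁻¹ v) = v
        rw [← LinearEquiv.mul_apply, mul_inv_cancel]; rfl) }
  map_one' := LinearEquiv.ext fun v => Subtype.ext rfl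
  map_mul' g k := LinearEquiv.ext fun v => Subtype.ext rfl

variable {A : Subgroup (V ≃ₗ[ZMod 2] V)} {n w d : ℕ}

theorem fixedBy'_le_of_le {H K : Subgroup (V ≃ₗ[ZMod 2] V)} (h : H ≤ K) :
    fixedBy' (K : Set (V ≃ₗ[ZMod 2] V)) ≤ fixedBy' (H : Set (V ≃ₗ[ZMod 2] V)) :=
  fun _ hv g hg => hv g (h hg)

/-- The normaliser of `R` in `A`. -/
def normIn (A R : Subgroup (V ≃ₗ[ZMod 2] V)) : Subgroup (V ≃ₗ[ZMod 2] V) :=
  A ⊓ Subgroup.normalizer (R : Set (V ≃ₗ[ZMod 2] V))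

theorem normIn_iff {R : Subgroup (V ≃ₗ[ZMod 2] V)} {g : V ≃ₗ[ZMod 2] V} (hg : g ∈ normIn A R) :
    ∀ z, z ∈ R ↔ g * z * g⁻¹ ∈ R :=
  Subgroup.mem_normalizer_iff.1 hg.2

theorem normIn_fixed {R : Subgroup (V ≃ₗ[ZMod 2] V)} :
    ∀ g ∈ normIn A R, ∀ v ∈ fixedBy' (R : Set (V ≃ₗ[ZMod 2] V)),
      g v ∈ fixedBy' (R : Set (V ≃ₗ[ZMod 2] V)) :=
  fun _ hg _ hv => apply_mem_fixedBy (normIn_iff hg) hv

/-- The data of a Sylow subgroup of the stabiliser of a pair. -/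
structure WittData (A : Subgroup (V ≃ₗ[ZMod 2] V)) (n w d r e : ℕ) (a b : V)
    (R : Subgroup (V ≃ₗ[ZMod 2] V)) : Prop where
  geom : Geom A n w d
  ha : a ≠ 0
  hb : b ≠ 0
  hab : a ≠ b
  le : R ≤ st2 A a b
  pgroup : IsPGroup r R
  outside : ∀ c, c ∉ W A a b → r ^ e ∣ (orbit R c).ncard
  two : ∀ a1 b1 a2 b2 : V, a1 ∈ fixedBy' (R : Set (V ≃ₗ[ZMod 2] V)) →
    b1 ∈ fixedBy' (R : Set (V ≃ₗ[ZMod 2] V)) → a2 ∈ fixedBy' (R : Set (V ≃ₗ[ZMod 2] V)) →
    b2 ∈ fixedBy' (R : Set (V ≃ₗ[ZMod 2] V)) → a1 ≠ 0 → b1 ≠ 0 → a1 ≠ b1 → a2 ≠ 0 → b2 ≠ 0 →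
    a2 ≠ b2 → ∃ g ∈ normIn A R, g a1 = a2 ∧ g b1 = b2

theorem Geom.exists_witt (g : Geom A n w d) (r e : ℕ) [Fact r.Prime] (hdiv : r ^ e ∣ 2 ^ d - 1) :
    ∃ a b R, WittData A n w d r e a b R := by
  classical
  have h := g.setup
  obtain ⟨a, ha⟩ : ∃ a : V, a ≠ 0 := by
    obtain ⟨b, hb, -⟩ := h.exists_third 0
    exact ⟨b, hb⟩
  obtain ⟨b, hb, hba⟩ := h.exists_third a
  set K := st2 A a b with hK
  obtain ⟨P⟩ : Nonempty (Sylow r K) := inferInstance
  set R := (P : Subgroup K).map K.subtype with hR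
  have hRK : R ≤ K := Subgroup.map_subtype_le _
  have hRcard : Nat.card R = Nat.card (P : Subgroup K) :=
    (Nat.card_congr ((P : Subgroup K).equivMapOfInjective _ K.subtype_injective).toEquiv).symm
  have hRp : IsPGroup r R := P.isPGroup'.map _
  refine ⟨a, b, R, g, ha, hb, hba.symm, hRK, hRp, ?_, ?_⟩
  · intro c hc
    have hdvd := hdiv.trans (g.dvd_orbit_outside (show NR A a b c from ⟨ha, hb, hba.symm, hc⟩))
    have e1 := orbit_card_mul K c
    have e2 := orbit_card_mul R c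
    obtain ⟨t, ht⟩ : Nat.card (R ⊓ stabilizer (V ≃ₗ[ZMod 2] V) c : Subgroup _) ∣
        Nat.card (K ⊓ stabilizer (V ≃ₗ[ZMod 2] V) c : Subgroup _) :=
      Subgroup.card_dvd_of_le (inf_le_inf_right _ hRK)
    obtain ⟨m, hm⟩ : Nat.card R ∣ Nat.card K := Subgroup.card_dvd_of_le hRK
    have hidx : m = (P : Subgroup K).index := by
      apply Nat.eq_of_mul_eq_mul_left (Nat.card_pos (α := R))
      rw [← hm, hRcard, Subgroup.card_mul_index]
    have hrm : Nat.Coprime (r ^ e) m := by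
      rw [hidx]
      exact ((Fact.out : r.Prime).coprime_iff_not_dvd.2 P.not_dvd_index).pow_left e
    have key : (orbit R c).ncard * m = (orbit K c).ncard * t := by
      apply Nat.eq_of_mul_eq_mul_right
        (Nat.card_pos (α := (R ⊓ stabilizer (V ≃ₗ[ZMod 2] V) c : Subgroup _)))
      rw [mul_right_comm, e2, mul_assoc, mul_comm t, ← ht, e1, hm]
    exact hrm.dvd_of_dvd_mul_right ((hdvd.mul_right t).trans (dvd_of_eq key.symm))
  · -- from the base pair to any pair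
    have base : ∀ a' b' : V, a' ∈ fixedBy' (R : Set (V ≃ₗ[ZMod 2] V)) →
        b' ∈ fixedBy' (R : Set (V ≃ₗ[ZMod 2] V)) → a' ≠ 0 → b' ≠ 0 → a' ≠ b' →
        ∃ k ∈ normIn A R, k a = a' ∧ k b = b' := by
      intro a' b' ha'R hb'R ha' hb' hab'
      obtain ⟨k, hk, hka, hkb⟩ := h.two a b a' b' ha hb hba.symm ha' hb' hab'
      set K' := st2 A a' b' with hK'
      have hRA : R ≤ A := fun x hx => (mem_st2.1 (hRK hx)).1
      have hRK' : R ≤ K' := fun x hx => mem_st2.2 ⟨hRA hx, ha'R x hx, hb'R x hx⟩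
      set R' := R.map (MulAut.conj k).toMonoidHom with hR'
      have hR'K' : R' ≤ K' := by
        rintro _ ⟨x, hx, rfl⟩
        obtain ⟨hxA, hxa, hxb⟩ := mem_st2.1 (hRK hx)
        have hc : ∀ z, k⁻¹ (k z) = z := fun z => by
          rw [← LinearEquiv.mul_apply, inv_mul_cancel]; rfl
        refine mem_st2.2 ⟨mul_mem (mul_mem hk hxA) (inv_mem hk), ?_, ?_⟩
        · show (k * x * k⁻¹) a' = a'
          rw [← hka, LinearEquiv.mul_apply, LinearEquiv.mul_apply, hc, hxa]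
        · show (k * x * k⁻¹) b' = b'
          rw [← hkb, LinearEquiv.mul_apply, LinearEquiv.mul_apply, hc, hxb]
      have hKK' : Nat.card K' = Nat.card K := by
        have e1 := (h.card_A ha hb hba.symm).1
        have e2 := (h.card_A ha' hb' hab').1
        rw [e1] at e2
        have h32 := h.two_pow_ge
        exact (Nat.eq_of_mul_eq_mul_left (by omega) (Nat.eq_of_mul_eq_mul_left (by omega) e2)).symm
      have hcard : ∀ S : Subgroup (V ≃ₗ[ZMod 2] V), S ≤ K' → Nat.card S = Nat.card R →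
          Nat.card (S.subgroupOf K') = r ^ (Nat.card K').factorization r := by
        intro S hS hSc
        rw [Nat.card_congr (Subgroup.subgroupOfEquivOfLe hS).toEquiv, hSc, hRcard, hKK',
          P.card_eq_multiplicity]
      have hR'c : Nat.card R' = Nat.card R :=
        (Nat.card_congr (R.equivMapOfInjective _ (MulAut.conj k).injective).toEquiv).symm
      obtain ⟨u, hu⟩ := MulAction.exists_smul_eq K'
        (Sylow.ofCard (R'.subgroupOf K') (hcard R' hR'K' hR'c))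
        (Sylow.ofCard (R.subgroupOf K') (hcard R hRK' rfl))
      refine ⟨(u : V ≃ₗ[ZMod 2] V) * k, ⟨mul_mem (mem_st2.1 u.2).1 hk, ?_⟩, ?_, ?_⟩
      · have hmaps : ∀ x ∈ R, ((u : V ≃ₗ[ZMod 2] V) * k) * x * ((u : V ≃ₗ[ZMod 2] V) * k)⁻¹ ∈ R := by
          intro x hx
          have h1 : (⟨k * x * k⁻¹, hR'K' ⟨x, hx, rfl⟩⟩ : K') ∈ R'.subgroupOf K' := ⟨x, hx, rfl⟩
          have h2 : u * ⟨k * x * k⁻¹, hR'K' ⟨x, hx, rfl⟩⟩ * u⁻¹ ∈ R.subgroupOf K' := by
            have h3 := Subgroup.smul_mem_pointwise_smul _ (MulAut.conj u) _ h1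
            rw [MulAut.smul_def, MulAut.conj_apply] at h3
            have h4 := congrArg (fun Q : Sylow r K' => (Q : Subgroup K')) hu
            simp only [Sylow.coe_subgroup_smul, Sylow.coe_ofCard] at h4
            rw [h4] at h3
            exact h3
          simpa [Subgroup.mem_subgroupOf, mul_assoc] using h2
        show _ ∈ Subgroup.normalizer (R : Set (V ≃ₗ[ZMod 2] V))
        rw [Subgroup.mem_normalizer_iff]
        intro z
        refine ⟨hmaps z, fun hz => ?_⟩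
        have himg : R.map (MulAut.conj ((u : V ≃ₗ[ZMod 2] V) * k)).toMonoidHom = R := by
          refine Subgroup.eq_of_le_of_card_ge (fun y ⟨x, hx, e⟩ => e ▸ hmaps x hx) ?_
          rw [← Nat.card_congr (R.equivMapOfInjective
            (MulAut.conj ((u : V ≃ₗ[ZMod 2] V) * k)).toMonoidHom
            (MulAut.conj ((u : V ≃ₗ[ZMod 2] V) * k)).injective).toEquiv]
        rw [← himg] at hz
        obtain ⟨x, hx, e⟩ := hz
        have : x = z := (MulAut.conj ((u : V ≃ₗ[ZMod 2] V) * k)).injective e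
        exact this ▸ hx
      · rw [LinearEquiv.mul_apply, hka, (mem_st2.1 u.2).2.1]
      · rw [LinearEquiv.mul_apply, hkb, (mem_st2.1 u.2).2.2]
    intro a1 b1 a2 b2 h1 h2 h3 h4 h5 h6 h7 h8 h9 h10
    obtain ⟨k1, hk1, e1, e2⟩ := base a1 b1 h1 h2 h5 h6 h7
    obtain ⟨k2, hk2, e3, e4⟩ := base a2 b2 h3 h4 h8 h9 h10
    have hc : ∀ z, k1⁻¹ (k1 z) = z := fun z => by
      rw [← LinearEquiv.mul_apply, inv_mul_cancel]; rfl
    refine ⟨k2 * k1⁻¹, mul_mem hk2 (inv_mem hk1), ?_, ?_⟩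
    · rw [LinearEquiv.mul_apply, ← e1, hc, e3]
    · rw [LinearEquiv.mul_apply, ← e2, hc, e4]

variable {r e : ℕ} {a b : V} {R : Subgroup (V ≃ₗ[ZMod 2] V)}

theorem WittData.left_mem (D : WittData A n w d r e a b R) :
    a ∈ fixedBy' (R : Set (V ≃ₗ[ZMod 2] V)) := fun _ hg => (mem_st2.1 (D.le hg)).2.1

theorem WittData.right_mem (D : WittData A n w d r e a b R) :
    b ∈ fixedBy' (R : Set (V ≃ₗ[ZMod 2] V)) := fun _ hg => (mem_st2.1 (D.le hg)).2.2

theorem WittData.le_A (D : WittData A n w d r e a b R) : R ≤ A :=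
  fun _ hx => (mem_st2.1 (D.le hx)).1

theorem WittData.fixed_le_W [Fact r.Prime] (D : WittData A n w d r e a b R) (he : 0 < e) :
    fixedBy' (R : Set (V ≃ₗ[ZMod 2] V)) ≤ W A a b := by
  intro c hc
  by_contra hcW
  have h1 := D.outside c hcW
  have h2 : (orbit R c).ncard = 1 := by
    rw [Set.ncard_eq_one]
    refine ⟨c, Set.eq_singleton_iff_unique_mem.2 ⟨mem_orbit_self c, ?_⟩⟩
    rintro _ ⟨g, rfl⟩
    exact hc g g.2
  rw [h2, Nat.dvd_one] at h1
  exact (Nat.one_lt_pow he.ne' (Fact.out : r.Prime).one_lt).ne' h1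

theorem WittData.finrank_fixed [Fact r.Prime] (D : WittData A n w d r e a b R) (he : 0 < e) :
    2 ≤ finrank (ZMod 2) (fixedBy' (R : Set (V ≃ₗ[ZMod 2] V))) ∧
      finrank (ZMod 2) (fixedBy' (R : Set (V ≃ₗ[ZMod 2] V))) ≤ w := by
  constructor
  · set U := fixedBy' (R : Set (V ≃ₗ[ZMod 2] V))
    have hsub : ({0, a, b} : Set V) ⊆ (U : Set V) := by
      rintro x (rfl | rfl | rfl)
      · exact U.zero_mem
      · exact D.left_mem
      · exact D.right_mem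
    have h1 := Set.ncard_le_ncard hsub
    rw [Set.ncard_insert_of_notMem (by simp [Ne.symm D.ha, Ne.symm D.hb]) (Set.toFinite _),
      Set.ncard_pair D.hab, ← Nat.card_coe_set_eq (U : Set V), SetLike.coe_sort_coe,
      natCard_eq_two_pow] at h1
    by_contra hc
    interval_cases finrank (ZMod 2) U <;> omega
  · rw [← D.geom.hw a b D.ha D.hb D.hab]
    exact Submodule.finrank_mono (D.fixed_le_W he)

theorem WittData.ne_bot [Fact r.Prime] (D : WittData A n w d r e a b R) (he : 0 < e) : R ≠ ⊥ := by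
  intro hR
  obtain ⟨c, hc⟩ : ∃ c, c ∉ W A a b := by
    by_contra hcon
    push Not at hcon
    exact D.geom.setup.W_ne_top D.ha D.hb D.hab (Submodule.eq_top_iff'.2 hcon)
  refine hc (D.fixed_le_W he fun g hg => ?_)
  rw [hR] at hg
  rw [Subgroup.mem_bot.1 hg]
  rfl

theorem odd_card_of_pGroup {G : Type*} [Group G] [Finite G] {r : ℕ} [Fact r.Prime] (hr : r ≠ 2)
    (hG : IsPGroup r G) : Odd (Nat.card G) := by
  obtain ⟨i, hi⟩ := IsPGroup.iff_card.1 hG
  rw [hi]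
  exact ((Fact.out : r.Prime).odd_of_ne_two hr).pow

/-- A normal subgroup of the normaliser moving a fixed vector of `R` is not solvable. -/
theorem WittData.not_solvable [Fact r.Prime] (D : WittData A n w d r e a b R)
    (hk : 3 ≤ finrank (ZMod 2) (fixedBy' (R : Set (V ≃ₗ[ZMod 2] V))))
    {P : Subgroup (V ≃ₗ[ZMod 2] V)} (hP : P ≤ normIn A R)
    (hn : ∀ g ∈ normIn A R, ∀ x ∈ P, g * x * g⁻¹ ∈ P)
    (hmove : ∃ x ∈ P, ∃ u ∈ fixedBy' (R : Set (V ≃ₗ[ZMod 2] V)), x u ≠ u) :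
    ¬ Group.IsSolvable P := by
  intro hsol
  set U := fixedBy' (R : Set (V ≃ₗ[ZMod 2] V)) with hU
  set ρ := resHom (normIn A R) U normIn_fixed with hρ
  haveI : Group.IsSolvable P := hsol
  haveI : Group.IsSolvable (P.subgroupOf (normIn A R)) :=
    Group.isSolvable_of_isSolvable_injective (Subgroup.subgroupOfEquivOfLe hP).injective
      (f := (Subgroup.subgroupOfEquivOfLe hP).toMonoidHom)
  have hbot : (P.subgroupOf (normIn A R)).map ρ = ⊥ := by
    refine no_solvable_normal ρ.range _ hk ?_ (Subgroup.map_le_range _ _) ?_ ?_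
    · intro a1 b1 a2 b2 h5 h6 h7 h8 h9 h10
      obtain ⟨g, hg, e1, e2⟩ := D.two a1 b1 a2 b2 a1.2 b1.2 a2.2 b2.2
        (fun e => h5 (Subtype.ext e)) (fun e => h6 (Subtype.ext e)) (fun e => h7 (Subtype.ext e))
        (fun e => h8 (Subtype.ext e)) (fun e => h9 (Subtype.ext e)) (fun e => h10 (Subtype.ext e))
      exact ⟨ρ ⟨g, hg⟩, ⟨_, rfl⟩, Subtype.ext e1, Subtype.ext e2⟩
    · rintro _ ⟨g, rfl⟩ _ ⟨x, hx, rfl⟩
      exact ⟨g * x * g⁻¹, hn g g.2 x hx, by simp⟩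
    · exact Group.isSolvable_of_surjective (ρ.subgroupMap_surjective (P.subgroupOf (normIn A R)))
  obtain ⟨x, hx, u, hu, hxu⟩ := hmove
  apply hxu
  have : ρ ⟨x, hP hx⟩ ∈ (⊥ : Subgroup _) := hbot ▸ ⟨⟨x, hP hx⟩, hx, rfl⟩
  rw [Subgroup.mem_bot] at this
  exact congrArg Subtype.val (LinearEquiv.congr_fun this ⟨u, hu⟩)

/-- A normal subgroup moving a fixed vector is transitive on the nonzero fixed vectors. -/
theorem WittData.trans_of_moves (D : WittData A n w d r e a b R) {P : Subgroup (V ≃ₗ[ZMod 2] V)}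
    (hP : P ≤ normIn A R) (hn : ∀ g ∈ normIn A R, ∀ x ∈ P, g * x * g⁻¹ ∈ P)
    (hmove : ∃ x ∈ P, ∃ u ∈ fixedBy' (R : Set (V ≃ₗ[ZMod 2] V)), x u ≠ u) :
    ∃ u ∈ fixedBy' (R : Set (V ≃ₗ[ZMod 2] V)), u ≠ 0 ∧
      ∀ v ∈ fixedBy' (R : Set (V ≃ₗ[ZMod 2] V)), v ≠ 0 → ∃ x ∈ P, x u = v := by
  obtain ⟨x, hx, u, hu, hxu⟩ := hmove
  have hu0 : u ≠ 0 := fun e => hxu (by rw [e, map_zero])
  have hxu0 : x u ≠ 0 := fun e => hu0 (x.map_eq_zero_iff.1 e)
  refine ⟨u, hu, hu0, fun v hv hv0 => ?_⟩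
  rcases eq_or_ne v u with rfl | hvu
  · exact ⟨1, one_mem P, rfl⟩
  obtain ⟨g, hg, e1, e2⟩ := D.two u (x u) u v hu (normIn_fixed x (hP hx) u hu) hu hv hu0 hxu0
    (Ne.symm hxu) hu0 hv0 hvu.symm
  refine ⟨g * x * g⁻¹, hn g hg x hx, ?_⟩
  have : g⁻¹ u = u := by
    conv_lhs => rw [← e1]
    rw [← LinearEquiv.mul_apply, inv_mul_cancel]; rfl
  rw [LinearEquiv.mul_apply, LinearEquiv.mul_apply, this, e2]

/-- An element of prime power order moving a fixed vector. -/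
theorem WittData.exists_moving (D : WittData A n w d r e a b R) {P : Subgroup (V ≃ₗ[ZMod 2] V)}
    (hP : P ≤ normIn A R) (hn : ∀ g ∈ normIn A R, ∀ x ∈ P, g * x * g⁻¹ ∈ P)
    (hmove : ∃ x ∈ P, ∃ u ∈ fixedBy' (R : Set (V ≃ₗ[ZMod 2] V)), x u ≠ u) (s : ℕ) [Fact s.Prime]
    (hs : s ∣ 2 ^ finrank (ZMod 2) (fixedBy' (R : Set (V ≃ₗ[ZMod 2] V))) - 1) :
    ∃ x ∈ P, IsPGroup s (Subgroup.zpowers x) ∧
      ∃ u ∈ fixedBy' (R : Set (V ≃ₗ[ZMod 2] V)), x u ≠ u := by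
  set U := fixedBy' (R : Set (V ≃ₗ[ZMod 2] V)) with hU
  obtain ⟨u, hu, hu0, htr⟩ := D.trans_of_moves hP hn hmove
  have horb : orbit P u = (U : Set V) \ {0} := by
    ext v
    constructor
    · rintro ⟨g, rfl⟩
      exact ⟨normIn_fixed _ (hP g.2) u hu, fun e => hu0 ((g : V ≃ₗ[ZMod 2] V).map_eq_zero_iff.1 e)⟩
    · rintro ⟨hv, hv0⟩
      obtain ⟨x, hx, e⟩ := htr v hv hv0
      exact ⟨⟨x, hx⟩, e⟩
  have e1 := orbit_card_mul P u
  rw [horb, Set.ncard_sdiff_singleton_of_mem U.zero_mem, ← Nat.card_coe_set_eq,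
    SetLike.coe_sort_coe, natCard_eq_two_pow] at e1
  obtain ⟨S⟩ : Nonempty (Sylow s P) := inferInstance
  by_contra hcon
  push Not at hcon
  have hle : (S : Subgroup P).map P.subtype ≤ P ⊓ stabilizer (V ≃ₗ[ZMod 2] V) u := by
    rintro _ ⟨x, hx, rfl⟩
    refine ⟨x.2, mem_stabilizer_iff.2 (hcon x x.2 ?_ u hu)⟩
    refine (S.isPGroup'.map P.subtype).to_le ?_
    rw [Subgroup.zpowers_le]
    exact ⟨x, hx, rfl⟩
  obtain ⟨t, ht⟩ := Subgroup.card_dvd_of_le hle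
  rw [← Nat.card_congr ((S : Subgroup P).equivMapOfInjective _ P.subtype_injective).toEquiv] at ht
  apply S.not_dvd_index
  have e2 := Subgroup.card_mul_index (S : Subgroup P)
  have : (S : Subgroup P).index = (2 ^ finrank (ZMod 2) U - 1) * t := by
    apply Nat.eq_of_mul_eq_mul_left (Nat.card_pos (α := (S : Subgroup P)))
    rw [e2, ← e1, ht]
    ring
  rw [this]
  exact hs.mul_right t

/-- The final contradiction. -/
theorem WittData.finish [Fact r.Prime] (D : WittData A n w d r e a b R)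
    (hk : 3 ≤ finrank (ZMod 2) (fixedBy' (R : Set (V ≃ₗ[ZMod 2] V))))
    {Z : Subgroup (V ≃ₗ[ZMod 2] V)} (hZodd : Odd (Nat.card Z))
    (hZnorm : ∀ g ∈ normIn A R, ∀ z, z ∈ Z ↔ g * z * g⁻¹ ∈ Z)
    {C : Subgroup (V ≃ₗ[ZMod 2] V)} (hC : C ≤ normIn A R)
    (hCn : ∀ g ∈ normIn A R, ∀ x ∈ C, g * x * g⁻¹ ∈ C)
    (hbig : n < finrank (ZMod 2) (movedPart Z) + 2 * min d (w - 1))
    {x : V ≃ₗ[ZMod 2] V} (hx : x ∈ C) (hxM : ∀ v ∈ movedPart Z, x v = v)
    (hxU : ∃ u ∈ fixedBy' (R : Set (V ≃ₗ[ZMod 2] V)), x u ≠ u) : False := by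
  set P := C ⊓ fixingSub (movedPart Z) with hP
  have hns : ¬ Group.IsSolvable P := by
    refine D.not_solvable hk (inf_le_left.trans hC) ?_ ⟨x, ⟨hx, hxM⟩, hxU⟩
    rintro g hg y ⟨hy, hyM⟩
    refine ⟨hCn g hg y hy, fun v hv => ?_⟩
    have h1 : g⁻¹ v ∈ movedPart Z :=
      apply_mem_movedPart (hZnorm g⁻¹ (inv_mem hg)) hv
    rw [LinearEquiv.mul_apply, LinearEquiv.mul_apply, hyM _ h1, ← LinearEquiv.mul_apply,
      mul_inv_cancel]
    rfl
  have heven : 2 ∣ Nat.card P := by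
    by_contra hodd
    exact hns (Cfsg.Agent.S0205.result (Nat.odd_iff.2 (by omega)))
  haveI : Fact (Nat.Prime 2) := ⟨Nat.prime_two⟩
  obtain ⟨z, hz⟩ := exists_prime_orderOf_dvd_card' (G := P) 2 heven
  have hz' : orderOf (z : V ≃ₗ[ZMod 2] V) = 2 := by rw [Subgroup.orderOf_coe, hz]
  have hzN : (z : V ≃ₗ[ZMod 2] V) ∈ normIn A R := hC z.2.1
  have hle := D.geom.no_involution hzN.1
    (by
      have h2 := pow_orderOf_eq_one (z : V ≃ₗ[ZMod 2] V)
      rw [hz'] at h2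
      rwa [← pow_two]) (fun e => by simp [e] at hz')
    (isCompl_movedPart hZodd).symm z.2.2 (fun v hv => apply_mem_fixedBy (hZnorm _ hzN) hv)
  omega

end Cfsg.Agent.H45.Mersenne
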